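import Mathlib

/-!
Owner: helper12. `GL₃(2)` as a projective special linear group, and `S₆` inside `S₇` and `A₈`.
-/

set_option autoImplicit false

namespace CfsgLib.RankFourQuotient

theorem units_two : ∀ a b : (ZMod 2)ˣ, a = b := by decide

theorem nonempty_gl_three_two :
    Nonempty (GL (Fin 3) (ZMod 2) ≃* Matrix.ProjectiveSpecialLinearGroup (Fin 3) (ZMod 2)) := by
  haveI : Subsingleton (ZMod 2)ˣ := ⟨units_two⟩
  let toSL : GL (Fin 3) (ZMod 2) ≃* Matrix.SpecialLinearGroup (Fin 3) (ZMod 2) :=
    { toFun := fun A => ⟨(A : Matrix (Fin 3) (Fin 3) (ZMod 2)),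
        (Matrix.GeneralLinearGroup.val_det_apply A).symm.trans
          (by rw [Subsingleton.elim (Matrix.GeneralLinearGroup.det A) 1, Units.val_one])⟩
      invFun := Matrix.SpecialLinearGroup.toGL
      left_inv := fun A => Units.ext rfl
      right_inv := fun A => Subtype.ext rfl
      map_mul' := fun A B => Subtype.ext (Units.val_mul A B) }
  have hcen : Subgroup.center (Matrix.SpecialLinearGroup (Fin 3) (ZMod 2)) = ⊥ := by
    rw [eq_bot_iff]
    intro A hA
    have h := Subsingleton.elim
      (Matrix.SpecialLinearGroup.center_equiv_rootsOfUnity ⟨A, hA⟩)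
      (Matrix.SpecialLinearGroup.center_equiv_rootsOfUnity 1)
    exact congrArg Subtype.val ((MulEquiv.injective _) h)
  exact ⟨toSL.trans (QuotientGroup.quotientBot.symm.trans
    (QuotientGroup.quotientMulEquivOfEq hcen.symm))⟩

theorem exists_sym_six_seven : ∃ f : Equiv.Perm (Fin 6) →* Equiv.Perm (Fin 7), Function.Injective f :=
  ⟨Equiv.Perm.viaEmbeddingHom Fin.castSuccEmb, Equiv.Perm.viaEmbeddingHom_injective _⟩

/-- The sign as a permutation of two points. -/
def signPair : ℤˣ →* Equiv.Perm (Fin 2) where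
  toFun u := if u = 1 then 1 else Equiv.swap 0 1
  map_one' := by decide
  map_mul' := by decide

theorem sign_signPair : ∀ u : ℤˣ, Equiv.Perm.sign (signPair u) = u := by decide

theorem exists_sym_six_alt_eight :
    ∃ f : Equiv.Perm (Fin 6) →* alternatingGroup (Fin 8), Function.Injective f := by
  let g : Equiv.Perm (Fin 6) →* Equiv.Perm (Fin 8) :=
    (Equiv.permCongrHom (finSumFinEquiv (m := 6) (n := 2))).toMonoidHom.comp
      ((Equiv.Perm.sumCongrHom (Fin 6) (Fin 2)).comp
        ((MonoidHom.id _).prod (signPair.comp Equiv.Perm.sign)))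
  have hsign : ∀ σ, g σ ∈ alternatingGroup (Fin 8) := by
    intro σ
    show Equiv.Perm.sign ((finSumFinEquiv (m := 6) (n := 2)).permCongr
      (Equiv.Perm.sumCongr σ (signPair (Equiv.Perm.sign σ)))) = 1
    rw [Equiv.Perm.sign_permCongr, Equiv.Perm.sign_sumCongr, sign_signPair, Int.units_mul_self]
  refine ⟨g.codRestrict _ hsign, fun a b h => ?_⟩
  have h1 := (Equiv.permCongrHom (finSumFinEquiv (m := 6) (n := 2))).injective
    (congrArg Subtype.val h :)
  exact congrArg Prod.fst (Equiv.Perm.sumCongrHom_injective h1)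

end CfsgLib.RankFourQuotient
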