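import Cfsg.Agent.Lib.Known.GLFourTwoMain
import Cfsg.Agent.Lib.Signalizer.Solvable.Cores

/-!
Owner: helper12. Insoluble subgroups of `A₈` with trivial `O₂`.
-/

set_option autoImplicit false
set_option maxHeartbeats 400000
set_option linter.style.haveILetI false

namespace CfsgLib.RankFourQuotient

open Subgroup
open CfsgLib.Known.GLFourTwo

variable {R : Subgroup (alternatingGroup (Fin 8))}

theorem exists_five_or_seven (hns : ¬ Group.IsSolvable R) :
    ∃ (q : ℕ) (g : R), (q = 5 ∨ q = 7) ∧ orderOf g = q := by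
  by_cases h5 : 5 ∣ Nat.card R
  · haveI : Fact (Nat.Prime 5) := ⟨by norm_num⟩
    obtain ⟨g, hg⟩ := exists_prime_orderOf_dvd_card' 5 h5
    exact ⟨5, g, Or.inl rfl, hg⟩
  by_cases h7 : 7 ∣ Nat.card R
  · haveI : Fact (Nat.Prime 7) := ⟨by norm_num⟩
    obtain ⟨g, hg⟩ := exists_prime_orderOf_dvd_card' 7 h7
    exact ⟨7, g, Or.inr rfl, hg⟩
  exfalso
  have hd : Nat.card R ∣ 2 ^ 6 * 3 ^ 2 * (5 * 7) := by
    have h : (2 : ℕ) ^ 6 * 3 ^ 2 * (5 * 7) = 20160 := by norm_num
    rw [h, ← card_A8]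
    exact Subgroup.card_subgroup_dvd_card R
  have hc : (Nat.card R).Coprime (5 * 7) :=
    ((Nat.prime_five.coprime_iff_not_dvd.2 h5).symm).mul_right
      (((by norm_num : Nat.Prime 7).coprime_iff_not_dvd.2 h7).symm)
  obtain ⟨d₁, d₂, h1, h2, hd'⟩ := Nat.dvd_mul.mp (hc.dvd_of_dvd_mul_right hd)
  obtain ⟨i, -, rfl⟩ := (Nat.dvd_prime_pow Nat.prime_two).mp h1
  obtain ⟨j, -, rfl⟩ := (Nat.dvd_prime_pow Nat.prime_three).mp h2
  exact hns (CfsgLib.Burnside.isSolvable_of_card_eq Nat.prime_two Nat.prime_three hd'.symm)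

theorem card_centralizer_dvd {q : ℕ} (hq : q = 5 ∨ q = 7) {g : R} (hg : orderOf g = q) :
    Nat.card (centralizer ({g} : Set R)) ∣ 15 ∧ q = 5 ∨
      Nat.card (centralizer ({g} : Set R)) = 7 ∧ q = 7 := by
  rcases hq with rfl | rfl
  · exact Or.inl ⟨card_centralizer_five R.subtype R.subtype_injective hg, rfl⟩
  · exact Or.inr ⟨card_centralizer_seven R.subtype R.subtype_injective hg, rfl⟩

theorem pCore_five_seven (hns : ¬ Group.IsSolvable R) {r : ℕ} (hr : r = 5 ∨ r = 7) :
    Cfsg.pCore r R = ⊥ := by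
  haveI : Fact r.Prime := ⟨by rcases hr with rfl | rfl <;> norm_num⟩
  by_contra hne
  set N := Cfsg.pCore r R with hN
  obtain ⟨k, hk⟩ := (CfsgLib.Core.isPGroup_pCore r R).exists_card_eq
  have hd : r ^ k ∣ 20160 := by
    rw [← hk, ← card_A8]
    exact (Subgroup.card_subgroup_dvd_card N).trans (Subgroup.card_subgroup_dvd_card R)
  have hk1 : k ≤ 1 := by
    by_contra hlt
    have h2 : r ^ 2 ∣ 20160 := (pow_dvd_pow r (by omega)).trans hd
    rcases hr with rfl | rfl <;> norm_num at h2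
  have hk0 : k ≠ 0 := fun h => hne (Subgroup.card_eq_one.1 (by rw [hk, h, pow_zero]))
  have hcard : Nat.card N = r := by rw [hk, show k = 1 by omega, pow_one]
  haveI : Nontrivial N := (Subgroup.nontrivial_iff_ne_bot N).2 hne
  obtain ⟨g, hg⟩ := exists_prime_orderOf_dvd_card' (G := N) r (by rw [hcard])
  have hg' : orderOf (g : R) = r := by rw [Subgroup.orderOf_coe, hg]
  have hsmall : Nat.card (centralizer ({(g : R)} : Set R)) < 60 := by
    rcases card_centralizer_dvd hr hg' with ⟨h, -⟩ | ⟨h, -⟩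
    · exact lt_of_le_of_lt (Nat.le_of_dvd (by norm_num) h) (by norm_num)
    · omega
  haveI : IsCyclic N := isCyclic_of_prime_card hcard
  set f : R →* MulAut N := MulAut.conjNormal with hf
  haveI : Group.IsSolvable (MulAut N) := isSolvable_of_lt_sixty (by
    rw [IsCyclic.card_mulAut, hcard]
    exact lt_of_le_of_lt (Nat.totient_le r) (by rcases hr with rfl | rfl <;> norm_num))
  haveI : Group.IsSolvable f.ker := by
    refine isSolvable_of_lt_sixty (lt_of_le_of_lt (Nat.le_of_dvd Nat.card_pos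
      (Subgroup.card_dvd_of_le fun x hx => ?_)) hsmall)
    rw [mem_centralizer_singleton_iff]
    have h := congrArg Subtype.val (DFunLike.congr_fun (MonoidHom.mem_ker.1 hx) g)
    rw [hf, MulAut.conjNormal_apply, MulAut.one_apply] at h
    exact mul_inv_eq_iff_eq_mul.1 h
  exact hns (Group.isSolvable_of_ker_le_range f.ker.subtype f (Subgroup.range_subtype f.ker).ge)

theorem pow_three_modEq {q j k : ℕ} (hq : q = 5 ∨ q = 7) (hk : k ≤ 2) (hj : j ≤ k)
    (h : 3 ^ k ≡ 3 ^ j [MOD q]) : j = k := by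
  unfold Nat.ModEq at h
  interval_cases k <;> interval_cases j <;> rcases hq with rfl | rfl <;>
    first | rfl | (norm_num at h)

theorem pCore_three (hns : ¬ Group.IsSolvable R) (hne : Cfsg.pCore 3 R ≠ ⊥) :
    Nat.card (Cfsg.pCore 3 R) = 3 ∧
      ∃ g : R, orderOf g = 5 ∧ Cfsg.pCore 3 R ≤ centralizer ({g} : Set R) := by
  haveI : Fact (Nat.Prime 3) := ⟨by norm_num⟩
  set N := Cfsg.pCore 3 R with hN
  obtain ⟨k, hk⟩ := (CfsgLib.Core.isPGroup_pCore 3 R).exists_card_eq
  have hd : 3 ^ k ∣ 20160 := by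
    rw [← hk, ← card_A8]
    exact (Subgroup.card_subgroup_dvd_card N).trans (Subgroup.card_subgroup_dvd_card R)
  have hk2 : k ≤ 2 := by
    by_contra hlt
    have h2 : 3 ^ 3 ∣ 20160 := (pow_dvd_pow 3 (by omega)).trans hd
    norm_num at h2
  have hk0 : k ≠ 0 := fun h => hne (Subgroup.card_eq_one.1 (by rw [hk, h, pow_zero]))
  obtain ⟨q, g, hq, hg⟩ := exists_five_or_seven hns
  haveI : Fact q.Prime := ⟨by rcases hq with rfl | rfl <;> norm_num⟩
  set P := zpowers g
  have hP : IsPGroup q P := IsPGroup.of_card (n := 1) (by rw [Nat.card_zpowers, hg, pow_one])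
  letI : MulAction P N := MulAction.compHom _ ((MulAut.conjNormal : R →* MulAut N).comp P.subtype)
  have hfix := hP.card_modEq_card_fixedPoints N
  have hle : N ≤ centralizer ({g} : Set R) := by
    set F := N ⊓ centralizer ({g} : Set R) with hF
    have hFc : Nat.card (MulAction.fixedPoints P N) = Nat.card F := by
      refine Nat.card_congr
        { toFun := fun x => ⟨(x.1 : R), x.1.2, ?_⟩
          invFun := fun y => ⟨⟨(y : R), y.2.1⟩, ?_⟩
          left_inv := fun x => rfl
          right_inv := fun y => rfl }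
      · refine mem_centralizer_singleton_iff.mpr ?_
        have h := congrArg Subtype.val (x.2 ⟨g, mem_zpowers g⟩)
        change ((MulAut.conjNormal g x.1 : N) : R) = _ at h
        rw [MulAut.conjNormal_apply, mul_inv_eq_iff_eq_mul] at h
        exact h.symm
      · rintro ⟨a, ha⟩
        apply Subtype.ext
        show ((MulAut.conjNormal a (⟨(y : R), y.2.1⟩ : N) : N) : R) = y
        rw [MulAut.conjNormal_apply, mul_inv_eq_iff_eq_mul]
        have hya : (y : R) ∈ centralizer (P : Set R) := by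
          rw [centralizer_zpowers]; exact y.2.2
        exact mem_centralizer_iff.1 hya a ha
    rw [hFc, hk] at hfix
    have hFd : Nat.card F ∣ 3 ^ k := hk ▸ Subgroup.card_dvd_of_le inf_le_left
    obtain ⟨j, hjk, hj⟩ := (Nat.dvd_prime_pow Nat.prime_three).1 hFd
    have hjeq : j = k := by
      rw [hj] at hfix
      exact pow_three_modEq hq hk2 hjk hfix
    have : F = N := Subgroup.eq_of_le_of_card_ge inf_le_left (by rw [hk, hj, hjeq])
    exact this.ge.trans inf_le_right
  have hdv := hk ▸ Subgroup.card_dvd_of_le hle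
  rcases card_centralizer_dvd hq hg with ⟨h, rfl⟩ | ⟨h, -⟩
  · refine ⟨?_, g, hg, hle⟩
    have hk1 : k = 1 := by
      by_contra hne'
      have h9 : 3 ^ 2 ∣ 15 := (show k = 2 by omega) ▸ hdv.trans h
      norm_num at h9
    rw [hk, hk1, pow_one]
  · rw [h] at hdv
    have h3' : 3 ∣ 7 := (dvd_pow_self 3 hk0).trans hdv
    norm_num at h3'

theorem noSolvNormal (hns : ¬ Group.IsSolvable R) (h2 : Cfsg.pCore 2 R = ⊥)
    (h3 : Cfsg.pCore 3 R = ⊥) : NoSolvNormal R := by
  intro N hN hs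
  haveI := hN
  haveI := hs
  by_contra hne
  obtain ⟨r, hr, hrne⟩ := CfsgLib.Signalizer.Solv.exists_oq_ne_bot hne
  haveI := Fact.mk hr
  haveI : (CfsgLib.Signalizer.Solv.oq r N).Normal := by
    rw [← normalizer_eq_top_iff]
    exact top_le_iff.1 (le_of_eq_of_le (normalizer_eq_top N).symm
      (CfsgLib.Signalizer.Solv.normalizer_le_normalizer_oq r N))
  have hpg := CfsgLib.Signalizer.Solv.oq_isPGroup r N
  have hle : CfsgLib.Signalizer.Solv.oq r N ≤ Cfsg.pCore r R := CfsgLib.Core.le_pCore hpg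
  have hrd : r ∣ 20160 := by
    obtain ⟨n, hn⟩ := hpg.exists_card_eq
    have hn0 : n ≠ 0 := fun h => hrne (Subgroup.card_eq_one.1 (by rw [hn, h, pow_zero]))
    rw [← card_A8]
    exact ((dvd_pow_self r hn0).trans (hn ▸ Subgroup.card_subgroup_dvd_card _)).trans
      (Subgroup.card_subgroup_dvd_card R)
  apply hrne
  refine le_bot_iff.1 (hle.trans (le_of_eq ?_))
  have hcases : r = 2 ∨ r = 3 ∨ r = 5 ∨ r = 7 := by
    have h : r ∣ 2 ^ 6 * (3 ^ 2 * (5 * 7)) := by norm_num; exact hrd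
    rcases hr.dvd_mul.1 h with h | h
    · exact Or.inl ((Nat.prime_dvd_prime_iff_eq hr Nat.prime_two).1 (hr.dvd_of_dvd_pow h))
    rcases hr.dvd_mul.1 h with h | h
    · exact Or.inr (Or.inl ((Nat.prime_dvd_prime_iff_eq hr Nat.prime_three).1 (hr.dvd_of_dvd_pow h)))
    rcases hr.dvd_mul.1 h with h | h
    · exact Or.inr (Or.inr (Or.inl ((Nat.prime_dvd_prime_iff_eq hr Nat.prime_five).1 h)))
    · exact Or.inr (Or.inr (Or.inr ((Nat.prime_dvd_prime_iff_eq hr (by norm_num)).1 h)))
  rcases hcases with rfl | rfl | h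
  · exact h2
  · exact h3
  · exact pCore_five_seven hns h

theorem threeCycle_spec :
    (c[5, 6, 7] : Equiv.Perm (Fin 8)) * fiveCycle = fiveCycle * c[5, 6, 7] := by decide +kernel

theorem sign_threeCycle : Equiv.Perm.sign (c[5, 6, 7] : Equiv.Perm (Fin 8)) = 1 := by decide +kernel

theorem sign_fiveCycle : Equiv.Perm.sign fiveCycle = 1 := by decide +kernel

theorem order_threeCycle : orderOf (c[5, 6, 7] : Equiv.Perm (Fin 8)) = 3 := by
  haveI : Fact (Nat.Prime 3) := ⟨by norm_num⟩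
  refine orderOf_eq_prime ?_ ?_ <;> decide +kernel

theorem support_threeCycle :
    (c[5, 6, 7] : Equiv.Perm (Fin 8)).support.card = 3 := by decide +kernel

/-- An even permutation of order three commuting with a five-cycle moves three points. -/
theorem support_card_eq_three {x g : Equiv.Perm (Fin 8)} (hg : orderOf g = 5) (hx : orderOf x = 3)
    (hxA : Equiv.Perm.sign x = 1) (hxg : x * g = g * x) : x.support.card = 3 := by
  obtain ⟨h, hh⟩ := isConj_iff.1 (Equiv.Perm.isConj_iff_cycleType_eq.2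
    ((cycleType_five_seven (Or.inl rfl) hg).trans
      (cycleType_five_seven (Or.inl rfl) order_fiveCycle).symm))
  set y := h * x * h⁻¹ with hy
  set C := centralizer ({fiveCycle} : Set (Equiv.Perm (Fin 8))) ⊓ alternatingGroup (Fin 8)
  have hyC : y ∈ C := by
    refine ⟨mem_centralizer_singleton_iff.2 ?_, ?_⟩
    · rw [hy, ← hh]
      calc h * x * h⁻¹ * (h * g * h⁻¹) = h * (x * g) * h⁻¹ := by group
        _ = h * (g * x) * h⁻¹ := by rw [hxg]
        _ = _ := by group
    · show Equiv.Perm.sign y = 1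
      simp [hy, hxA]
  have hF : fiveCycle ∈ C := ⟨mem_centralizer_singleton_iff.2 rfl, sign_fiveCycle⟩
  have hT : (c[5, 6, 7] : Equiv.Perm (Fin 8)) ∈ C :=
    ⟨mem_centralizer_singleton_iff.2 threeCycle_spec, sign_threeCycle⟩
  set A : Subgroup C := zpowers ⟨fiveCycle, hF⟩
  set B : Subgroup C := zpowers ⟨_, hT⟩
  have hA : Nat.card A = 5 := by
    rw [Nat.card_zpowers, Subgroup.orderOf_mk, order_fiveCycle]
  have hB : Nat.card B = 3 := by
    rw [Nat.card_zpowers, Subgroup.orderOf_mk, order_threeCycle]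
  have hc : IsComplement' A B := isComplement'_of_coprime
    (by rw [hA, hB, card_centralizer_alt_five order_fiveCycle]) (by rw [hA, hB]; norm_num)
  obtain ⟨⟨⟨a, ha⟩, ⟨b, hb⟩⟩, hab⟩ := hc.2 ⟨y, hyC⟩
  obtain ⟨i, rfl⟩ := mem_zpowers_iff.1 ha
  obtain ⟨j, rfl⟩ := mem_zpowers_iff.1 hb
  have hab' : fiveCycle ^ i * (c[5, 6, 7] : Equiv.Perm (Fin 8)) ^ j = y := by
    simpa using congrArg Subtype.val hab
  have hcomm : Commute (fiveCycle ^ i) ((c[5, 6, 7] : Equiv.Perm (Fin 8)) ^ j) :=
    (show Commute fiveCycle (c[5, 6, 7] : Equiv.Perm (Fin 8)) from threeCycle_spec.symm).zpow_zpow i j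
  have hy3 : y ^ 3 = 1 := by
    rw [hy, conj_pow, ← hx, pow_orderOf_eq_one, mul_one, mul_inv_cancel]
  have ht3 : ((c[5, 6, 7] : Equiv.Perm (Fin 8)) ^ j) ^ 3 = 1 := by
    rw [← zpow_natCast, ← zpow_mul, mul_comm, zpow_mul, zpow_natCast, ← order_threeCycle,
      pow_orderOf_eq_one, one_zpow]
  have hf3 : (fiveCycle ^ i) ^ 3 = 1 := by
    rw [← hab', hcomm.mul_pow, ht3, mul_one] at hy3
    exact hy3
  have hf1 : fiveCycle ^ i = 1 := by
    rw [← orderOf_eq_one_iff]
    refine Nat.dvd_one.1 (Nat.dvd_gcd (m := 3) (n := 5) (orderOf_dvd_of_pow_eq_one hf3) ?_)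
    refine orderOf_dvd_of_pow_eq_one ?_
    rw [← zpow_natCast, ← zpow_mul, mul_comm, zpow_mul, zpow_natCast, ← order_fiveCycle,
      pow_orderOf_eq_one, one_zpow]
  rw [hf1, one_mul] at hab'
  have hsupp : y.support.card = x.support.card := by
    rw [hy, Equiv.Perm.support_conj, Finset.card_map]
  have hne : x.support.card ≠ 0 := fun h0 => by
    rw [Finset.card_eq_zero, Equiv.Perm.support_eq_empty_iff] at h0
    rw [h0, orderOf_one] at hx
    omega
  refine le_antisymm ?_ ?_
  · rw [← hsupp, ← hab']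
    exact (Finset.card_le_card (Equiv.Perm.support_zpow_le _ j)).trans_eq support_threeCycle
  · have h1 : x.support.card ≠ 1 := Equiv.Perm.card_support_ne_one x
    have h2 : x.support.card ≠ 2 := fun h => by
      rw [Equiv.Perm.card_support_eq_two] at h
      rw [h.orderOf] at hx
      omega
    omega

/-- The quotient by a core of order three. -/
theorem quotient_three (hns : ¬ Group.IsSolvable R) (hne : Cfsg.pCore 3 R ≠ ⊥) :
    Nonempty (R ⧸ Cfsg.pCore 3 R ≃* alternatingGroup (Fin 5)) ∨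
      Nonempty (R ⧸ Cfsg.pCore 3 R ≃* Equiv.Perm (Fin 5)) := by
  classical
  haveI : Fact (Nat.Prime 3) := ⟨by norm_num⟩
  obtain ⟨hN, g, hg, hgN⟩ := pCore_three hns hne
  set N := Cfsg.pCore 3 R with hNdef
  obtain ⟨x, hx⟩ := exists_prime_orderOf_dvd_card' (G := N) 3 (by rw [hN])
  set ψ := (alternatingGroup (Fin 8)).subtype.comp R.subtype with hψdef
  have hψ : Function.Injective ψ :=
    (alternatingGroup (Fin 8)).subtype_injective.comp R.subtype_injective
  have hsign : ∀ r : R, Equiv.Perm.sign (ψ r) = 1 := fun r => (r : alternatingGroup (Fin 8)).2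
  set σ := ψ (x : R) with hσ
  have hσ3 : σ.support.card = 3 := by
    refine support_card_eq_three (g := ψ g) (by rw [orderOf_injective _ hψ, hg])
      (by rw [hσ, orderOf_injective _ hψ, Subgroup.orderOf_coe, hx]) (hsign _) ?_
    rw [hσ, ← map_mul, ← map_mul, mem_centralizer_singleton_iff.1 (hgN x.2)]
  have hxN : zpowers x = ⊤ := Subgroup.eq_top_of_card_eq _ (by rw [Nat.card_zpowers, hx, hN])
  have hNmem : ∀ n ∈ N, ∃ i : ℤ, ψ n = σ ^ i := by
    intro n hn
    obtain ⟨i, hi⟩ := mem_zpowers_iff.1 (hxN.ge (mem_top (⟨n, hn⟩ : N)))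
    refine ⟨i, ?_⟩
    rw [hσ, ← map_zpow]
    exact congrArg ψ (by rw [← Subgroup.coe_zpow, hi])
  have hfix : ∀ (r : R) (a : Fin 8), σ a = a → σ (ψ r a) = ψ r a := by
    intro r a ha
    obtain ⟨i, hi⟩ := hNmem _ ((inferInstance : N.Normal).conj_mem x x.2 r⁻¹)
    have h1 : ψ r⁻¹ * σ * ψ r = σ ^ i := by
      rw [← hi, hσ, map_mul, map_mul, inv_inv]
    have h2 : (ψ r⁻¹ * σ * ψ r) a = a := by
      rw [h1]
      exact Equiv.Perm.zpow_apply_eq_self_of_apply_eq_self ha i
    have h3 := congrArg (ψ r) h2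
    simpa [Equiv.Perm.mul_apply, map_inv] using h3
  have hiff : ∀ (r : R) (a : Fin 8), σ (ψ r a) = ψ r a ↔ σ a = a := fun r a => by
    refine ⟨fun h => ?_, hfix r a⟩
    have := hfix r⁻¹ _ h
    simpa [map_inv] using this
  let π : R →* Equiv.Perm {a : Fin 8 // σ a = a} :=
    { toFun := fun r => (ψ r).subtypePerm (hiff r)
      map_one' := by ext a; simp
      map_mul' := fun r s => Equiv.ext fun a => Subtype.ext (by
        show ψ (r * s) a.1 = ψ r (ψ s a.1)
        rw [map_mul, Equiv.Perm.mul_apply]) }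
  have hΔ : Fintype.card {a : Fin 8 // σ a = a} = 5 := by
    rw [Fintype.card_subtype, show (Finset.univ.filter fun a => σ a = a) = σ.supportᶜ by
      ext a; simp [Equiv.Perm.notMem_support]]
    rw [Finset.card_compl, hσ3, Fintype.card_fin]
  haveI : Nontrivial {a : Fin 8 // σ a = a} := Fintype.one_lt_card_iff_nontrivial.1 (by omega)
  have hNk : N ≤ π.ker := by
    intro n hn
    obtain ⟨i, hi⟩ := hNmem n hn
    refine MonoidHom.mem_ker.2 (Equiv.ext fun a => Subtype.ext ?_)
    show ψ n a.1 = a.1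
    rw [hi]
    exact Equiv.Perm.zpow_apply_eq_self_of_apply_eq_self a.2 i
  have hk3 : Nat.card π.ker ≤ 3 := by
    have hS : Fintype.card {a : Fin 8 // σ a ≠ a} = 3 := by
      rw [Fintype.card_subtype]; exact hσ3
    haveI : Nontrivial {a : Fin 8 // σ a ≠ a} := Fintype.one_lt_card_iff_nontrivial.1 (by omega)
    have hinv : ∀ (r : R) (a : Fin 8), σ (ψ r a) ≠ ψ r a ↔ σ a ≠ a := fun r a => not_congr (hiff r a)
    have hk : ∀ (r : π.ker) (a : Fin 8), σ a = a → ψ (r : R) a = a := fun r a ha =>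
      (congrArg Subtype.val (DFunLike.congr_fun (MonoidHom.mem_ker.1 r.2)
        (⟨a, ha⟩ : {a : Fin 8 // σ a = a})) :)
    let ρ : π.ker → alternatingGroup {a : Fin 8 // σ a ≠ a} := fun r =>
      ⟨(ψ (r : R)).subtypePerm (hinv r), by
        show Equiv.Perm.sign _ = 1
        refine (Equiv.Perm.sign_subtypePerm (ψ (r : R)) (p := fun a => σ a ≠ a) (hinv r)
          fun a ha hσa => ha (hk r a hσa)).trans (hsign r)⟩
    have hρ : Function.Injective ρ := by
      intro r s h
      refine Subtype.ext (hψ (Equiv.ext fun a => ?_))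
      by_cases ha : σ a = a
      · rw [hk r a ha, hk s a ha]
      · exact congrArg Subtype.val (DFunLike.congr_fun (congrArg Subtype.val h) ⟨a, ha⟩)
    refine (Nat.card_le_card_of_injective ρ hρ).trans (le_of_eq ?_)
    rw [nat_card_alternatingGroup, Nat.card_eq_fintype_card, hS]
    rfl
  have hker : π.ker = N := (Subgroup.eq_of_le_of_card_ge hNk (by rw [hN]; exact hk3)).symm
  have hr60 : ¬ Nat.card π.range < 60 := fun hlt => by
    haveI := isSolvable_of_lt_sixty hlt
    haveI : Group.IsSolvable π.ker := isSolvable_of_lt_sixty (by omega)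
    refine hns (Group.isSolvable_of_ker_le_range π.ker.subtype π.rangeRestrict ?_)
    rw [MonoidHom.ker_rangeRestrict, Subgroup.range_subtype]
  have hP : Nat.card (Equiv.Perm {a : Fin 8 // σ a = a}) = 120 := by
    rw [Nat.card_perm, Nat.card_eq_fintype_card, hΔ]; rfl
  have hidx := π.range.index_mul_card
  rw [hP] at hidx
  have e : R ⧸ N ≃* π.range :=
    (QuotientGroup.quotientMulEquivOfEq hker.symm).trans (QuotientGroup.quotientKerEquivRange π)
  have hi : π.range.index = 1 ∨ π.range.index = 2 := by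
    have h0 : π.range.index ≠ 0 := Subgroup.index_ne_zero_of_finite
    have h2 : ¬ 3 ≤ π.range.index := fun h => by nlinarith
    omega
  rcases hi with hi | hi
  · rw [Subgroup.index_eq_one] at hi
    exact Or.inr ⟨(e.trans (MulEquiv.subgroupCongr hi)).trans
      (Subgroup.topEquiv.trans (Equiv.permCongrHom (Fintype.equivFinOfCardEq hΔ)))⟩
  · exact Or.inl ⟨(e.trans (MulEquiv.subgroupCongr
      (Equiv.Perm.eq_alternatingGroup_of_index_eq_two hi))).trans
        (Equiv.altCongrHom (Fintype.equivFinOfCardEq hΔ))⟩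

/-- The insoluble subgroups of `A₈` with trivial `O₂`. -/
theorem insoluble_cases (hns : ¬ Group.IsSolvable R) (h2 : Cfsg.pCore 2 R = ⊥) :
    ((∃ n : ℕ, 5 ≤ n ∧ n ≤ 8 ∧ Nonempty (R ≃* alternatingGroup (Fin n))) ∨
      Nonempty (R ≃* Equiv.Perm (Fin 5)) ∨ Nonempty (R ≃* Equiv.Perm (Fin 6)) ∨
      Nonempty (R ≃* GL (Fin 3) (ZMod 2))) ∨
    (Nat.card (Cfsg.pCore 3 R) = 3 ∧
      (Nonempty (R ⧸ Cfsg.pCore 3 R ≃* alternatingGroup (Fin 5)) ∨
        Nonempty (R ⧸ Cfsg.pCore 3 R ≃* Equiv.Perm (Fin 5)))) := by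
  by_cases h3 : Cfsg.pCore 3 R = ⊥
  · left
    obtain ⟨f, hf⟩ := CfsgLib.Classical.AutRankFour.gl_four_two
    have hGL : Nat.card (GL (Fin 4) (ZMod 2)) = 20160 := by
      rw [Matrix.card_GL_field]
      simp [Finset.prod_range_succ, Fin.prod_univ_four]
    let e := MulEquiv.ofBijective f (hf.bijective_of_nat_card_le (by rw [card_A8, hGL]))
    exact classify (e.symm.toMonoidHom.comp R.subtype)
      (e.symm.injective.comp R.subtype_injective) (noSolvNormal hns h2 h3) hns
  · exact Or.inr ⟨(pCore_three hns h3).1, quotient_three hns h3⟩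

end CfsgLib.RankFourQuotient
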