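import Cfsg.Agent.Lib.Recog.MinusThirtyTwo
import Cfsg.Agent.Lib.Transfer.ExtraspecialUnique
import Cfsg.Agent.Lib.Core.UniqueOrderP
import Cfsg.Agent.Lib.Core.Basic
import Cfsg.Agent.Lib.TwoGroups.Recognition

/-!
Owner: helper12. An extraspecial group of order 32 with an automorphism of order five is a central
product of a quaternion and a dihedral group of order eight.
-/

set_option autoImplicit false
set_option maxHeartbeats 400000
set_option linter.style.haveILetI false

namespace CfsgLib.RankFourQuotient

open Subgroup CfsgLib.Transfer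
open scoped commutatorElement

theorem minus_decomposition {E : Type*} [Group E] [Finite E] (hE : Cfsg.IsExtraspecial 2 E)
    (h32 : Nat.card E = 32) {β : MulAut E} (hβ5 : β ^ 5 = 1) (hβ1 : β ≠ 1) :
    ∃ A B : Subgroup E, Nonempty (↥A ≃* QuaternionGroup 2) ∧ Nonempty (↥B ≃* DihedralGroup 4) ∧
      (∀ a ∈ A, ∀ b ∈ B, a * b = b * a) ∧ A ⊔ B = ⊤ ∧ A ⊓ B = center E := by
  haveI : Fact (Nat.Prime 2) := ⟨Nat.prime_two⟩
  obtain ⟨z₀, hz₀⟩ := exists_prime_orderOf_dvd_card' (G := center E) 2
    (by rw [PGroups.IsExtraspecial.card_center hE])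
  set z : E := (z₀ : E)
  have hzc : z ∈ center E := z₀.2
  have hz1 : z ≠ 1 := fun h => by
    have h1 : orderOf z = 2 := by rw [Subgroup.orderOf_coe, hz₀]
    rw [h, orderOf_one] at h1
    omega
  obtain ⟨-, hpair⟩ := Recog.MinusThirtyTwo.minus_type hE hzc hz1 h32 hβ5 hβ1
  have hcp := CentralPrime.of_extraspecial hE hzc hz1
  obtain ⟨x, hx, hx2⟩ := Transfer.exists_involution hcp (by rw [h32]; norm_num)
    (by rw [h32]; norm_num)
  obtain ⟨y, hxy, hy2⟩ := Transfer.exists_dihedral_pair hcp hx hx2
  set C := CentralPrime.pairCent x y with hC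
  have hCc : Nat.card C = 8 := by
    have h := hcp.card_pair hxy
    rw [h32] at h
    change 32 = 2 * 2 * Nat.card C at h
    omega
  have hxx : x * x = 1 := by rw [← pow_two]; exact hx2
  have hyy : y * y = 1 := by rw [← pow_two]; exact hy2
  have hz2 : z * z = 1 := by
    rw [← pow_two]
    exact PGroups.IsExtraspecial.center_pow hE hzc
  -- the dihedral factor
  set a := x * y with ha
  have haa : a * a = z := by
    rw [← hxy, commutatorElement_def, inv_eq_of_mul_eq_one_right hxx,
      inv_eq_of_mul_eq_one_right hyy, ha]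
    group
  have haord : orderOf a = 4 := by
    refine orderOf_eq_prime_pow (p := 2) (n := 1) ?_ ?_
    · rw [pow_one, pow_two, haa]; exact hz1
    · rw [show 2 ^ (1 + 1) = 2 * 2 from rfl, pow_mul, pow_two a, haa, pow_two, hz2]
  have hxa : x * a * x⁻¹ = a⁻¹ := by
    rw [ha, mul_inv_rev, inv_eq_of_mul_eq_one_right hxx, inv_eq_of_mul_eq_one_right hyy,
      ← mul_assoc, hxx, one_mul]
  have hxnot : x ∉ zpowers a := by
    intro h
    have hc : x * a = a * x := by
      obtain ⟨i, hi⟩ := mem_zpowers_iff.1 h
      rw [← hi]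
      exact ((Commute.refl a).zpow_left i).eq
    have h2 : a = a⁻¹ := by rw [← hxa, hc, mul_inv_cancel_right]
    refine hz1 ?_
    rw [← haa]
    exact mul_eq_one_iff_eq_inv.2 h2
  set B := zpowers x ⊔ zpowers a with hB
  have hxN : zpowers x ≤ normalizer (zpowers a : Set E) := by
    refine zpowers_le.2 (mem_normalizer_iff.2 fun w => ?_)
    have hfwd : ∀ u ∈ zpowers a, x * u * x⁻¹ ∈ zpowers a := fun u hu => by
      obtain ⟨i, rfl⟩ := mem_zpowers_iff.1 hu
      rw [← conj_zpow, hxa]
      exact zpow_mem (inv_mem (mem_zpowers a)) i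
    refine ⟨hfwd w, fun h => ?_⟩
    have h' := hfwd _ h
    rwa [show x * (x * w * x⁻¹) * x⁻¹ = (x * x) * w * (x * x)⁻¹ by group, hxx, one_mul, inv_one,
      mul_one] at h'
  have hxord : orderOf x = 2 := orderOf_eq_prime hx2 fun h => hx (h ▸ one_mem _)
  have hBc : Nat.card B = 8 := by
    have h := Core.card_sup_mul_card_inf (zpowers x) (zpowers a) hxN
    have hd : zpowers x ⊓ zpowers a = ⊥ := by
      refine (eq_bot_iff_forall _).2 fun w hw => ?_
      by_contra hw1
      refine hxnot ?_
      have hle : zpowers w ≤ zpowers x := zpowers_le.2 hw.1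
      have hd2 := Subgroup.card_dvd_of_le hle
      rw [Nat.card_zpowers, Nat.card_zpowers, hxord] at hd2
      rcases (Nat.dvd_prime Nat.prime_two).1 hd2 with h' | h'
      · exact absurd (orderOf_eq_one_iff.1 h') hw1
      · have heq := eq_of_le_of_card_ge hle (by rw [Nat.card_zpowers, Nat.card_zpowers, hxord, h'])
        exact zpowers_le.2 hw.2 (heq.ge (mem_zpowers x))
    rw [hd, card_bot, mul_one, Nat.card_zpowers, Nat.card_zpowers, hxord, haord] at h
    exact h
  have hxB : x ∈ B := mem_sup_left (mem_zpowers x)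
  have haB : a ∈ B := mem_sup_right (mem_zpowers a)
  have hBd : Nonempty (B ≃* DihedralGroup 4) := by
    refine TwoGroups.nonempty_mulEquiv_dihedralGroup (a := (⟨a, haB⟩ : B)) (b := ⟨x, hxB⟩)
      (by rw [Subgroup.orderOf_mk, haord]) (Subtype.ext hxx) (fun h => hxnot ?_)
      (Subtype.ext hxa) (by rw [hBc])
    obtain ⟨i, hi⟩ := mem_zpowers_iff.1 h
    exact mem_zpowers_iff.2 ⟨i, by simpa using congrArg Subtype.val hi⟩
  -- the quaternion factor
  have hCq : Nonempty (C ≃* QuaternionGroup 2) := by
    have hCp : IsPGroup 2 C := IsPGroup.of_card (n := 3) (by rw [hCc]; norm_num)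
    have hsol : ∀ c : C, c ≠ 1 → c * c = 1 → (c : E) = z := by
      intro c hc1 hc2
      have hc2' : (c : E) * c = 1 := congrArg Subtype.val hc2
      obtain ⟨h1, h2⟩ := CentralPrime.mem_pairCent.1 c.2
      have hcx : x * (c : E) = c * x := (commutatorElement_eq_one_iff_mul_comm.1 h1).symm
      rcases hpair x c hxx hc2' hcx with h | h | h
      · exact absurd h hx
      · exact (Recog.MinusThirtyTwo.center_cases hE hzc hz1 h).resolve_left
          fun e => hc1 (Subtype.ext e)
      · exfalso
        have hy' : ⁅x⁻¹ * (c : E), y⁆ = 1 :=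
          commutatorElement_eq_one_iff_mul_comm.2 (mem_center_iff.1 h y).symm
        rw [hcp.comm_left, hcp.comm_inv_left, hxy, h2, mul_one, inv_eq_one] at hy'
        exact hz1 hy'
    have huniq : ∀ H K : Subgroup C, Nat.card H = 2 → Nat.card K = 2 → H = K := by
      have key : ∀ S : Subgroup C, Nat.card S = 2 → ∀ w ∈ S, w = 1 ∨ (w : E) = z := by
        intro S hS w hw
        by_cases hw1 : w = 1
        · exact Or.inl hw1
        refine Or.inr (hsol w hw1 ?_)
        rw [← pow_two]
        exact orderOf_dvd_iff_pow_eq_one.1 (hS ▸ Subgroup.orderOf_dvd_natCard S hw)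
      have hle : ∀ S T : Subgroup C, Nat.card S = 2 → Nat.card T = 2 → S ≤ T := by
        intro S T hS hT w hw
        haveI : Nontrivial T := Finite.one_lt_card_iff_nontrivial.1 (by omega)
        obtain ⟨t, ht⟩ := exists_ne (1 : T)
        rcases key S hS w hw with rfl | h
        · exact one_mem _
        · have h' := (key T hT t t.2).resolve_left fun e => ht (Subtype.ext e)
          rw [show w = (t : C) from Subtype.ext (h.trans h'.symm)]
          exact t.2
      exact fun H K hH hK => le_antisymm (hle H K hH hK) (hle K H hK hH)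
    rcases Core.UniqueOrderP.isCyclic_or_quaternion_of_unique hCp (p := 2) huniq with
      hcyc | ⟨-, n, ⟨e⟩⟩
    · exfalso
      haveI := hcyc
      have hpz := hcp.pair hxy
      have htop : center C = ⊤ := eq_top_iff.2 fun g _ => mem_center_iff.2 fun h => by
        letI := IsCyclic.commGroup (α := C)
        exact mul_comm h g
      have h : Nat.card (center C) = 2 := by
        rw [hpz.center_eq]
        exact (Nat.card_zpowers _).trans hpz.order
      rw [htop, card_top, hCc] at h
      omega
    · have h4 := Nat.card_congr e.toEquiv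
      rw [hCc, Nat.card_eq_fintype_card, QuaternionGroup.card] at h4
      obtain rfl : n = 1 := Nat.pow_right_injective le_rfl (show 2 ^ n = 2 ^ 1 by omega)
      exact ⟨e⟩
  refine ⟨C, B, hCq, hBd, ?_, ?_, ?_⟩
  · intro c hc b hb
    obtain ⟨h1, h2⟩ := CentralPrime.mem_pairCent.1 hc
    have hcx : x * c = c * x := (commutatorElement_eq_one_iff_mul_comm.1 h1).symm
    have hcy : y * c = c * y := (commutatorElement_eq_one_iff_mul_comm.1 h2).symm
    have hle : B ≤ centralizer ({c} : Set E) := by
      refine sup_le (zpowers_le.2 (mem_centralizer_singleton_iff.2 hcx))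
        (zpowers_le.2 (mem_centralizer_singleton_iff.2 ?_))
      rw [ha, mul_assoc, hcy, ← mul_assoc, hcx, mul_assoc]
    exact (mem_centralizer_singleton_iff.1 (hle hb)).symm
  · rw [eq_top_iff]
    intro e _
    obtain ⟨i, j, c, hc, rfl⟩ := hcp.decomp hxy e
    have hyB : y ∈ B := by
      rw [show y = x⁻¹ * a by rw [ha]; group]
      exact mul_mem (inv_mem hxB) haB
    exact mul_mem (mem_sup_right (mul_mem (zpow_mem hxB i) (zpow_mem hyB j))) (mem_sup_left hc)
  · refine le_antisymm ?_ ?_
    · rintro w ⟨hwC, hwB⟩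
      refine mem_center_iff.2 fun e => ?_
      obtain ⟨i, j, c, hc, rfl⟩ := hcp.decomp hxy e
      obtain ⟨h1, h2⟩ := CentralPrime.mem_pairCent.1 hwC
      have hwx : Commute x w := (commutatorElement_eq_one_iff_mul_comm.1 h1).symm
      have hwy : Commute y w := (commutatorElement_eq_one_iff_mul_comm.1 h2).symm
      obtain ⟨h1', h2'⟩ := CentralPrime.mem_pairCent.1 hc
      have hcx : Commute c x := commutatorElement_eq_one_iff_mul_comm.1 h1'
      have hcy : Commute c y := commutatorElement_eq_one_iff_mul_comm.1 h2'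
      have hle : B ≤ centralizer ({c} : Set E) := by
        refine sup_le (zpowers_le.2 (mem_centralizer_singleton_iff.2 hcx.symm.eq))
          (zpowers_le.2 (mem_centralizer_singleton_iff.2 ?_))
        rw [ha]
        exact (hcx.symm.mul_left hcy.symm).eq
      have hcw : Commute c w := (mem_centralizer_singleton_iff.1 (hle hwB)).symm
      exact (((hwx.zpow_left i).mul_left (hwy.zpow_left j)).mul_left hcw).eq
    · intro w hw
      refine ⟨CentralPrime.center_le_pairCent x y hw, ?_⟩
      rcases Recog.MinusThirtyTwo.center_cases hE hzc hz1 hw with rfl | rfl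
      · exact one_mem _
      · rw [← haa]; exact mul_mem haB haB

end CfsgLib.RankFourQuotient
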