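import Mathlib

/-!
Owner: helper12. Small two-groups acted on by an element of order five, and by `A₅`.
-/

set_option autoImplicit false
set_option linter.style.haveILetI false

namespace CfsgLib.RankFourQuotient

open Subgroup

abbrev A5 := alternatingGroup (Fin 5)

def fiveElt : A5 := ⟨c[0, 1, 2, 3, 4], Equiv.Perm.mem_alternatingGroup.2 (by decide +kernel)⟩
def flipElt : A5 := ⟨c[1, 4] * c[2, 3], Equiv.Perm.mem_alternatingGroup.2 (by decide +kernel)⟩
def threeElt : A5 := ⟨c[0, 1, 2], Equiv.Perm.mem_alternatingGroup.2 (by decide +kernel)⟩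

theorem fiveElt_pow : fiveElt ^ 5 = 1 := by decide +kernel
theorem fiveElt_ne : fiveElt ≠ 1 := by decide +kernel
theorem flipElt_sq : flipElt * flipElt = 1 := by decide +kernel
theorem flipElt_ne : flipElt ≠ 1 := by decide +kernel
theorem flip_five : flipElt * fiveElt * flipElt⁻¹ = fiveElt⁻¹ := by decide +kernel
theorem threeElt_pow : threeElt ^ 3 = 1 := by decide +kernel
theorem threeElt_ne : threeElt ≠ 1 := by decide +kernel

/-- An automorphism of order five of a small two-group fixes a subgroup congruent to the whole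
modulo five. -/
theorem five_modEq {V : Type*} [Group V] [Finite V] (hV : IsPGroup 2 V) (α : MulAut V)
    (hα : α ^ 5 = 1) : ∃ n j : ℕ, Nat.card V = 2 ^ n ∧
      Nat.card {v : V // α v = v} = 2 ^ j ∧ j ≤ n ∧ 2 ^ n % 5 = 2 ^ j % 5 := by
  haveI : Fact (Nat.Prime 5) := ⟨by norm_num⟩
  let F : Subgroup V := MonoidHom.eqLocus α.toMonoidHom (MonoidHom.id V)
  letI : MulAction (zpowers α) V := MulAction.compHom V (zpowers α).subtype
  have hP : IsPGroup 5 (zpowers α) := by
    rintro ⟨g, hg⟩
    obtain ⟨i, rfl⟩ := mem_zpowers_iff.1 hg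
    refine ⟨1, Subtype.ext ?_⟩
    push_cast
    rw [← zpow_natCast, ← zpow_mul, mul_comm, zpow_mul, zpow_natCast, hα, one_zpow]
  have hmod := hP.card_modEq_card_fixedPoints V
  have hset : (MulAction.fixedPoints (zpowers α) V : Set V) = (F : Set V) := by
    ext v
    refine ⟨fun h => h ⟨α, mem_zpowers α⟩, fun h g => ?_⟩
    exact (zpowers_le.2 (show α ∈ MulAction.stabilizer (MulAut V) v from h) :
      zpowers α ≤ MulAction.stabilizer (MulAut V) v) g.2
  rw [Nat.card_congr (Equiv.setCongr hset)] at hmod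
  obtain ⟨n, hn⟩ := hV.exists_card_eq
  obtain ⟨j, hj, hjc⟩ :=
    (Nat.dvd_prime_pow Nat.prime_two).1 (hn ▸ Subgroup.card_subgroup_dvd_card F)
  refine ⟨n, j, hn, hjc ▸ rfl, hj, ?_⟩
  rw [show Nat.card ↥(F : Set V) = Nat.card F from rfl, hn, hjc] at hmod
  exact hmod

/-- An automorphism of order five moving something in a group of order at most sixteen. -/
theorem five_small {V : Type*} [Group V] [Finite V] (hV : IsPGroup 2 V) (hle : Nat.card V ≤ 16)
    (α : MulAut V) (hα : α ^ 5 = 1) (hne : α ≠ 1) :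
    Nat.card V = 16 ∧ ∀ v, α v = v → v = 1 := by
  obtain ⟨n, j, hn, hj, hjn, hmod⟩ := five_modEq hV α hα
  have hn4 : n ≤ 4 := (Nat.pow_le_pow_iff_right (by norm_num : 1 < 2)).1 (hn ▸ hle)
  have hlt : j ≠ n := fun h => hne (MulEquiv.ext fun v => by
    by_contra hv
    have hsub : Nat.card {v : V // α v = v} < Nat.card V := Finite.card_subtype_lt hv
    rw [hn, hj, h] at hsub
    exact lt_irrefl _ hsub)
  have hkey : n = 4 ∧ j = 0 := by
    interval_cases n <;> interval_cases j <;> omega
  refine ⟨by rw [hn, hkey.1]; norm_num, fun v hv => ?_⟩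
  rw [hkey.2, pow_zero] at hj
  obtain ⟨hs, -⟩ := Nat.card_eq_one_iff_unique.1 hj
  exact congrArg Subtype.val (hs.allEq ⟨v, hv⟩ ⟨1, map_one α⟩)

/-- A non-trivial action of `A₅` moves everything by the element of order five. -/
theorem alt_five_small {V : Type*} [Group V] [Finite V] (hV : IsPGroup 2 V)
    (hle : Nat.card V ≤ 16) (ρ : A5 →* MulAut V) :
    ρ = 1 ∨ Nat.card V = 16 ∧ ∀ v, ρ fiveElt v = v → v = 1 := by
  by_cases h : ρ fiveElt = 1
  · haveI : IsSimpleGroup A5 := alternatingGroup.isSimpleGroup_five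
    rcases (MonoidHom.normal_ker ρ).eq_bot_or_eq_top with hk | hk
    · exact absurd ((MonoidHom.ker_eq_bot_iff ρ).1 hk (h.trans (map_one ρ).symm)) fiveElt_ne
    · exact Or.inl (MonoidHom.ext fun g => MonoidHom.mem_ker.1 (hk.ge (mem_top g)))
  · exact Or.inr (five_small hV hle _ (by rw [← map_pow, fiveElt_pow, map_one]) h)

end CfsgLib.RankFourQuotient
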