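import Cfsg.Prelude.Def_CaseTheorems
import Mathlib

/-!
Owner: helper12. A large elementary section given by generators.
-/

set_option autoImplicit false
set_option linter.style.haveILetI false

namespace CfsgLib.RankFourQuotient

open Subgroup

variable {Y : Type*} [Group Y] [Finite Y]

/-- Generators commuting modulo a central subgroup `J`, with squares in `J`, give sectional rank
above `k`. -/
theorem not_sectional_of_gens {k : ℕ} (S : Set Y) (J : Subgroup Y) (hJM : J ≤ closure S)
    (hJc : ∀ a ∈ S, ∀ u ∈ J, a * u = u * a)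
    (hcomm : ∀ a ∈ S, ∀ b ∈ S, a⁻¹ * b⁻¹ * a * b ∈ J) (hsq : ∀ a ∈ S, a * a ∈ J)
    (hcard : 2 ^ k * Nat.card J < Nat.card (closure S)) : ¬ Cfsg.SectionalPRankLE 2 k Y := by
  set M := closure S with hM
  have hcent : M ≤ centralizer (J : Set Y) := (closure_le _).2 fun a ha =>
    mem_centralizer_iff.2 fun u hu => (hJc a ha u hu).symm
  haveI hJn : (J.subgroupOf M).Normal := ⟨fun u hu a => by
    rw [mem_subgroupOf] at hu ⊢
    push_cast
    rw [← mem_centralizer_iff.1 (hcent a.2) _ hu, mul_inv_cancel_right]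
    exact hu⟩
  let q := QuotientGroup.mk' (J.subgroupOf M)
  let S' : Set M := M.subtype ⁻¹' S
  have hgen : closure (q '' S') = ⊤ := by
    rw [← MonoidHom.map_closure, show closure S' = ⊤ from Subgroup.closure_closure_coe_preimage]
    exact map_top_of_surjective q (QuotientGroup.mk'_surjective _)
  have hq : ∀ a b : M, (a : Y)⁻¹ * (b : Y) ∈ J → q a = q b := fun a b h =>
    QuotientGroup.eq.2 (mem_subgroupOf.2 (by push_cast; exact h))
  have hpair : ∀ a ∈ S', ∀ b ∈ S', q a * q b = q b * q a := by
    intro a ha b hb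
    rw [← map_mul, ← map_mul]
    refine (hq _ _ ?_).symm
    push_cast
    rw [show ((b : Y) * (a : Y))⁻¹ * ((a : Y) * (b : Y)) =
      (a : Y)⁻¹ * (b : Y)⁻¹ * (a : Y) * (b : Y) by group]
    exact hcomm _ ha _ hb
  have hsq' : ∀ a ∈ S', q a * q a = 1 := by
    intro a ha
    rw [← map_mul]
    exact (QuotientGroup.eq_one_iff _).2 (mem_subgroupOf.2 (by push_cast; exact hsq _ ha))
  have hab : ∀ a b : M ⧸ J.subgroupOf M, a * b = b * a := by
    have h1 : ∀ g ∈ q '' S', (⊤ : Subgroup (M ⧸ J.subgroupOf M)) ≤ centralizer {g} := by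
      rintro _ ⟨g, hg, rfl⟩
      rw [← hgen, closure_le]
      rintro _ ⟨f, hf, rfl⟩
      exact mem_centralizer_singleton_iff.2 (hpair f hf g hg)
    intro a b
    have h2 : (⊤ : Subgroup (M ⧸ J.subgroupOf M)) ≤ centralizer {a} := by
      rw [← hgen, closure_le]
      intro g hg
      exact mem_centralizer_singleton_iff.2
        (mem_centralizer_singleton_iff.1 (h1 g hg (mem_top a))).symm
    exact (mem_centralizer_singleton_iff.1 (h2 (mem_top b))).symm
  have helem : ∀ a : M ⧸ J.subgroupOf M, a ^ 2 = 1 := by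
    intro a
    refine closure_induction (p := fun g _ => g ^ 2 = 1) ?_ (one_pow 2)
      (fun g f _ _ hg hf => by
        rw [(show Commute g f from hab g f).mul_pow, hg, hf, one_mul])
      (fun g _ hg => by rw [inv_pow, hg, inv_one]) (hgen.ge (mem_top a))
    rintro _ ⟨g, hg, rfl⟩
    rw [pow_two]
    exact hsq' g hg
  intro hrank
  have hbound := hrank M (J.subgroupOf M) ⊤ ⟨⟨fun a b => Subtype.ext (hab a b)⟩⟩
    fun a _ => helem a
  rw [Subgroup.card_top, show Nat.card (M ⧸ J.subgroupOf M) = (J.subgroupOf M).index from rfl]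
    at hbound
  have h := (J.subgroupOf M).index_mul_card
  rw [Nat.card_congr (subgroupOfEquivOfLe hJM).toEquiv] at h
  rw [← h] at hcard
  exact absurd hcard (not_lt.2 (Nat.mul_le_mul_right _ hbound))

end CfsgLib.RankFourQuotient
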