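import Cfsg.Agent.Lib.Core.Coprime
import Cfsg.Agent.Lib.TwoGroups.RankFourQuotient.AltFiveModule
import Cfsg.Agent.Lib.TwoGroups.RankFourQuotient.Section

/-!
Owner: helper12. Two faithful layers of order sixteen below `A₅` give sectional rank five.
-/

set_option autoImplicit false
set_option maxHeartbeats 800000
set_option linter.style.haveILetI false

namespace CfsgLib.RankFourQuotient

open Subgroup
open scoped Pointwise

variable {Y : Type*} [Group Y] [Finite Y] (π : Y →* A5)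

/-- A lift of order dividing five. -/
theorem exists_five_lift (hπ : Function.Surjective π) (hP : IsPGroup 2 π.ker) :
    ∃ D : Y, π D = fiveElt ∧ D ^ 5 = 1 := by
  obtain ⟨z, hz⟩ := hπ fiveElt
  have hz5 : z ^ 5 ∈ π.ker := MonoidHom.mem_ker.2 (by rw [map_pow, hz, fiveElt_pow])
  obtain ⟨k, hk⟩ := hP ⟨z ^ 5, hz5⟩
  have hk' : z ^ (5 * 2 ^ k) = 1 := by
    rw [pow_mul]
    exact congrArg Subtype.val hk
  obtain ⟨m, hm5, hm2⟩ := Nat.chineseRemainder
    (show Nat.Coprime 5 (2 ^ k) from Nat.Coprime.pow_right k (by norm_num)) 1 0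
  obtain ⟨i, hi⟩ := Nat.modEq_zero_iff_dvd.1 hm2
  refine ⟨z ^ m, ?_, ?_⟩
  · rw [map_pow, hz, pow_eq_pow_mod m fiveElt_pow, show m % 5 = 1 from hm5, pow_one]
  · rw [← pow_mul, hi, show 2 ^ k * i * 5 = 5 * 2 ^ k * i by ring, pow_mul, hk', one_pow]

variable {π}

/-- An involution inverting the lift of order five, outside a fixed-point-free kernel. -/
theorem exists_flip_lift (hπ : Function.Surjective π) (hP : IsPGroup 2 π.ker) {D : Y}
    (hD : π D = fiveElt) (hD5 : D ^ 5 = 1) (hfix : ∀ p ∈ π.ker, D * p = p * D → p = 1) :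
    ∃ z : Y, π z = flipElt ∧ z * z = 1 ∧ z * D * z⁻¹ = D⁻¹ := by
  obtain ⟨z₀, hz₀⟩ := hπ flipElt
  have hDc : Nat.card (zpowers D) = 5 := by
    rw [Nat.card_zpowers]
    haveI : Fact (Nat.Prime 5) := ⟨by norm_num⟩
    exact orderOf_eq_prime hD5 fun h => fiveElt_ne (by rw [← hD, h, map_one])
  have hcop : (Nat.card (zpowers D)).Coprime (Nat.card π.ker) := by
    obtain ⟨n, hn⟩ := hP.exists_card_eq
    rw [hDc, hn]
    exact Nat.Coprime.pow_right n (by norm_num)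
  have hN : zpowers D ≤ normalizer (π.ker : Set Y) := by rw [normalizer_eq_top]; exact le_top
  have hK : MulAut.conj z₀ • zpowers D ≤ zpowers D ⊔ π.ker := by
    rintro _ ⟨a, ha, rfl⟩
    obtain ⟨i, rfl⟩ := mem_zpowers_iff.1 ha
    show z₀ * D ^ i * z₀⁻¹ ∈ _
    have h : z₀ * D ^ i * z₀⁻¹ = D ^ (-i) * (D ^ i * (z₀ * D ^ i * z₀⁻¹)) := by group
    rw [h]
    refine mul_mem (mem_sup_left (zpow_mem (mem_zpowers D) _)) (mem_sup_right ?_)
    refine MonoidHom.mem_ker.2 ?_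
    rw [map_mul, map_mul, map_mul, map_inv, map_zpow, hD, hz₀, ← conj_zpow, flip_five, inv_zpow,
      mul_inv_cancel]
  obtain ⟨n, hn, h⟩ := Core.exists_conj_eq_of_coprime hN hK
    (Nat.card_congr (Subgroup.equivSMul _ _).toEquiv.symm) hcop (Or.inr inferInstance)
  set z := n⁻¹ * z₀ with hzdef
  have hzπ : π z = flipElt := by
    rw [hzdef, map_mul, map_inv, MonoidHom.mem_ker.1 hn, inv_one, one_mul, hz₀]
  have hznorm : MulAut.conj z • zpowers D = zpowers D := by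
    rw [hzdef, map_mul, mul_smul, ← h, ← mul_smul, ← map_mul, inv_mul_cancel, map_one, one_smul]
  have hzD : z * D * z⁻¹ = D⁻¹ := by
    have hmem : z * D * z⁻¹ ∈ zpowers D := hznorm.le ⟨D, mem_zpowers D, rfl⟩
    obtain ⟨i, hi⟩ := mem_zpowers_iff.1 hmem
    have h1 : fiveElt ^ i = fiveElt⁻¹ := by
      rw [← hD, ← map_zpow, hi, map_mul, map_mul, map_inv, hzπ, hD, flip_five]
    have h2 : fiveElt ^ (i + 1) = 1 := by rw [zpow_add, h1, zpow_one, inv_mul_cancel]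
    haveI : Fact (Nat.Prime 5) := ⟨by norm_num⟩
    have h5 : ((5 : ℕ) : ℤ) ∣ i + 1 := by
      rw [← orderOf_eq_prime fiveElt_pow fiveElt_ne]
      exact orderOf_dvd_iff_zpow_eq_one.2 h2
    obtain ⟨c, hc⟩ := h5
    rw [← hi, show i = (5 : ℕ) * c + (-1) by omega, zpow_add, zpow_mul, zpow_natCast, hD5, one_zpow,
      one_mul, zpow_neg_one]
  refine ⟨z, hzπ, hfix _ (MonoidHom.mem_ker.2 (by rw [map_mul, hzπ, flipElt_sq])) ?_, hzD⟩
  have h1 : z * z * D * (z * z)⁻¹ = D := by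
    calc z * z * D * (z * z)⁻¹ = z * (z * D * z⁻¹) * z⁻¹ := by group
      _ = z * D⁻¹ * z⁻¹ := by rw [hzD]
      _ = (z * D * z⁻¹)⁻¹ := by group
      _ = D := by rw [hzD, inv_inv]
  exact (mul_inv_eq_iff_eq_mul.1 h1).symm

theorem not_sectional_two_layers (hπ : Function.Surjective π) (hP : IsPGroup 2 π.ker)
    (F : Subgroup Y) [F.Normal] (hF : F ≤ π.ker) (hFc : ∀ p ∈ π.ker, ∀ w ∈ F, p * w = w * p)
    (hFe : ∀ w ∈ F, w * w = 1) (hF16 : Nat.card F = 16) (hV16 : F.relIndex π.ker = 16)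
    (hVc : ∀ p ∈ π.ker, ∀ q ∈ π.ker, p⁻¹ * q⁻¹ * p * q ∈ F) (hVe : ∀ p ∈ π.ker, p * p ∈ F)
    {D : Y} (hD : π D = fiveElt) (hD5 : D ^ 5 = 1)
    (hDV : ∀ p ∈ π.ker, p⁻¹ * (D * p * D⁻¹) ∈ F → p ∈ F)
    (hDW : ∀ w ∈ F, D * w = w * D → w = 1) : ¬ Cfsg.SectionalPRankLE 2 4 Y := by
  have hfix : ∀ p ∈ π.ker, D * p = p * D → p = 1 := fun p hp h => by
    have hpF : p ∈ F := hDV p hp (by rw [h, mul_inv_cancel_right, inv_mul_cancel]; exact one_mem _)
    exact hDW p hpF h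
  obtain ⟨z, hzπ, hz2, hzD⟩ := exists_flip_lift hπ hP hD hD5 hfix
  have hzi : z⁻¹ = z := inv_eq_of_mul_eq_one_right hz2
  have hFn : ∀ w ∈ F, ∀ g : Y, g * w * g⁻¹ ∈ F := fun w hw g =>
    (inferInstance : F.Normal).conj_mem w hw g
  have hPn : ∀ p ∈ π.ker, ∀ g : Y, g * p * g⁻¹ ∈ π.ker := fun p hp g =>
    (MonoidHom.normal_ker π).conj_mem p hp g
  have hinv : ∀ w ∈ F, w⁻¹ = w := fun w hw => inv_eq_of_mul_eq_one_right (hFe w hw)
  -- the fixed points of the involution in the lower layer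
  set J := F ⊓ centralizer ({z} : Set Y) with hJ
  have hJz : ∀ u ∈ J, z * u = u * z := fun u hu => (mem_centralizer_singleton_iff.1 hu.2).symm
  have hJcard : Nat.card J ≤ 4 := by
    have hmeet : ∀ u ∈ J, D * u * D⁻¹ ∈ J → u = 1 := by
      intro u hu hu'
      have h1 : z * u * z⁻¹ = u := by rw [hJz u hu, mul_inv_cancel_right]
      have h2 : z * (D * u * D⁻¹) * z⁻¹ = D * u * D⁻¹ := by rw [hJz _ hu', mul_inv_cancel_right]
      have h3 : D⁻¹ * u * D = D * u * D⁻¹ := by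
        calc D⁻¹ * u * D = (z * D * z⁻¹) * (z * u * z⁻¹) * (z * D * z⁻¹)⁻¹ := by
              rw [h1, hzD, inv_inv]
          _ = z * (D * u * D⁻¹) * z⁻¹ := by group
          _ = _ := h2
      have h4 : D ^ 2 * u = u * D ^ 2 := by
        calc D ^ 2 * u = D * (D * u * D⁻¹) * D := by rw [pow_two]; group
          _ = D * (D⁻¹ * u * D) * D := by rw [h3]
          _ = u * D ^ 2 := by rw [pow_two]; group
      refine hDW u hu.1 ?_
      have hc : Commute ((D ^ 2) ^ 3) u := (show Commute (D ^ 2) u from h4).pow_left 3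
      rwa [← pow_mul, show 2 * 3 = 5 + 1 from rfl, pow_add, hD5, one_mul, pow_one] at hc
    have hle : Nat.card (J × J) ≤ Nat.card F := by
      refine Nat.card_le_card_of_injective
        (fun ab => ⟨(ab.1 : Y) * (D * (ab.2 : Y) * D⁻¹),
          mul_mem ab.1.2.1 (hFn _ ab.2.2.1 D)⟩) ?_
      rintro ⟨a, b⟩ ⟨a', b'⟩ h
      have h' : (a : Y) * (D * (b : Y) * D⁻¹) = (a' : Y) * (D * (b' : Y) * D⁻¹) :=
        congrArg Subtype.val h
      have h1 : D * ((b : Y) * (b' : Y)⁻¹) * D⁻¹ = (a : Y)⁻¹ * (a' : Y) := by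
        calc D * ((b : Y) * (b' : Y)⁻¹) * D⁻¹
            = (a : Y)⁻¹ * ((a : Y) * (D * (b : Y) * D⁻¹)) * (D * (b' : Y) * D⁻¹)⁻¹ := by group
          _ = (a : Y)⁻¹ * (a' : Y) := by rw [h']; group
      have h2 := hmeet _ (J.mul_mem b.2 (J.inv_mem b'.2))
        (h1 ▸ J.mul_mem (J.inv_mem a.2) a'.2)
      have hb : b = b' := Subtype.ext (mul_inv_eq_one.1 h2)
      subst hb
      exact Prod.ext (Subtype.ext (mul_right_cancel h')) rfl
    rw [Nat.card_prod, hF16] at hle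
    nlinarith
  -- the preimage of the fixed points in the upper layer
  have hd : ∀ p ∈ π.ker, ∀ q ∈ π.ker, (p * q)⁻¹ * (z * (p * q) * z⁻¹) ∈ F ↔
      (p⁻¹ * (z * p * z⁻¹)) * (q⁻¹ * (z * q * z⁻¹)) ∈ F := by
    intro p hp q hq
    have e : (p * q)⁻¹ * (z * (p * q) * z⁻¹) =
        q⁻¹ * (p⁻¹ * (z * p * z⁻¹)) * q * (q⁻¹ * (z * q * z⁻¹)) := by group
    have hpd : p⁻¹ * (z * p * z⁻¹) ∈ π.ker := mul_mem (inv_mem hp) (hPn p hp z)
    have e2 : q⁻¹ * (p⁻¹ * (z * p * z⁻¹)) * q = (p⁻¹ * (z * p * z⁻¹)) *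
        ((p⁻¹ * (z * p * z⁻¹))⁻¹ * q⁻¹ * (p⁻¹ * (z * p * z⁻¹)) * q) := by group
    rw [e, e2, mul_assoc, hFc _ (mul_mem (inv_mem hq) (hPn q hq z)) _ (hVc _ hpd q hq) |>.symm,
      ← mul_assoc]
    exact F.mul_mem_cancel_right (hVc _ hpd q hq)
  let C : Subgroup Y :=
    { carrier := {p | p ∈ π.ker ∧ p⁻¹ * (z * p * z⁻¹) ∈ F}
      one_mem' := ⟨one_mem _, by simp⟩
      mul_mem' := fun {p q} hp hq => ⟨mul_mem hp.1 hq.1,
        (hd p hp.1 q hq.1).2 (F.mul_mem hp.2 hq.2)⟩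
      inv_mem' := fun {p} hp => ⟨inv_mem hp.1, by
        have h := (hd p hp.1 p⁻¹ (inv_mem hp.1)).1 (by simp)
        exact (F.mul_mem_cancel_left hp.2).1 h⟩ }
  have hCP : C ≤ π.ker := fun p hp => hp.1
  have hFC : F ≤ C := fun w hw => ⟨hF hw, mul_mem (inv_mem hw) (hFn w hw z)⟩
  have hCcard : 64 ≤ Nat.card C := by
    haveI : (F.subgroupOf π.ker).Normal := inferInstance
    set Q := (↥π.ker) ⧸ F.subgroupOf π.ker
    let f : π.ker →* Q :=
      { toFun := fun p => QuotientGroup.mk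
          (⟨(p : Y)⁻¹ * (z * p * z⁻¹), mul_mem (inv_mem p.2) (hPn p p.2 z)⟩ : π.ker)
        map_one' := by
          refine (QuotientGroup.eq_one_iff _).2 (mem_subgroupOf.2 ?_)
          simp
        map_mul' := fun p q => by
          rw [← QuotientGroup.mk_mul, QuotientGroup.eq, mem_subgroupOf]
          push_cast
          have h := (hd p p.2 q q.2).1
          set a := ((p : Y) * (q : Y))⁻¹ * (z * ((p : Y) * (q : Y)) * z⁻¹) with ha
          set b := (p : Y)⁻¹ * (z * p * z⁻¹) with hb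
          set c := (q : Y)⁻¹ * (z * q * z⁻¹) with hc
          have hbk : b ∈ π.ker := mul_mem (inv_mem p.2) (hPn p p.2 z)
          have hck : c ∈ π.ker := mul_mem (inv_mem q.2) (hPn q q.2 z)
          have e : a = (b * ((b⁻¹ * (q : Y)⁻¹ * b * q))) * c := by rw [ha, hb, hc]; group
          have hu := hVc b hbk q q.2
          rw [e, mul_assoc b, ← hFc c hck _ hu]
          have e2 : (b * (c * (b⁻¹ * (q : Y)⁻¹ * b * q)))⁻¹ * (b * c) =
              (b⁻¹ * (q : Y)⁻¹ * b * q)⁻¹ := by group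
          rw [e2]
          exact inv_mem hu }
    have hk : f.ker = C.subgroupOf π.ker := by
      ext p
      rw [MonoidHom.mem_ker, mem_subgroupOf]
      show QuotientGroup.mk _ = (1 : Q) ↔ _
      rw [QuotientGroup.eq_one_iff, mem_subgroupOf]
      exact ⟨fun h => ⟨p.2, h⟩, fun h => h.2⟩
    have hr : f.range ≤ (C.subgroupOf π.ker).map (QuotientGroup.mk' _) := by
      rintro _ ⟨p, rfl⟩
      refine ⟨⟨_, mul_mem (inv_mem p.2) (hPn p p.2 z)⟩, ?_, rfl⟩
      rw [SetLike.mem_coe, mem_subgroupOf]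
      refine ⟨mul_mem (inv_mem p.2) (hPn p p.2 z), ?_⟩
      set b := (p : Y)⁻¹ * (z * p * z⁻¹) with hb
      show b⁻¹ * (z * b * z⁻¹) ∈ F
      have e : z * b * z⁻¹ = b⁻¹ := by
        calc z * b * z⁻¹ = (z * p * z⁻¹)⁻¹ * ((z * z) * p * (z * z)⁻¹) := by rw [hb]; group
          _ = b⁻¹ := by rw [hz2, one_mul, inv_one, mul_one, hb]; group
      rw [e, ← mul_inv_rev]
      exact inv_mem (hVe b (mul_mem (inv_mem p.2) (hPn p p.2 z)))
    have hrc := Nat.le_of_dvd Nat.card_pos (Subgroup.card_dvd_of_le hr)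
    have hmap : Nat.card ((C.subgroupOf π.ker).map (QuotientGroup.mk' (F.subgroupOf π.ker))) *
        16 = Nat.card C := by
      let g := (QuotientGroup.mk' (F.subgroupOf π.ker)).domRestrict (C.subgroupOf π.ker)
      have hg := g.ker.index_mul_card
      rw [Subgroup.index_ker, MonoidHom.domRestrict_range,
        Nat.card_congr (subgroupOfEquivOfLe hCP).toEquiv] at hg
      rw [← hg]
      congr 1
      rw [MonoidHom.ker_domRestrict, QuotientGroup.ker_mk']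
      rw [Nat.card_congr (subgroupOfEquivOfLe (fun x hx => ?_)).toEquiv,
        Nat.card_congr (subgroupOfEquivOfLe hF).toEquiv, hF16]
      exact hFC hx
    have h := f.ker.index_mul_card
    rw [Subgroup.index_ker, hk, Nat.card_congr (subgroupOfEquivOfLe hCP).toEquiv] at h
    have hP256 : Nat.card π.ker = 256 := by
      have h2 := (F.subgroupOf π.ker).index_mul_card
      rw [Nat.card_congr (subgroupOfEquivOfLe hF).toEquiv, hF16] at h2
      change F.relIndex π.ker * 16 = _ at h2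
      rw [← h2, hV16]
    nlinarith [Nat.mul_le_mul_right (Nat.card C) hrc]
  -- the section
  have hzC : z ∉ C := fun h => flipElt_ne (hzπ ▸ MonoidHom.mem_ker.1 h.1)
  have hM : 128 ≤ Nat.card (closure ((C : Set Y) ∪ {z})) := by
    refine le_trans ?_ (Nat.card_le_card_of_injective
      (fun x : C × Bool => (⟨if x.2 then (x.1 : Y) * z else x.1, ?_⟩ :
        closure ((C : Set Y) ∪ {z}))) ?_)
    · rw [Nat.card_prod, Nat.card_eq_fintype_card (α := Bool), Fintype.card_bool]; omega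
    · split_ifs
      · exact mul_mem (subset_closure (Or.inl x.1.2)) (subset_closure (Or.inr rfl))
      · exact subset_closure (Or.inl x.1.2)
    · rintro ⟨a, i⟩ ⟨b, j⟩ h
      have h' := congrArg Subtype.val h
      rcases i with _ | _ <;> rcases j with _ | _ <;> simp only at h'
      · exact Prod.ext (Subtype.ext h') rfl
      · exfalso; apply hzC
        have hz' : z = (b : Y)⁻¹ * (a : Y) := by rw [eq_inv_mul_iff_mul_eq]; exact h'.symm
        rw [hz']; exact C.mul_mem (C.inv_mem b.2) a.2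
      · exfalso; apply hzC
        have hz' : z = (a : Y)⁻¹ * (b : Y) := by rw [eq_inv_mul_iff_mul_eq]; exact h'
        rw [hz']; exact C.mul_mem (C.inv_mem a.2) b.2
      · exact Prod.ext (Subtype.ext (mul_right_cancel h')) rfl
  have hFz : ∀ w ∈ F, z * w * z⁻¹ = w → w ∈ J := fun w hw h =>
    ⟨hw, mem_centralizer_singleton_iff.2 (mul_inv_eq_iff_eq_mul.1 h).symm⟩
  have hw : ∀ p ∈ C, z * (p⁻¹ * (z * p * z⁻¹)) * z⁻¹ = p⁻¹ * (z * p * z⁻¹) := by
    intro p hp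
    calc z * (p⁻¹ * (z * p * z⁻¹)) * z⁻¹ = (z * p * z⁻¹)⁻¹ * ((z * z) * p * (z * z)⁻¹) := by group
      _ = (p⁻¹ * (z * p * z⁻¹))⁻¹ := by rw [hz2, one_mul, inv_one, mul_one]; group
      _ = _ := hinv _ hp.2
  refine not_sectional_of_gens ((C : Set Y) ∪ {z}) J
    (fun w hw' => subset_closure (Or.inl (hFC hw'.1))) ?_ ?_ ?_ ?_
  · rintro a (ha | ha) u hu
    · exact hFc a ha.1 u hu.1
    · rw [Set.mem_singleton_iff.1 ha]; exact hJz u hu
  · rintro a (ha | ha) b (hb | hb) <;>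
      (try rw [Set.mem_singleton_iff.1 ha]) <;> (try rw [Set.mem_singleton_iff.1 hb])
    · refine hFz _ (hVc a ha.1 b hb.1) ?_
      set u := a⁻¹ * (z * a * z⁻¹) with hu
      set v := b⁻¹ * (z * b * z⁻¹) with hv
      have ea : z * a * z⁻¹ = a * u := by rw [hu]; group
      have eb : z * b * z⁻¹ = b * v := by rw [hv]; group
      calc z * (a⁻¹ * b⁻¹ * a * b) * z⁻¹ =
            (z * a * z⁻¹)⁻¹ * (z * b * z⁻¹)⁻¹ * (z * a * z⁻¹) * (z * b * z⁻¹) := by group
        _ = u⁻¹ * a⁻¹ * (v⁻¹ * b⁻¹) * (a * u) * (b * v) := by rw [ea, eb]; group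
        _ = u⁻¹ * a⁻¹ * (b⁻¹ * v⁻¹) * (a * u) * (b * v) := by
              rw [hFc b⁻¹ (inv_mem hb.1) v⁻¹ (inv_mem hb.2)]
        _ = u⁻¹ * (a⁻¹ * b⁻¹) * (v⁻¹ * a) * (u * b) * v := by group
        _ = u⁻¹ * (a⁻¹ * b⁻¹) * (a * v⁻¹) * (b * u) * v := by
              rw [hFc a ha.1 v⁻¹ (inv_mem hb.2), hFc b hb.1 u ha.2]
        _ = u⁻¹ * (a⁻¹ * b⁻¹ * a) * (v⁻¹ * b) * u * v := by group
        _ = u⁻¹ * (a⁻¹ * b⁻¹ * a * b) * (v⁻¹ * (u * v)) := by
              rw [← hFc b hb.1 v⁻¹ (inv_mem hb.2)]; group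
        _ = a⁻¹ * b⁻¹ * a * b := by
              rw [hFc u (hF ha.2) v hb.2, inv_mul_cancel_left,
                mul_assoc, hFc _ (hF (hVc a ha.1 b hb.1)) u ha.2, inv_mul_cancel_left]
    · have e : a⁻¹ * z⁻¹ * a * z = a⁻¹ * (z * a * z⁻¹) := by rw [hzi]; group
      rw [e]
      exact hFz _ ha.2 (hw a ha)
    · have e : z⁻¹ * b⁻¹ * z * b = (b⁻¹ * (z * b * z⁻¹))⁻¹ := by
        rw [show z⁻¹ * b⁻¹ * z * b = (b⁻¹ * z⁻¹ * b * z)⁻¹ by group, hzi]
        group
      rw [e, hinv _ hb.2]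
      exact hFz _ hb.2 (hw b hb)
    · simp
  · rintro a (ha | ha)
    · refine hFz _ (hVe a ha.1) ?_
      set u := a⁻¹ * (z * a * z⁻¹) with hu
      calc z * (a * a) * z⁻¹ = (a * u) * (a * u) := by rw [hu]; group
        _ = a * (u * a) * u := by group
        _ = a * (a * u) * u := by rw [hFc a ha.1 u ha.2]
        _ = a * a * (u * u) := by group
        _ = a * a := by rw [hFe u ha.2, mul_one]
    · rw [Set.mem_singleton_iff.1 ha, hz2]; exact one_mem _
  · rw [show (2 : ℕ) ^ 4 = 16 from rfl]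
    omega

end CfsgLib.RankFourQuotient
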