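import Cfsg.Agent.Lib.TwoGroups.RankFourQuotient.LayerAction
import Cfsg.Agent.Lib.TwoGroups.RankFourQuotient.TwoLayer
import Cfsg.Agent.Lib.TwoGroups.RankFourQuotient.MinusDecomposition
import Cfsg.Agent.Lib.PGroups.Basic

/-!
Owner: helper12. A two-group of sectional rank four below `A₅` is elementary of order sixteen or
extraspecial of order thirty-two of minus type.
-/

set_option autoImplicit false
set_option maxHeartbeats 800000
set_option linter.style.haveILetI false

namespace CfsgLib.RankFourQuotient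

open Subgroup
open scoped commutatorElement

universe u

variable {Y : Type u} [Group Y] [Finite Y] {π : Y →* A5}

/-- The hypotheses. -/
structure Hyp (π : Y →* A5) : Prop where
  surj : Function.Surjective π
  pg : IsPGroup 2 π.ker
  rank : Cfsg.SectionalPRankLE 2 4 Y
  moved : ∀ y, π y = fiveElt → ∃ p ∈ π.ker, p⁻¹ * (y * p * y⁻¹) ∉ sqClosure π.ker

local notation "P" => MonoidHom.ker π
local notation "F" => sqClosure (MonoidHom.ker π)

namespace Hyp

theorem card_layer (h : Hyp π) {W : Subgroup Y} (hc : ∀ a ∈ W, ∀ b ∈ W, a * b = b * a)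
    (he : ∀ a ∈ W, a * a = 1) : Nat.card W ≤ 16 := by
  have h1 := h.rank W ⊥ ⊤ ⟨⟨fun a b => ?_⟩⟩ fun a _ => ?_
  · rw [card_top, Nat.card_congr QuotientGroup.quotientBot.toEquiv] at h1
    exact h1
  · obtain ⟨a', ha⟩ := QuotientGroup.mk_surjective (a : W ⧸ (⊥ : Subgroup W))
    obtain ⟨b', hb⟩ := QuotientGroup.mk_surjective (b : W ⧸ (⊥ : Subgroup W))
    apply Subtype.ext
    push_cast
    rw [← ha, ← hb, ← QuotientGroup.mk_mul, ← QuotientGroup.mk_mul]
    exact congrArg _ (Subtype.ext (hc _ a'.2 _ b'.2))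
  · obtain ⟨a', rfl⟩ := QuotientGroup.mk_surjective a
    rw [← QuotientGroup.mk_pow, show a' ^ 2 = 1 from Subtype.ext (by rw [pow_two]; exact he _ a'.2),
      QuotientGroup.mk_one]

/-- The top layer is a faithful module of order sixteen. -/
theorem upper (h : Hyp π) : ∃ ρ : A5 →* MulAut (topLayer π), (∀ y, ρ (π y) = conjTop π y) ∧
    ρ ≠ 1 ∧ Nat.card (topLayer π) = 16 ∧ ∀ v, ρ fiveElt v = v → v = 1 := by
  set ρ := π.liftOfSurjective h.surj ⟨conjTop π, ker_le_conjTop π⟩
  have hρ : ∀ y, ρ (π y) = conjTop π y := fun y =>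
    MonoidHom.liftOfRightInverse_comp_apply π _ _ ⟨conjTop π, ker_le_conjTop π⟩ y
  have hne : ρ ≠ 1 := by
    intro he
    obtain ⟨y, hy⟩ := h.surj fiveElt
    obtain ⟨p, hp, hpn⟩ := h.moved y hy
    apply hpn
    have h1 := DFunLike.congr_fun (hρ y) (QuotientGroup.mk (⟨p, hp⟩ : P) : topLayer π)
    rw [he, MonoidHom.one_apply, MulAut.one_apply, conjTop_mk, QuotientGroup.eq,
      mem_subgroupOf] at h1
    exact h1
  have hp2 : IsPGroup 2 (topLayer π) := fun a => ⟨1, by rw [pow_one]; exact topLayer_sq π a⟩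
  have hle : Nat.card (topLayer π) ≤ 16 := by
    have h1 := h.rank P ((sqClosure P).subgroupOf P) ⊤
      ⟨⟨fun a b => Subtype.ext (topLayer_comm π a b)⟩⟩ fun a _ => topLayer_sq π a
    rwa [card_top] at h1
  rcases alt_five_small hp2 hle ρ with h1 | h1
  · exact absurd h1 hne
  · exact ⟨ρ, hρ, hne, h1⟩

theorem card_eq (h : Hyp π) : Nat.card P = 16 * Nat.card (sqClosure P) := by
  obtain ⟨-, -, -, hc, -⟩ := h.upper
  have h1 := ((sqClosure P).subgroupOf P).index_mul_card
  rw [Nat.card_congr (subgroupOfEquivOfLe (sqClosure_le P)).toEquiv] at h1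
  rw [← h1, ← hc]
  rfl

theorem relIndex_eq (h : Hyp π) : (sqClosure P).relIndex P = 16 := by
  obtain ⟨-, -, -, hc, -⟩ := h.upper
  exact hc

theorem mem_of_fixed (h : Hyp π) {D p : Y} (hD : π D = fiveElt) (hp : p ∈ P)
    (hfix : p⁻¹ * (D * p * D⁻¹) ∈ sqClosure P) : p ∈ sqClosure P := by
  obtain ⟨ρ, hρ, -, -, hf⟩ := h.upper
  have h1 := hf (QuotientGroup.mk (⟨p, hp⟩ : P)) (by
    rw [← hD, hρ, conjTop_mk, eq_comm, QuotientGroup.eq, mem_subgroupOf]
    exact hfix)
  rw [QuotientGroup.eq_one_iff, mem_subgroupOf] at h1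
  exact h1

theorem mem_of_comm (h : Hyp π) {D p : Y} (hD : π D = fiveElt) (hp : p ∈ P)
    (hfix : D * p = p * D) : p ∈ sqClosure P :=
  h.mem_of_fixed hD hp (by rw [hfix, mul_inv_cancel_right, inv_mul_cancel]; exact one_mem _)

/-- A small layer central in the kernel. -/
theorem lower (h : Hyp π) {W : Subgroup Y} [W.Normal] (hW : W ≤ P)
    (hWc : ∀ p ∈ P, ∀ w ∈ W, p * w = w * p) (hle : Nat.card W ≤ 16) :
    (∀ y : Y, ∀ w ∈ W, y * w = w * y) ∨
      Nat.card W = 16 ∧ ∀ D, π D = fiveElt → ∀ w ∈ W, D * w = w * D → w = 1 := by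
  have hk : π.ker ≤ (MulAut.conjNormal : Y →* MulAut W).ker := fun y hy =>
    MonoidHom.mem_ker.2 (MulEquiv.ext fun w => Subtype.ext (by
      rw [MulAut.conjNormal_apply, MulAut.one_apply, hWc y hy w w.2, mul_inv_cancel_right]))
  set ρ := π.liftOfSurjective h.surj ⟨MulAut.conjNormal, hk⟩
  have hρ : ∀ y, ρ (π y) = MulAut.conjNormal y := fun y =>
    MonoidHom.liftOfRightInverse_comp_apply π _ _ ⟨MulAut.conjNormal, hk⟩ y
  rcases alt_five_small (h.pg.to_le hW) hle ρ with h1 | ⟨h1, h2⟩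
  · refine Or.inl fun y w hw => ?_
    have h3 := DFunLike.congr_fun (hρ y) ⟨w, hw⟩
    rw [h1, MonoidHom.one_apply, MulAut.one_apply] at h3
    have h4 := congrArg Subtype.val h3
    rw [MulAut.conjNormal_apply] at h4
    exact mul_inv_eq_iff_eq_mul.1 h4.symm
  · refine Or.inr ⟨h1, fun D hD w hw hc => ?_⟩
    have h3 := h2 ⟨w, hw⟩ (by
      rw [← hD, hρ]
      exact Subtype.ext (by rw [MulAut.conjNormal_apply, hc, mul_inv_cancel_right]))
    exact congrArg Subtype.val h3

theorem minimal_central (h : Hyp π) {W : Subgroup Y} [hWn : W.Normal] (hW : W ≤ P) (hW1 : W ≠ ⊥)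
    (hmin : ∀ K : Subgroup Y, K.Normal → K ≤ W → K = ⊥ ∨ K = W) :
    (∀ p ∈ P, ∀ w ∈ W, p * w = w * p) ∧ (∀ w ∈ W, w * w = 1) ∧
      (((∀ y : Y, ∀ w ∈ W, y * w = w * y) ∧ Nat.card W = 2) ∨
        Nat.card W = 16 ∧ ∀ D, π D = fiveElt → ∀ w ∈ W, D * w = w * D → w = 1) := by
  haveI : Fact (Nat.Prime 2) := ⟨Nat.prime_two⟩
  haveI := MonoidHom.normal_ker π
  have hc : ∀ p ∈ P, ∀ w ∈ W, p * w = w * p := by
    set K := W ⊓ centralizer (P : Set Y) with hK
    have hne : K ≠ ⊥ := by
      intro he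
      have h1 := PGroups.inf_center_ne_bot h.pg (N := W.subgroupOf P) (by
        rw [Ne, subgroupOf_eq_bot, disjoint_iff, inf_eq_left.2 hW]
        exact hW1)
      obtain ⟨x, hx, hx1⟩ := (Subgroup.bot_or_exists_ne_one _).resolve_left h1
      refine hx1 (Subtype.ext ((eq_bot_iff_forall _).1 he x ⟨hx.1, ?_⟩))
      exact mem_centralizer_iff.2 fun p hp =>
        congrArg Subtype.val (mem_center_iff.1 hx.2 ⟨p, hp⟩)
    have hKn : K.Normal := ⟨fun x hx g => ⟨hWn.conj_mem x hx.1 g,
      mem_centralizer_iff.2 fun p hp => by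
        have h1 := mem_centralizer_iff.1 hx.2 (g⁻¹ * p * g)
          (by have := (MonoidHom.normal_ker π).conj_mem p hp g⁻¹; rwa [inv_inv] at this)
        calc p * (g * x * g⁻¹) = g * ((g⁻¹ * p * g) * x) * g⁻¹ := by group
          _ = g * (x * (g⁻¹ * p * g)) * g⁻¹ := by rw [h1]
          _ = g * x * g⁻¹ * p := by group⟩⟩
    have hKW := (hmin K hKn inf_le_left).resolve_left hne
    intro p hp w hw
    exact mem_centralizer_iff.1 (hKW.ge hw).2 p hp
  have he : ∀ w ∈ W, w * w = 1 := by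
    let K : Subgroup Y :=
      { carrier := {w | w ∈ W ∧ w * w = 1}
        one_mem' := ⟨one_mem _, one_mul 1⟩
        mul_mem' := fun {a b} ha hb => ⟨mul_mem ha.1 hb.1, by
          rw [show a * b * (a * b) = a * (b * a) * b by group, hc b (hW hb.1) a ha.1,
            show a * (a * b) * b = (a * a) * (b * b) by group, ha.2, hb.2, one_mul]⟩
        inv_mem' := fun {a} ha => ⟨inv_mem ha.1, by
          rw [← mul_inv_rev, ha.2, inv_one]⟩ }
    have hKn : K.Normal := ⟨fun x hx g => ⟨hWn.conj_mem x hx.1 g, by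
      rw [show g * x * g⁻¹ * (g * x * g⁻¹) = g * (x * x) * g⁻¹ by group, hx.2, mul_one,
        mul_inv_cancel]⟩⟩
    have hne : K ≠ ⊥ := by
      intro he
      obtain ⟨n, hn⟩ := (h.pg.to_le hW).exists_card_eq
      have hn0 : n ≠ 0 := fun h0 => hW1 (card_eq_one.1 (by rw [hn, h0, pow_zero]))
      obtain ⟨x, hx⟩ := exists_prime_orderOf_dvd_card' (G := W) 2 (hn ▸ dvd_pow_self 2 hn0)
      have hx2 : (x : Y) * x = 1 := by
        have := congrArg Subtype.val (pow_orderOf_eq_one x)
        rw [hx, pow_two] at this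
        exact this
      have hx1 := (eq_bot_iff_forall _).1 he (x : Y) ⟨x.2, hx2⟩
      rw [show x = 1 from Subtype.ext hx1, orderOf_one] at hx
      omega
    have hKW := (hmin K hKn fun w hw => hw.1).resolve_left hne
    exact fun w hw => (hKW.ge hw).2
  refine ⟨hc, he, ?_⟩
  rcases h.lower hW hc (h.card_layer (fun a ha b hb => hc a (hW ha) b hb) he) with h1 | h1
  · refine Or.inl ⟨h1, ?_⟩
    obtain ⟨x, hx, hx1⟩ := (Subgroup.bot_or_exists_ne_one _).resolve_left hW1
    have hKn : (zpowers x).Normal := ⟨fun w hw g => by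
      obtain ⟨i, rfl⟩ := mem_zpowers_iff.1 hw
      rw [h1 g _ (zpow_mem hx i), mul_inv_cancel_right]
      exact zpow_mem (mem_zpowers x) i⟩
    rw [← (hmin _ hKn (zpowers_le.2 hx)).resolve_left fun e => hx1 (zpowers_eq_bot.1 e),
      Nat.card_zpowers]
    exact orderOf_eq_prime (by rw [pow_two]; exact he x hx) hx1
  · exact Or.inr h1

/-- The lowest layer is of order two. -/
theorem card_two (h : Hyp π) (hF1 : F ≠ ⊥)
    (hmin : ∀ K : Subgroup Y, K.Normal → K ≤ F → K = ⊥ ∨ K = F) :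
    Nat.card (sqClosure P) = 2 ∧ ∀ y : Y, ∀ w ∈ sqClosure P, y * w = w * y := by
  obtain ⟨hc, he, h1 | ⟨h16, hfix⟩⟩ := h.minimal_central (sqClosure_le P) hF1 hmin
  · exact ⟨h1.2, h1.1⟩
  · exfalso
    obtain ⟨D, hD, hD5⟩ := exists_five_lift π h.surj h.pg
    exact not_sectional_two_layers h.surj h.pg F (sqClosure_le P) hc he h16 h.relIndex_eq
      (fun p hp q hq => comm_mem_sqClosure hp hq) (fun p hp => sq_mem_sqClosure hp) hD hD5
      (fun p hp hpf => h.mem_of_fixed hD hp hpf) (hfix D hD) h.rank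

/-- A subgroup of the kernel invariant under the element of order five. -/
theorem invariant_modEq (h : Hyp π) {D : Y} (hD : π D = fiveElt) (hD5 : D ^ 5 = 1)
    {K : Subgroup Y} (hK : K ≤ P) (hDK : ∀ k ∈ K, D * k * D⁻¹ ∈ K) (hFK : sqClosure P ≤ K)
    (hDF : ∀ w ∈ sqClosure P, D * w = w * D) :
    ∃ n j : ℕ, Nat.card K = 2 ^ n ∧ Nat.card (sqClosure P) = 2 ^ j ∧ j ≤ n ∧
      2 ^ n % 5 = 2 ^ j % 5 := by
  let f : K →* K :=
    { toFun := fun k => ⟨D * k * D⁻¹, hDK k k.2⟩
      map_one' := Subtype.ext (by simp)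
      map_mul' := fun a b => Subtype.ext (by simp [mul_assoc]) }
  have hf : Function.Injective f := fun a b hab =>
    Subtype.ext (mul_left_cancel (mul_right_cancel (congrArg Subtype.val hab :)))
  let α : MulAut K := MulEquiv.ofBijective f (Finite.injective_iff_bijective.1 hf)
  have happ : ∀ (i : ℕ) (k : K), ((α ^ i) k : Y) = D ^ i * k * (D ^ i)⁻¹ := by
    intro i
    induction i with
    | zero => intro k; simp
    | succ i ih =>
      intro k
      rw [pow_succ, MulAut.mul_apply, ih, show ((α k : K) : Y) = D * k * D⁻¹ from rfl, pow_succ]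
      group
  have hα5 : α ^ 5 = 1 := MulEquiv.ext fun k => Subtype.ext (by
    rw [happ, hD5, MulAut.one_apply, one_mul, inv_one, mul_one])
  obtain ⟨n, j, hn, hj, hjn, hmod⟩ := five_modEq (h.pg.to_le hK) α hα5
  refine ⟨n, j, hn, ?_, hjn, hmod⟩
  rw [← hj]
  refine Nat.card_congr
    { toFun := fun w => ⟨⟨w, hFK w.2⟩, Subtype.ext (by
        show D * (w : Y) * D⁻¹ = w
        rw [hDF w w.2, mul_inv_cancel_right])⟩
      invFun := fun k => ⟨(k.1 : Y), h.mem_of_comm hD (hK k.1.2)
        (mul_inv_eq_iff_eq_mul.1 (congrArg Subtype.val k.2))⟩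
      left_inv := fun _ => rfl
      right_inv := fun _ => rfl }

/-- The extraspecial case. -/
theorem extraspecial (h : Hyp π) (hF1 : F ≠ ⊥)
    (hmin : ∀ K : Subgroup Y, K.Normal → K ≤ F → K = ⊥ ∨ K = F) :
    Nat.card P = 32 ∧ Cfsg.IsExtraspecial 2 P ∧ Nat.card {x : P // x * x = 1} = 12 ∧
      ∃ A B : Subgroup P, Nonempty (↥A ≃* QuaternionGroup 2) ∧ Nonempty (↥B ≃* DihedralGroup 4) ∧
        (∀ a ∈ A, ∀ b ∈ B, a * b = b * a) ∧ A ⊔ B = ⊤ ∧ A ⊓ B = center P := by
  haveI : Fact (Nat.Prime 2) := ⟨Nat.prime_two⟩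
  haveI := MonoidHom.normal_ker π
  obtain ⟨hF2, hFc⟩ := h.card_two hF1 hmin
  have h32 : Nat.card P = 32 := by rw [h.card_eq, hF2]
  obtain ⟨D, hD, hD5⟩ := exists_five_lift π h.surj h.pg
  have hFP := sqClosure_le P
  have hFe : ∀ w ∈ sqClosure P, w * w = 1 := fun w hw => by
    have h1 := Subgroup.orderOf_dvd_natCard (sqClosure P) hw
    rw [hF2] at h1
    rw [← pow_two]
    exact orderOf_dvd_iff_pow_eq_one.1 h1
  have hsub : ∀ K : Subgroup Y, K ≤ P → (∀ k ∈ K, D * k * D⁻¹ ∈ K) → sqClosure P ≤ K →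
      K = sqClosure P ∨ K = P := by
    intro K hK hDK hFK
    obtain ⟨n, j, hn, hj, hjn, hmod⟩ := h.invariant_modEq hD hD5 hK hDK hFK (hFc D)
    have hj1 : j = 1 := Nat.pow_right_injective le_rfl (show 2 ^ j = 2 ^ 1 by rw [← hj, hF2, pow_one])
    subst hj1
    have hn5 : n ≤ 5 := (Nat.pow_le_pow_iff_right (by norm_num : 1 < 2)).1
      (by rw [← hn]; exact (Nat.le_of_dvd Nat.card_pos (card_dvd_of_le hK)).trans_eq h32)
    have : n = 1 ∨ n = 5 := by interval_cases n <;> omega
    rcases this with rfl | rfl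
    · exact Or.inl (eq_of_le_of_card_ge hFK (by rw [hn, hF2]; norm_num)).symm
    · exact Or.inr (eq_of_le_of_card_ge hK (by rw [hn, h32]; norm_num))
  have hna : ¬ IsMulCommutative P := by
    intro hab
    let K : Subgroup Y :=
      { carrier := {p | p ∈ π.ker ∧ p * p = 1}
        one_mem' := ⟨one_mem _, one_mul 1⟩
        mul_mem' := fun {a b} ha hb => ⟨mul_mem ha.1 hb.1, by
          have hc : b * a = a * b := congrArg Subtype.val (hab.is_comm.comm ⟨b, hb.1⟩ ⟨a, ha.1⟩)
          rw [show a * b * (a * b) = a * (b * a) * b by group, hc,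
            show a * (a * b) * b = (a * a) * (b * b) by group, ha.2, hb.2, one_mul]⟩
        inv_mem' := fun {a} ha => ⟨inv_mem ha.1, by rw [← mul_inv_rev, ha.2, inv_one]⟩ }
    rcases hsub K (fun p hp => hp.1)
      (fun k hk => ⟨(MonoidHom.normal_ker π).conj_mem k hk.1 D, by
        rw [show D * k * D⁻¹ * (D * k * D⁻¹) = D * (k * k) * D⁻¹ by group, hk.2, mul_one,
          mul_inv_cancel]⟩)
      (fun w hw => ⟨hFP hw, hFe w hw⟩) with hKF | hKP
    · let f : P →* sqClosure P :=
        { toFun := fun p => ⟨(p : Y) * p, sq_mem_sqClosure p.2⟩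
          map_one' := Subtype.ext (one_mul 1)
          map_mul' := fun a b => Subtype.ext (by
            have hc : (b : Y) * a = a * b := congrArg Subtype.val (hab.is_comm.comm b a)
            show (a : Y) * b * (a * b) = a * a * (b * b)
            rw [show (a : Y) * b * (a * b) = a * (b * a) * b by group, hc]
            group) }
      have hk : f.ker ≤ (sqClosure P).subgroupOf P := fun p hp => by
        rw [mem_subgroupOf, ← hKF]
        exact ⟨p.2, congrArg Subtype.val (MonoidHom.mem_ker.1 hp)⟩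
      have h1 := Nat.le_of_dvd Nat.card_pos (Subgroup.card_dvd_of_le hk)
      rw [Nat.card_congr (subgroupOfEquivOfLe hFP).toEquiv, hF2] at h1
      have h2 := Nat.le_of_dvd Nat.card_pos (Subgroup.card_subgroup_dvd_card f.range)
      rw [hF2] at h2
      have h3 := f.ker.index_mul_card
      rw [Subgroup.index_ker, h32] at h3
      nlinarith
    · refine hF1 (le_bot_iff.1 ((closure_le _).2 ?_))
      rintro _ ⟨p, hp, rfl⟩
      exact mem_bot.2 (hKP.ge hp).2
  have hZ : (center P).map π.ker.subtype = sqClosure P := by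
    refine (hsub _ (map_subtype_le _) ?_ ?_).resolve_right fun e => hna ⟨⟨fun a b => ?_⟩⟩
    · rintro _ ⟨c, hc, rfl⟩
      refine ⟨MulAut.conjNormal D c, ?_, MulAut.conjNormal_apply D c⟩
      exact (Subgroup.characteristic_iff_map_eq.1 inferInstance
        (MulAut.conjNormal D)).le ⟨c, hc, rfl⟩
    · intro w hw
      exact ⟨⟨w, hFP hw⟩, mem_center_iff.2 fun p => Subtype.ext (hFc p w hw), rfl⟩
    · obtain ⟨c, hc, hca⟩ := e.ge a.2
      rw [← show c = a from Subtype.ext hca]
      exact (mem_center_iff.1 hc b).symm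
  have hZmem : ∀ x : P, (x : Y) ∈ sqClosure P → x ∈ center P := fun x hx => by
    rw [← hZ] at hx
    obtain ⟨c, hc, hcx⟩ := hx
    rwa [← show c = x from Subtype.ext hcx]
  have hE : Cfsg.IsExtraspecial 2 P := by
    refine PGroups.isExtraspecial_of h.pg hna ?_ ?_ fun x => hZmem _ (by
      rw [pow_two]; exact sq_mem_sqClosure x.2)
    · rw [← card_map_of_injective π.ker.subtype_injective, hZ, hF2]
    · rw [_root_.commutator_def, commutator_le]
      intro a _ b _
      refine hZmem _ ?_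
      have h1 := comm_mem_sqClosure (inv_mem a.2) (inv_mem b.2)
      rw [inv_inv, inv_inv] at h1
      exact h1
  let β : MulAut P := MulAut.conjNormal D
  have hβ5 : β ^ 5 = 1 := by
    show (MulAut.conjNormal D : MulAut P) ^ 5 = 1
    rw [← map_pow, hD5, map_one]
  have hβ1 : β ≠ 1 := by
    intro hβ
    have hle : π.ker ≤ sqClosure π.ker := fun p hp => h.mem_of_comm hD hp (by
      have h1 := congrArg Subtype.val (DFunLike.congr_fun hβ ⟨p, hp⟩)
      change ((MulAut.conjNormal D (⟨p, hp⟩ : P) : P) : Y) = p at h1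
      rw [MulAut.conjNormal_apply] at h1
      exact mul_inv_eq_iff_eq_mul.1 h1)
    have h1 := Nat.le_of_dvd Nat.card_pos (card_dvd_of_le hle)
    omega
  obtain ⟨zc, hzc⟩ := exists_prime_orderOf_dvd_card' (G := center P) 2
    (by rw [PGroups.IsExtraspecial.card_center hE])
  have hz1 : (zc : P) ≠ 1 := fun e => by
    rw [show zc = 1 from Subtype.ext e, orderOf_one] at hzc
    omega
  exact ⟨h32, hE, (Recog.MinusThirtyTwo.minus_type hE zc.2 hz1 h32 hβ5 hβ1).1,
    minus_decomposition hE h32 hβ5 hβ1⟩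

/-- The hypotheses in a quotient by a subgroup below the squares. -/
theorem quotient (h : Hyp π) (N : Subgroup Y) [N.Normal] (hN : N ≤ sqClosure P) :
    ∃ π' : Y ⧸ N →* A5, Hyp π' ∧ π'.ker = π.ker.map (QuotientGroup.mk' N) ∧
      sqClosure π'.ker = (sqClosure π.ker).map (QuotientGroup.mk' N) := by
  have hNP : N ≤ π.ker := hN.trans (sqClosure_le _)
  let π' : Y ⧸ N →* A5 := QuotientGroup.lift N π hNP
  have hπ' : ∀ y : Y, π' (QuotientGroup.mk' N y) = π y := fun y => rfl
  have hk : π'.ker = π.ker.map (QuotientGroup.mk' N) := by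
    ext a
    obtain ⟨y, rfl⟩ := QuotientGroup.mk'_surjective N a
    refine ⟨fun ha => ⟨y, ha, rfl⟩, ?_⟩
    rintro ⟨x, hx, hxy⟩
    rw [MonoidHom.mem_ker, ← hxy]
    exact hx
  have hsq : sqClosure π'.ker = (sqClosure π.ker).map (QuotientGroup.mk' N) := by
    rw [hk, map_sqClosure]
  refine ⟨π', ⟨fun a => ?_, ?_, ?_, fun a ha => ?_⟩, hk, hsq⟩
  · obtain ⟨y, hy⟩ := h.surj a
    exact ⟨_, (hπ' y).trans hy⟩
  · rw [hk]; exact h.pg.map _
  · intro H M _ A hA hexp
    haveI := hA
    let H' : Subgroup Y := H.comap (QuotientGroup.mk' N)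
    let g : H' →* H ⧸ M := (QuotientGroup.mk' M).comp ((QuotientGroup.mk' N).subgroupComap H)
    have hg : Function.Surjective g := (QuotientGroup.mk'_surjective M).comp
      ((QuotientGroup.mk' N).subgroupComap_surjective_of_surjective H
        (QuotientGroup.mk'_surjective N))
    let q := QuotientGroup.quotientKerEquivOfSurjective g hg
    have hA' : IsMulCommutative (A.map q.symm.toMonoidHom) := ⟨⟨fun a b => Subtype.ext (by
      obtain ⟨a', ha, ha'⟩ := a.2
      obtain ⟨b', hb, hb'⟩ := b.2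
      show (a : H' ⧸ g.ker) * b = b * a
      rw [← ha', ← hb', ← map_mul, ← map_mul]
      exact congrArg _ (congrArg Subtype.val (hA.is_comm.comm ⟨a', ha⟩ ⟨b', hb⟩)))⟩⟩
    have := h.rank H' g.ker (A.map q.symm.toMonoidHom) hA' (by
      rintro _ ⟨a, ha, rfl⟩
      rw [← map_pow, hexp a ha, map_one])
    rwa [card_map_of_injective q.symm.injective] at this
  · obtain ⟨y, rfl⟩ := QuotientGroup.mk'_surjective N a
    obtain ⟨p, hp, hpn⟩ := h.moved y ((hπ' y).symm.trans ha)
    refine ⟨QuotientGroup.mk' N p, by rw [hk]; exact ⟨p, hp, rfl⟩, fun hmem => hpn ?_⟩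
    rw [hsq, ← map_inv, ← map_inv, ← map_mul, ← map_mul, ← map_mul] at hmem
    obtain ⟨x, hx, hxe⟩ := hmem
    have h1 := hN (QuotientGroup.eq.1 hxe)
    exact (Subgroup.mul_mem_cancel_left _ (inv_mem hx)).1 h1

theorem exists_maximal_below {W : Subgroup Y} (hW : W ≠ ⊥) :
    ∃ N : Subgroup Y, N.Normal ∧ N < W ∧ ∀ K : Subgroup Y, K.Normal → N ≤ K → K ≤ W →
      K = N ∨ K = W := by
  classical
  haveI := Fintype.ofFinite (Subgroup Y)
  obtain ⟨N, hN, hmax⟩ := Finset.exists_max_image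
    (Finset.univ.filter fun N : Subgroup Y => N.Normal ∧ N < W) (fun N => Nat.card N)
    ⟨⊥, Finset.mem_filter.2 ⟨Finset.mem_univ _, inferInstance, bot_lt_iff_ne_bot.2 hW⟩⟩
  obtain ⟨-, hNn, hNlt⟩ := Finset.mem_filter.1 hN
  refine ⟨N, hNn, hNlt, fun K hK hNK hKW => ?_⟩
  rcases eq_or_lt_of_le hKW with h | h
  · exact Or.inr h
  · exact Or.inl (eq_of_le_of_card_ge hNK (hmax K (Finset.mem_filter.2 ⟨Finset.mem_univ _, hK, h⟩))).symm

omit [Finite Y] in
theorem minimal_map {N W : Subgroup Y} [N.Normal] (hWn : W.Normal) (hNW : N < W)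
    (hmax : ∀ K : Subgroup Y, K.Normal → N ≤ K → K ≤ W → K = N ∨ K = W) :
    W.map (QuotientGroup.mk' N) ≠ ⊥ ∧ ∀ K : Subgroup (Y ⧸ N), K.Normal →
      K ≤ W.map (QuotientGroup.mk' N) → K = ⊥ ∨ K = W.map (QuotientGroup.mk' N) := by
  have hback : (W.map (QuotientGroup.mk' N)).comap (QuotientGroup.mk' N) = W := by
    rw [comap_map_eq, QuotientGroup.ker_mk', sup_eq_left.2 hNW.le]
  refine ⟨fun h => hNW.not_ge ?_, fun K hK hKW => ?_⟩
  · rw [← hback, h, MonoidHom.comap_bot, QuotientGroup.ker_mk']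
  have hKmap := map_comap_eq_self_of_surjective (QuotientGroup.mk'_surjective N) K
  rcases hmax (K.comap (QuotientGroup.mk' N)) (hK.comap _)
    (fun x hx => by
      rw [mem_comap, QuotientGroup.mk'_apply, (QuotientGroup.eq_one_iff x).2 hx]
      exact one_mem K)
    (hback ▸ comap_mono hKW) with h | h
  · refine Or.inl ?_
    rw [← hKmap, h, Subgroup.map_eq_bot_iff, QuotientGroup.ker_mk']
  · exact Or.inr (by rw [← hKmap, h])

/-- No third layer. -/
theorem no_three (h : Hyp π) {W : Subgroup Y} [hWn : W.Normal] (hWF : W < F) (hW1 : W ≠ ⊥)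
    (hmin : ∀ K : Subgroup Y, K.Normal → K ≤ W → K = ⊥ ∨ K = W)
    (hmax : ∀ K : Subgroup Y, K.Normal → W ≤ K → K ≤ F → K = W ∨ K = F) : False := by
  haveI : Fact (Nat.Prime 2) := ⟨Nat.prime_two⟩
  haveI := MonoidHom.normal_ker π
  set T := sqClosure π.ker with hT
  have hTn : T.Normal := sqClosure_ker_normal π
  have hTP : T ≤ π.ker := sqClosure_le _
  obtain ⟨π₁, h₁, hk₁, hs₁⟩ := h.quotient W hWF.le
  obtain ⟨hne₁, hmin₁⟩ := minimal_map hTn hWF hmax
  obtain ⟨hT₁, hT₁c⟩ := h₁.card_two (by rw [hs₁]; exact hne₁) (by rw [hs₁]; exact hmin₁)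
  have hidx : W.relIndex T = 2 := by
    rw [hs₁] at hT₁
    rw [← hT₁]
    let g := (QuotientGroup.mk' W).domRestrict T
    have h1 : g.ker = W.subgroupOf T := by rw [MonoidHom.ker_domRestrict, QuotientGroup.ker_mk']
    show (W.subgroupOf T).index = _
    rw [← h1, Subgroup.index_ker, MonoidHom.domRestrict_range]
  have hcentral₁ : ∀ y : Y, ∀ v ∈ T, (v⁻¹ * (y * v * y⁻¹)) ∈ W := by
    intro y v hv
    have h1 := hT₁c (QuotientGroup.mk' W y) (QuotientGroup.mk' W v) (hs₁.ge ⟨v, hv, rfl⟩)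
    rw [← QuotientGroup.eq_one_iff]
    show QuotientGroup.mk' W (v⁻¹ * (y * v * y⁻¹)) = 1
    rw [map_mul, map_mul, map_mul, map_inv, map_inv, h1, mul_inv_cancel_right, inv_mul_cancel]
  obtain ⟨hWc, hWe, hcase⟩ := h.minimal_central (hWF.le.trans hTP) hW1 hmin
  obtain ⟨D, hD, hD5⟩ := exists_five_lift π h.surj h.pg
  have hTcard : Nat.card T = 2 * Nat.card W := by
    have h1 := (W.subgroupOf T).index_mul_card
    rw [Nat.card_congr (subgroupOfEquivOfLe hWF.le).toEquiv] at h1
    change W.relIndex T * _ = _ at h1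
    rw [hidx] at h1
    exact h1.symm
  rcases hcase with ⟨hWY, hW2⟩ | ⟨hW16, hWfix⟩
  swap
  · -- a faithful bottom layer gives a large elementary subgroup
    obtain ⟨v, hv, hvW⟩ := SetLike.exists_of_lt hWF
    have hDc : (Nat.card (zpowers D)).Coprime (Nat.card W) := by
      rw [Nat.card_zpowers, hW16]
      exact Nat.Coprime.coprime_dvd_left (orderOf_dvd_of_pow_eq_one hD5) (by norm_num)
    obtain ⟨n, hn, hnc⟩ := Core.exists_centralizing_in_coset (A := zpowers D) (N := W)
      (by rw [normalizer_eq_top]; exact le_top) hDc (Or.inl inferInstance) (k := v)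
      fun a _ => hcentral₁ a v hv
    set v' := v * n with hv'def
    have hv'T : v' ∈ T := mul_mem hv (hWF.le hn)
    have hv'W : v' ∉ W := fun hm => hvW ((Subgroup.mul_mem_cancel_right _ hn).1 hm)
    have hv'D : D * v' = v' * D := mem_centralizer_iff.1 hnc D (mem_zpowers D)
    have hsq : v' * v' = 1 := by
      refine hWfix D hD _ ?_ (by rw [← mul_assoc, hv'D, mul_assoc, hv'D, ← mul_assoc])
      have := Subgroup.mul_self_mem_of_index_two (H := W.subgroupOf T) hidx ⟨v', hv'T⟩
      exact this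
    refine not_sectional_of_gens ((W : Set Y) ∪ {v'}) (⊥ : Subgroup Y) bot_le
      (fun a _ u hu => by rw [mem_bot.1 hu, mul_one, one_mul]) ?_ ?_ ?_ h.rank
    · rintro a (ha | ha) b (hb | hb) <;> rw [mem_bot]
      · rw [mul_assoc (a⁻¹ * b⁻¹), hWc a (hTP (hWF.le ha)) b hb]; group
      · rw [Set.mem_singleton_iff.1 hb, mul_assoc (a⁻¹ * v'⁻¹), ← hWc v' (hTP hv'T) a ha]; group
      · rw [Set.mem_singleton_iff.1 ha, mul_assoc (v'⁻¹ * b⁻¹), hWc v' (hTP hv'T) b hb]; group
      · rw [Set.mem_singleton_iff.1 ha, Set.mem_singleton_iff.1 hb]; simp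
    · rintro a (ha | ha) <;> rw [mem_bot]
      · exact hWe a ha
      · rw [Set.mem_singleton_iff.1 ha]; exact hsq
    · rw [card_bot, mul_one]
      have hlt : W < closure ((W : Set Y) ∪ {v'}) :=
        lt_of_le_of_ne (fun w hw => subset_closure (Or.inl hw)) fun e =>
          hv'W (e.ge (subset_closure (Or.inr rfl)))
      calc 2 ^ 4 = Nat.card W := by rw [hW16]; norm_num
        _ < _ := by
          refine lt_of_le_of_ne (Nat.le_of_dvd Nat.card_pos (card_dvd_of_le hlt.le)) fun e => ?_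
          exact hlt.ne (eq_of_le_of_card_ge hlt.le e.ge)
  -- a trivial bottom layer
  rw [hW2] at hTcard
  have hPc : Nat.card π.ker = 64 := by rw [h.card_eq, ← hT, hTcard]
  have hTcomm : ∀ a ∈ T, ∀ b ∈ T, a * b = b * a := by
    intro a ha b hb
    have hp : Nat.card T = 2 ^ 2 := by rw [hTcard]; rfl
    haveI := IsPGroup.isMulCommutative_of_card_eq_prime_sq hp
    exact congrArg Subtype.val (mul_comm' (⟨a, ha⟩ : T) ⟨b, hb⟩)
  have hDT : ∀ w ∈ T, D * w = w * D := by
    let α : MulAut T := MulAut.conjNormal D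
    have hα5 : α ^ 5 = 1 := by
      show (MulAut.conjNormal D : MulAut T) ^ 5 = 1
      rw [← map_pow, hD5, map_one]
    by_cases hα : α = 1
    · intro w hw
      have h1 := congrArg Subtype.val (DFunLike.congr_fun hα ⟨w, hw⟩)
      change ((MulAut.conjNormal D (⟨w, hw⟩ : T) : T) : Y) = w at h1
      rw [MulAut.conjNormal_apply] at h1
      exact mul_inv_eq_iff_eq_mul.1 h1
    · have h1 := (five_small (h.pg.to_le hTP) (by omega) α hα5 hα).1
      omega
  have hTc : ∀ p ∈ π.ker, ∀ v ∈ T, p * v = v * p := by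
    intro p hp v hv
    set K := π.ker ⊓ centralizer ({v} : Set Y) with hK
    have hTK : T ≤ K := fun w hw => ⟨hTP hw, mem_centralizer_singleton_iff.2 (hTcomm w hw v hv)⟩
    obtain ⟨n, j, hn, hj, hjn, hmod⟩ := h.invariant_modEq hD hD5 (K := K) inf_le_left (by
      intro k hk
      refine ⟨(MonoidHom.normal_ker π).conj_mem k hk.1 D, mem_centralizer_singleton_iff.2 ?_⟩
      have hkv : k * v = v * k := mem_centralizer_singleton_iff.1 hk.2
      have hDv : D⁻¹ * v = v * D⁻¹ := by
        have := hDT v hv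
        calc D⁻¹ * v = D⁻¹ * (v * D) * D⁻¹ := by group
          _ = D⁻¹ * (D * v) * D⁻¹ := by rw [this]
          _ = v * D⁻¹ := by group
      calc D * k * D⁻¹ * v = D * k * (D⁻¹ * v) := by group
        _ = D * (k * v) * D⁻¹ := by rw [hDv]; group
        _ = D * (v * k) * D⁻¹ := by rw [hkv]
        _ = (D * v) * (k * D⁻¹) := by group
        _ = v * (D * k * D⁻¹) := by rw [hDT v hv]; group) hTK hDT
    rw [← hT] at hj
    have hj2 : j = 2 := Nat.pow_right_injective le_rfl (show 2 ^ j = 2 ^ 2 by rw [← hj, hTcard])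
    subst hj2
    have hK32 : 32 ≤ Nat.card K := by
      let f : π.ker →* W :=
        { toFun := fun q => ⟨v⁻¹ * ((q : Y) * v * (q : Y)⁻¹), hcentral₁ q v hv⟩
          map_one' := Subtype.ext (by simp)
          map_mul' := fun a b => Subtype.ext (by
            show v⁻¹ * ((a : Y) * b * v * ((a : Y) * b)⁻¹) =
              v⁻¹ * ((a : Y) * v * (a : Y)⁻¹) * (v⁻¹ * ((b : Y) * v * (b : Y)⁻¹))
            have hb := hWc a a.2 _ (hcentral₁ b v hv)
            calc v⁻¹ * ((a : Y) * b * v * ((a : Y) * b)⁻¹)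
                = v⁻¹ * ((a : Y) * v * ((v⁻¹ * ((b : Y) * v * (b : Y)⁻¹)) * (a : Y)⁻¹)) := by group
              _ = v⁻¹ * ((a : Y) * v * ((a : Y)⁻¹ * (v⁻¹ * ((b : Y) * v * (b : Y)⁻¹)))) := by
                  rw [hWc (a : Y)⁻¹ (inv_mem a.2) _ (hcentral₁ b v hv)]
              _ = _ := by group) }
      have hk : f.ker ≤ K.subgroupOf π.ker := fun q hq => by
        have h1 : v⁻¹ * ((q : Y) * v * (q : Y)⁻¹) = 1 :=
          congrArg Subtype.val (MonoidHom.mem_ker.1 hq)
        rw [inv_mul_eq_one, eq_comm, mul_inv_eq_iff_eq_mul] at h1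
        exact ⟨q.2, mem_centralizer_singleton_iff.2 h1⟩
      have h1 := Nat.le_of_dvd Nat.card_pos (Subgroup.card_dvd_of_le hk)
      rw [Nat.card_congr (subgroupOfEquivOfLe (inf_le_left : K ≤ π.ker)).toEquiv] at h1
      have h2 := Nat.le_of_dvd Nat.card_pos (Subgroup.card_subgroup_dvd_card f.range)
      rw [hW2] at h2
      have h3 := f.ker.index_mul_card
      rw [Subgroup.index_ker, hPc] at h3
      nlinarith
    have hn6 : n ≤ 6 := (Nat.pow_le_pow_iff_right (by norm_num : 1 < 2)).1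
      (by rw [← hn]; exact (Nat.le_of_dvd Nat.card_pos (card_dvd_of_le inf_le_left)).trans_eq hPc)
    have hn' : n = 6 := by
      rw [hn] at hK32
      interval_cases n <;> omega
    have hKP : K = π.ker := eq_of_le_of_card_ge inf_le_left (by rw [hPc, hn, hn']; norm_num)
    exact mem_centralizer_singleton_iff.1 (hKP.ge hp).2
  have hTY : ∀ y : Y, ∀ v ∈ T, y * v = v * y := by
    rcases h.lower hTP hTc (by omega) with h1 | ⟨h1, -⟩
    · exact h1
    · omega
  -- the squares of commutators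
  have hcsq : ∀ p ∈ π.ker, ∀ q ∈ π.ker,
      (p⁻¹ * q⁻¹ * p * q) * (p⁻¹ * q⁻¹ * p * q) = 1 := by
    intro p hp q hq
    set c := p⁻¹ * q⁻¹ * p * q with hc
    have hcT : c ∈ T := comm_mem_sqClosure hp hq
    have h1 : q⁻¹ * (p * p) * q = p * p := by
      rw [hTY q⁻¹ _ (sq_mem_sqClosure hp), inv_mul_cancel_right]
    have h2 : q⁻¹ * p * q = p * c := by rw [hc]; group
    have h3 : p * p * (c * c) = p * p := by
      calc p * p * (c * c) = p * (p * c) * c := by group
        _ = p * (c * p) * c := by rw [hTY p c hcT]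
        _ = (p * c) * (p * c) := by group
        _ = p * p := by rw [← h2, show q⁻¹ * p * q * (q⁻¹ * p * q) = q⁻¹ * (p * p) * q by group, h1]
    exact mul_eq_left.1 h3
  by_cases hTe : ∀ w ∈ T, w * w = 1
  swap
  · -- a cyclic centre
    push Not at hTe
    obtain ⟨w₀, hw₀, hw₀1⟩ := hTe
    have hinT : ∀ w ∈ T, w * w = 1 → w ∈ W := by
      let Ω : Subgroup Y :=
        { carrier := {w | w ∈ T ∧ w * w = 1}
          one_mem' := ⟨one_mem _, one_mul 1⟩
          mul_mem' := fun {a b} ha hb => ⟨mul_mem ha.1 hb.1, by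
            rw [show a * b * (a * b) = a * (b * a) * b by group, hTcomm b hb.1 a ha.1,
              show a * (a * b) * b = (a * a) * (b * b) by group, ha.2, hb.2, one_mul]⟩
          inv_mem' := fun {a} ha => ⟨inv_mem ha.1, by rw [← mul_inv_rev, ha.2, inv_one]⟩ }
      have hΩn : Ω.Normal := ⟨fun x hx g => ⟨hTn.conj_mem x hx.1 g, by
        rw [show g * x * g⁻¹ * (g * x * g⁻¹) = g * (x * x) * g⁻¹ by group, hx.2, mul_one,
          mul_inv_cancel]⟩⟩
      rcases hmax Ω hΩn (fun w hw => ⟨hWF.le hw, hWe w hw⟩) fun w hw => hw.1 with h1 | h1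
      · exact fun w hw hw2 => h1.le ⟨hw, hw2⟩
      · exact absurd (h1.ge hw₀).2 hw₀1
    obtain ⟨-, hE₁, -⟩ := h₁.extraspecial (by rw [hs₁]; exact hne₁) (by rw [hs₁]; exact hmin₁)
    refine PGroups.IsExtraspecial.not_comm hE₁ ⟨⟨fun a b => ?_⟩⟩
    obtain ⟨p, hp, hpa⟩ := hk₁.le a.2
    obtain ⟨q, hq, hqb⟩ := hk₁.le b.2
    apply Subtype.ext
    push_cast
    rw [← hpa, ← hqb, ← map_mul, ← map_mul, eq_comm]
    refine QuotientGroup.eq.2 ?_
    rw [mul_inv_rev, ← mul_assoc]
    exact hinT _ (comm_mem_sqClosure hp hq) (hcsq p hp q hq)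
  -- an elementary centre
  obtain ⟨ρ, hρ, hρne, hQ16, -⟩ := h.upper
  classical
  haveI := Fintype.ofFinite (topLayer π)
  haveI := Fintype.ofFinite π.ker
  let sq : topLayer π → Y := Quotient.lift (fun p : π.ker => (p : Y) * p) (by
    intro p q hpq
    have hm : (p : Y)⁻¹ * q ∈ T := by
      have h1 := QuotientGroup.leftRel_apply.1 hpq
      rw [mem_subgroupOf] at h1
      exact h1
    set u := (p : Y)⁻¹ * q with hu
    have hq : (q : Y) = p * u := by rw [hu, mul_inv_cancel_left]
    show (p : Y) * p = q * q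
    rw [hq, show (p : Y) * u * (p * u) = p * (u * p) * u by group, ← hTY (p : Y) u hm,
      show (p : Y) * (p * u) * u = p * p * (u * u) by group, hTe u hm, mul_one])
  have hsqmk : ∀ p : π.ker, sq (QuotientGroup.mk p) = (p : Y) * p := fun p => rfl
  have hsqT : ∀ v, sq v ∈ T := fun v => by
    obtain ⟨p, rfl⟩ := QuotientGroup.mk_surjective v
    exact sq_mem_sqClosure p.2
  have hsq1 : sq 1 = 1 := one_mul 1
  have hsix : ∀ a ∈ T, a ≠ 1 →
      (Finset.univ.filter fun v => sq v = 1 ∨ sq v = a).card = 6 := by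
    intro a ha ha1
    set A := zpowers a with hA
    have hAT : A ≤ T := zpowers_le.2 ha
    have hamem : ∀ w, w ∈ A ↔ w = 1 ∨ w = a := fun w => by
      refine ⟨fun hw => ?_, ?_⟩
      · obtain ⟨i, rfl⟩ := mem_zpowers_iff.1 hw
        rcases Int.even_or_odd' i with ⟨j, rfl | rfl⟩
        · exact Or.inl (by rw [zpow_mul, zpow_ofNat, pow_two, hTe a ha, one_zpow])
        · exact Or.inr (by rw [zpow_add, zpow_mul, zpow_ofNat, pow_two, hTe a ha, one_zpow,
            one_mul, zpow_one])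
      · rintro (rfl | rfl)
        · exact one_mem _
        · exact mem_zpowers _
    haveI hAn : A.Normal := ⟨fun w hw g => by
      rw [hTY g w (hAT hw), mul_inv_cancel_right]; exact hw⟩
    obtain ⟨π₂, h₂, hk₂, hs₂⟩ := h.quotient A hAT
    have hA2 : Nat.card A = 2 := by
      rw [Nat.card_zpowers]; exact orderOf_eq_prime (by rw [pow_two]; exact hTe a ha) ha1
    have hne₂ : sqClosure π₂.ker ≠ ⊥ := by
      rw [hs₂, Ne, Subgroup.map_eq_bot_iff, QuotientGroup.ker_mk']
      intro hle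
      have := Nat.le_of_dvd Nat.card_pos (card_dvd_of_le hle)
      rw [hA2, ← hT, hTcard] at this
      omega
    have hmin₂ : ∀ K : Subgroup (Y ⧸ A), K.Normal → K ≤ sqClosure π₂.ker →
        K = ⊥ ∨ K = sqClosure π₂.ker := by
      intro K _ hK
      have hc2 : Nat.card (sqClosure π₂.ker) = 2 := by
        rw [hs₂]
        let g := (QuotientGroup.mk' A).domRestrict T
        have h1 := g.ker.index_mul_card
        rw [Subgroup.index_ker, MonoidHom.domRestrict_range, MonoidHom.ker_domRestrict,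
          QuotientGroup.ker_mk', Nat.card_congr (subgroupOfEquivOfLe hAT).toEquiv, hA2,
          hTcard] at h1
        rw [← hT]
        omega
      rcases (Nat.dvd_prime Nat.prime_two).1 (hc2 ▸ card_dvd_of_le hK) with h1 | h1
      · exact Or.inl (card_eq_one.1 h1)
      · exact Or.inr (eq_of_le_of_card_ge hK (by rw [h1, hc2]))
    obtain ⟨-, -, h12, -⟩ := h₂.extraspecial hne₂ hmin₂
    let φ : π.ker →* π₂.ker :=
      { toFun := fun p => ⟨QuotientGroup.mk' A p, hk₂.ge ⟨p, p.2, rfl⟩⟩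
        map_one' := rfl
        map_mul' := fun _ _ => rfl }
    have hφ : Function.Surjective φ := fun b => by
      obtain ⟨p, hp, hpb⟩ := hk₂.le b.2
      exact ⟨⟨p, hp⟩, Subtype.ext hpb⟩
    have hAP : A ≤ π.ker := hAT.trans hTP
    have hφk : φ.ker = A.subgroupOf π.ker := by
      ext p
      rw [MonoidHom.mem_ker, mem_subgroupOf, ← QuotientGroup.eq_one_iff (N := A)]
      exact Subtype.ext_iff
    have hcount1 : Nat.card {p : π.ker // (p : Y) * p ∈ A} = 24 := by
      let q := QuotientGroup.quotientKerEquivOfSurjective φ hφ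
      have hk2 : Nat.card φ.ker = 2 := by
        rw [hφk, Nat.card_congr (subgroupOfEquivOfLe hAP).toEquiv, hA2]
      have he : Nat.card {p : π.ker // (p : Y) * p ∈ A} =
          Nat.card φ.ker * Nat.card {b : π.ker ⧸ φ.ker // q b * q b = 1} := by
        rw [← Nat.card_prod]
        refine Nat.card_congr ((Equiv.subtypeEquivRight fun p => ?_).trans
          (QuotientGroup.preimageMkEquivSubgroupProdSet φ.ker {b | q b * q b = 1}))
        show _ ↔ φ p * φ p = 1
        rw [← map_mul, ← MonoidHom.mem_ker, hφk, mem_subgroupOf]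
        rfl
      rw [he, hk2, Nat.card_congr (Equiv.subtypeEquiv q.toEquiv fun b => Iff.rfl :
        {b : π.ker ⧸ φ.ker // q b * q b = 1} ≃ {x : π₂.ker // x * x = 1}), h12]
    have hcount2 : Nat.card {p : π.ker // (p : Y) * p ∈ A} =
        4 * (Finset.univ.filter fun v => sq v = 1 ∨ sq v = a).card := by
      rw [← Fintype.card_subtype, ← Nat.card_eq_fintype_card]
      have h4 : Nat.card ((sqClosure π.ker).subgroupOf π.ker) = 4 := by
        rw [Nat.card_congr (subgroupOfEquivOfLe hTP).toEquiv, hTcard]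
      rw [← h4, ← Nat.card_prod]
      refine Nat.card_congr ((Equiv.subtypeEquivRight fun p => ?_).trans
        (QuotientGroup.preimageMkEquivSubgroupProdSet _ {v : topLayer π | sq v = 1 ∨ sq v = a}))
      exact hamem _
    omega
  -- three invariant sets of five
  set n : Y → ℕ := fun a => (Finset.univ.filter fun v => sq v = a).card with hn
  have hsum6 : ∀ a ∈ T, a ≠ 1 → n 1 + n a = 6 := fun a ha ha1 => by
    rw [← hsix a ha ha1, Finset.filter_or, Finset.card_union_of_disjoint]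
    rw [Finset.disjoint_filter]
    exact fun v _ h1 h2 => ha1 (h2.symm.trans h1)
  obtain ⟨a, b, c, ha, hb, hc, ha1, hb1, hc1, hab, hac, hbc, hall⟩ :
      ∃ a b c, a ∈ T ∧ b ∈ T ∧ c ∈ T ∧ a ≠ 1 ∧ b ≠ 1 ∧ c ≠ 1 ∧ a ≠ b ∧ a ≠ c ∧ b ≠ c ∧
        ∀ w ∈ T, w = 1 ∨ w = a ∨ w = b ∨ w = c := by
    haveI := Fintype.ofFinite T
    haveI : Nontrivial T := Finite.one_lt_card_iff_nontrivial.1 (by omega)
    obtain ⟨a, ha⟩ := exists_ne (1 : T)
    obtain ⟨b, hb, hba⟩ : ∃ b : T, b ≠ 1 ∧ b ≠ a := by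
      by_contra hcon
      push Not at hcon
      have hle : (Finset.univ : Finset T).card ≤ ({1, a} : Finset T).card :=
        Finset.card_le_card fun x _ => by
          rcases eq_or_ne x 1 with rfl | hx
          · simp
          · simp [hcon x hx]
      have h2 := hle.trans Finset.card_le_two
      rw [Finset.card_univ, ← Nat.card_eq_fintype_card, hTcard] at h2
      omega
    refine ⟨a, b, (a * b : T), a.2, b.2, (a * b).2, fun e => ha (Subtype.ext e),
      fun e => hb (Subtype.ext e), fun e => ?_, fun e => hba (Subtype.ext e.symm),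
      fun e => hb ?_, fun e => ha ?_, ?_⟩
    · refine hba (Subtype.ext ?_)
      have e' : (a : Y) * b = 1 := e
      rw [← mul_one (b : Y), ← hTe a a.2, ← mul_assoc, hTY (b : Y) a a.2, e', one_mul]
    · exact Subtype.ext (mul_eq_left.1 (show (a : Y) * b = a from e.symm))
    · exact Subtype.ext (mul_eq_right.1 (show (a : Y) * b = b from e.symm))
    intro w hw
    by_contra hcon
    push Not at hcon
    obtain ⟨h1, h2, h3, h4⟩ := hcon
    have hle : ({1, a, b, a * b, ⟨w, hw⟩} : Finset T).card ≤ 4 := by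
      refine (Finset.card_le_univ _).trans_eq ?_
      rw [← Nat.card_eq_fintype_card, hTcard]
    have h5 : ({1, a, b, a * b, ⟨w, hw⟩} : Finset T).card = 5 := by
      have hab1 : (1 : T) ≠ a * b := fun e => hba (by
        rw [← mul_one b, show (1 : T) = a * a from (Subtype.ext (hTe a a.2)).symm,
          show b * (a * a) = (a * b) * a by
            apply Subtype.ext; push_cast; rw [← mul_assoc, hTY (b : Y) a a.2],
          ← e, one_mul])
      have hab2 : a ≠ a * b := fun e => hb (mul_eq_left.1 e.symm)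
      have hab3 : b ≠ a * b := fun e => ha (mul_eq_right.1 e.symm)
      have w1 : (1 : T) ≠ ⟨w, hw⟩ := fun e => h1 (congrArg Subtype.val e).symm
      have w2 : a ≠ ⟨w, hw⟩ := fun e => h2 (congrArg Subtype.val e).symm
      have w3 : b ≠ ⟨w, hw⟩ := fun e => h3 (congrArg Subtype.val e).symm
      have w4 : a * b ≠ ⟨w, hw⟩ := fun e => h4 (congrArg Subtype.val e).symm
      simp [Ne.symm ha, Ne.symm hb, Ne.symm hba, hab1, hab2, hab3, w1, w2, w3, w4]
    omega
  have hsplit : ∀ (S : Finset (topLayer π)), S.card = (S.filter fun v => sq v = 1).card +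
      (S.filter fun v => sq v = a).card + (S.filter fun v => sq v = b).card +
      (S.filter fun v => sq v = c).card := by
    intro S
    rw [← Finset.card_union_of_disjoint, ← Finset.card_union_of_disjoint,
      ← Finset.card_union_of_disjoint]
    · congr 1
      ext v
      simp only [Finset.mem_union, Finset.mem_filter]
      rcases hall _ (hsqT v) with h1 | h1 | h1 | h1 <;>
        simp [h1, ha1, hb1, hc1, hab, hac, hbc, ha1.symm, hb1.symm, hc1.symm, hab.symm, hac.symm,
          hbc.symm]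
    all_goals
      simp only [Finset.disjoint_left, Finset.mem_union, Finset.mem_filter]
      intro v hv hv'
      rw [hv'.2] at hv
      simp [ha1, hb1, hc1, hab, hac, hbc, ha1.symm, hb1.symm, hc1.symm, hab.symm, hac.symm,
        hbc.symm] at hv
  have htot : n 1 + n a + n b + n c = 16 := by
    rw [← hQ16, Nat.card_eq_fintype_card, ← Finset.card_univ, hsplit Finset.univ]
  have hn1 : 1 ≤ n 1 := Finset.card_pos.2 ⟨1, Finset.mem_filter.2 ⟨Finset.mem_univ _, hsq1⟩⟩
  have h6a := hsum6 a ha ha1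
  have h6b := hsum6 b hb hb1
  have h6c := hsum6 c hc hc1
  -- the element of order three
  obtain ⟨G, hG⟩ := h.surj threeElt
  set σ := ρ threeElt with hσ
  have hσ3 : σ ^ 3 = 1 := by rw [hσ, ← map_pow, threeElt_pow, map_one]
  have hσsq : ∀ v, sq (σ v) = sq v := by
    intro v
    obtain ⟨p, rfl⟩ := QuotientGroup.mk_surjective v
    rw [hσ, ← hG, hρ, conjTop_mk, hsqmk, hsqmk]
    show G * p * G⁻¹ * (G * p * G⁻¹) = _
    rw [show G * (p : Y) * G⁻¹ * (G * p * G⁻¹) = G * (p * p) * G⁻¹ by group,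
      hTY G _ (sq_mem_sqClosure p.2), mul_inv_cancel_right]
  haveI : Fact (Nat.Prime 3) := ⟨by norm_num⟩
  have hS : ∀ w, n w = 5 → 2 ≤ (Finset.univ.filter fun v => sq v = w ∧ σ v = v).card ∧
      (Finset.univ.filter fun v => sq v = w ∧ σ v = v).card % 3 = 2 := by
    intro w hw
    let S := {v : topLayer π // sq v = w}
    let e : Equiv.Perm S := Equiv.Perm.subtypePerm (σ.toEquiv : Equiv.Perm (topLayer π)) fun v => by
      show sq (σ v) = w ↔ sq v = w
      rw [hσsq]
    have he1 : ∀ v : S, (e v).1 = σ v.1 := fun v =>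
      congrArg Subtype.val (Equiv.Perm.subtypePerm_apply _ _ v)
    have he : ∀ (i : ℕ) (v : S), ((e ^ i) v).1 = (σ ^ i) v.1 := by
      intro i
      induction i with
      | zero => intro v; rfl
      | succ i ih =>
        intro v
        rw [pow_succ, Equiv.Perm.mul_apply, ih, pow_succ, MulAut.mul_apply, he1]
    have he3 : e ^ 3 = 1 := Equiv.ext fun v => Subtype.ext (by rw [he, hσ3]; rfl)
    letI : MulAction (zpowers e) S := MulAction.compHom S (zpowers e).subtype
    have hP3 : IsPGroup 3 (zpowers e) := by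
      rintro ⟨g, hg⟩
      obtain ⟨i, rfl⟩ := mem_zpowers_iff.1 hg
      refine ⟨1, Subtype.ext ?_⟩
      push_cast
      rw [← zpow_natCast, ← zpow_mul, mul_comm, zpow_mul, zpow_natCast, he3, one_zpow]
    have hmod := hP3.card_modEq_card_fixedPoints S
    have hfixc : Nat.card (MulAction.fixedPoints (zpowers e) S) =
        (Finset.univ.filter fun v => sq v = w ∧ σ v = v).card := by
      rw [← Fintype.card_subtype, ← Nat.card_eq_fintype_card]
      refine Nat.card_congr
        { toFun := fun v => ⟨v.1.1, v.1.2, (he1 v.1).symm.trans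
            (congrArg Subtype.val (v.2 ⟨e, mem_zpowers e⟩) :)⟩
          invFun := fun v => ⟨⟨v.1, v.2.1⟩, fun g => ?_⟩
          left_inv := fun _ => rfl
          right_inv := fun _ => rfl }
      exact (zpowers_le.2 (show e ∈ MulAction.stabilizer (Equiv.Perm S) (⟨v.1, v.2.1⟩ : S) from
        Subtype.ext ((he1 _).trans v.2.2)) : zpowers e ≤ MulAction.stabilizer (Equiv.Perm S) _) g.2
    have hw' : Nat.card S = 5 := by rw [Nat.card_eq_fintype_card, Fintype.card_subtype]; exact hw
    rw [hfixc, hw'] at hmod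
    unfold Nat.ModEq at hmod
    omega
  let Fx : Finset (topLayer π) := Finset.univ.filter fun v => σ v = v
  have hFx : Fx.card = 16 := by
    obtain ⟨m, hm⟩ : ∃ m, Fx.card = 2 ^ m := by
      let H : Subgroup (topLayer π) := MonoidHom.eqLocus σ.toMonoidHom (MonoidHom.id _)
      have hp2 : IsPGroup 2 (topLayer π) := fun v => ⟨1, by rw [pow_one]; exact topLayer_sq π v⟩
      obtain ⟨m, hm⟩ := (hp2.to_subgroup H).exists_card_eq
      refine ⟨m, ?_⟩
      rw [← hm, ← Fintype.card_subtype, ← Nat.card_eq_fintype_card]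
      exact Nat.card_congr (Equiv.subtypeEquivRight fun v => Iff.rfl)
    have hsplit' := hsplit Fx
    have hle : ∀ w, (Fx.filter fun v => sq v = w).card ≤ n w := fun w =>
      Finset.card_le_card (Finset.filter_subset_filter _ (Finset.subset_univ Fx))
    have heq : ∀ w, (Fx.filter fun v => sq v = w) =
        Finset.univ.filter fun v => sq v = w ∧ σ v = v := fun w => by
      ext v; simp [Fx, and_comm]
    have h10 : 1 ≤ (Fx.filter fun v => sq v = 1).card :=
      Finset.card_pos.2 ⟨1, by simp [Fx, hsq1]⟩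
    obtain ⟨ha2, ha3⟩ := hS a (by omega)
    obtain ⟨hb2, hb3⟩ := hS b (by omega)
    obtain ⟨hc2, hc3⟩ := hS c (by omega)
    rw [← heq] at ha2 ha3 hb2 hb3 hc2 hc3
    have h1 := hle 1
    have h2 := hle a
    have h3 := hle b
    have h4 := hle c
    have hm4 : m ≤ 4 := (Nat.pow_le_pow_iff_right (by norm_num : 1 < 2)).1 (by
      rw [← hm]
      exact (Finset.card_le_univ _).trans_eq (by rw [← Nat.card_eq_fintype_card, hQ16]))
    have hm4' : m = 4 := by interval_cases m <;> omega
    rw [hm, hm4']; norm_num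
  have hσ1 : σ = 1 := MulEquiv.ext fun v => by
    have huniv : Fx = Finset.univ := Finset.eq_univ_of_card _
      (by rw [hFx, ← Nat.card_eq_fintype_card, hQ16])
    exact (Finset.mem_filter.1 (huniv.ge (Finset.mem_univ v))).2
  haveI : IsSimpleGroup A5 := alternatingGroup.isSimpleGroup_five
  rcases (MonoidHom.normal_ker ρ).eq_bot_or_eq_top with hk | hk
  · exact threeElt_ne ((MonoidHom.ker_eq_bot_iff ρ).1 hk (hσ1.trans (map_one ρ).symm))
  · exact hρne (MonoidHom.ext fun g => MonoidHom.mem_ker.1 (hk.ge (mem_top g)))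

/-- The structure of the kernel. -/
theorem structure_cases (h : Hyp π) :
    ((∀ a ∈ P, ∀ b ∈ P, a * b = b * a) ∧ (∀ a ∈ P, a * a = 1) ∧ Nat.card P = 16) ∨
    (Nat.card P = 32 ∧ ∃ A B : Subgroup P, Nonempty (↥A ≃* QuaternionGroup 2) ∧
      Nonempty (↥B ≃* DihedralGroup 4) ∧
        (∀ a ∈ A, ∀ b ∈ B, a * b = b * a) ∧ A ⊔ B = ⊤ ∧ A ⊓ B = center P) := by
  set T := sqClosure π.ker with hT
  by_cases hF : T = ⊥
  · exact Or.inl ⟨fun a ha b hb => (sqClosure_eq_bot hF ha hb).2,
      fun a ha => (sqClosure_eq_bot hF ha ha).1, by rw [h.card_eq, ← hT, hF, card_bot]⟩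
  right
  obtain ⟨N, hNn, hNT, hNmax⟩ := exists_maximal_below hF
  by_cases hN : N = ⊥
  · have hmin : ∀ K : Subgroup Y, K.Normal → K ≤ T → K = ⊥ ∨ K = T := fun K hK hKT =>
      hN ▸ hNmax K hK (hN ▸ bot_le) hKT
    obtain ⟨h1, -, -, h2⟩ := h.extraspecial hF hmin
    exact ⟨h1, h2⟩
  exfalso
  obtain ⟨N', hN'n, hN'N, hN'max⟩ := exists_maximal_below hN
  haveI := hN'n
  obtain ⟨π₁, h₁, -, hs₁⟩ := h.quotient N' (hN'N.le.trans hNT.le)
  obtain ⟨hW1, hWmin⟩ := minimal_map hNn hN'N hN'max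
  haveI : (N.map (QuotientGroup.mk' N')).Normal := hNn.map _ (QuotientGroup.mk'_surjective N')
  have hback : ∀ K : Subgroup Y, N' ≤ K →
      (K.map (QuotientGroup.mk' N')).comap (QuotientGroup.mk' N') = K := fun K hK => by
    rw [comap_map_eq, QuotientGroup.ker_mk', sup_eq_left.2 hK]
  refine h₁.no_three (W := N.map (QuotientGroup.mk' N')) ?_ hW1 hWmin ?_
  · rw [hs₁]
    refine lt_of_le_of_ne (map_mono hNT.le) fun e => hNT.ne ?_
    rw [← hback N hN'N.le, e, hback _ (hN'N.le.trans hNT.le)]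
  · intro K hK h1 h2
    rw [hs₁] at h2 ⊢
    have hKmap := map_comap_eq_self_of_surjective (QuotientGroup.mk'_surjective N') K
    rcases hNmax (K.comap (QuotientGroup.mk' N')) (hK.comap _)
      (by rw [← hback N hN'N.le]; exact comap_mono h1)
      (by rw [← hback _ (hN'N.le.trans hNT.le)]; exact comap_mono h2) with e | e
    · exact Or.inl (by rw [← hKmap, e])
    · exact Or.inr (by rw [← hKmap, e])

end Hyp

end CfsgLib.RankFourQuotient
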