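import Cfsg.Agent.Lib.TwoGroups.RankFourQuotient.Main
import Cfsg.Agent.Lib.TwoGroups.RankFourQuotient.AltFiveStructure

/-!
Owner: helper12. `O₂` of a 2-constrained group of sectional rank four whose quotient by `O₂` contains
`A₅`.
-/

set_option autoImplicit false
set_option maxHeartbeats 400000
set_option linter.style.haveILetI false

namespace CfsgLib.RankFourQuotient

open Subgroup

theorem pCore_cases_alt_five {X : Type*} [Group X] [Finite X] (hc : Cfsg.IsPConstrained 2 X)
    (hO : Cfsg.oddCore X = ⊥) (h4 : Cfsg.SectionalPRankLE 2 4 X)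
    (A : Subgroup (X ⧸ Cfsg.pCore 2 X)) (e : A ≃* A5) :
    (Cfsg.IsElementaryAbelian 2 (Cfsg.pCore 2 X) ∧ Nat.card ↥(Cfsg.pCore 2 X) = 16) ∨
      (Nat.card ↥(Cfsg.pCore 2 X) = 32 ∧ ∃ A B : Subgroup ↥(Cfsg.pCore 2 X),
        Nonempty (↥A ≃* QuaternionGroup 2) ∧ Nonempty (↥B ≃* DihedralGroup 4) ∧
          (∀ a ∈ A, ∀ b ∈ B, a * b = b * a) ∧ A ⊔ B = ⊤ ∧
          A ⊓ B = Subgroup.center ↥(Cfsg.pCore 2 X)) := by
  haveI : Fact (Nat.Prime 2) := ⟨Nat.prime_two⟩
  set P₂ := Cfsg.pCore 2 X with hP₂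
  have hPp : IsPGroup 2 P₂ := CfsgLib.Core.isPGroup_pCore 2 X
  let Y : Subgroup X := A.comap (QuotientGroup.mk' P₂)
  let π : Y →* A5 := e.toMonoidHom.comp ((QuotientGroup.mk' P₂).subgroupComap A)
  have hπk : ∀ y : Y, y ∈ π.ker ↔ (y : X) ∈ P₂ := fun y => by
    rw [← QuotientGroup.eq_one_iff (N := P₂)]
    refine ⟨fun h => ?_, fun h => ?_⟩
    · exact congrArg Subtype.val (e.injective ((MonoidHom.mem_ker.1 h).trans (map_one e).symm) :
        (QuotientGroup.mk' P₂).subgroupComap A y = 1)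
    · show e _ = 1
      rw [show (QuotientGroup.mk' P₂).subgroupComap A y = 1 from Subtype.ext h, map_one]
  have hPY : P₂ ≤ Y := fun x hx => by
    show QuotientGroup.mk' P₂ x ∈ A
    rw [QuotientGroup.mk'_apply, (QuotientGroup.eq_one_iff x).2 hx]
    exact one_mem _
  let E : π.ker ≃* P₂ :=
    { toFun := fun y => ⟨((y : Y) : X), (hπk y).1 y.2⟩
      invFun := fun p => ⟨⟨(p : X), hPY p.2⟩, (hπk _).2 p.2⟩
      left_inv := fun _ => rfl
      right_inv := fun _ => rfl
      map_mul' := fun _ _ => rfl }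
  have hpg : IsPGroup 2 π.ker := hPp.of_equiv E.symm
  have hsq : ∀ w : Y, w ∈ sqClosure π.ker → (w : X) ∈ (frattini P₂).map (P₂).subtype := by
    intro w hw
    refine closure_induction (p := fun (w : Y) _ => (w : X) ∈ (frattini P₂).map (P₂).subtype) ?_
      (one_mem _) (fun a b _ _ ha hb => mul_mem ha hb) (fun a _ ha => inv_mem ha) hw
    rintro _ ⟨p, hp, rfl⟩
    refine ⟨E ⟨p, hp⟩ * E ⟨p, hp⟩, ?_, rfl⟩
    rw [SetLike.mem_coe, ← pow_two]
    exact CfsgLib.PGroups.pow_mem_frattini hPp _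
  have hyp : Hyp π :=
    { surj := e.surjective.comp (MonoidHom.subgroupComap_surjective_of_surjective _ _
        (QuotientGroup.mk'_surjective _))
      pg := hpg
      rank := sectional_of_surjective h4 Y (MonoidHom.id Y) fun y => ⟨y, rfl⟩
      moved := fun y hy => by
        by_contra hcon
        push Not at hcon
        refine fiveElt_ne (hy.symm.trans ((hπk y).2 ((ker_frattiniAction hc hO).le
          (MonoidHom.mem_ker.2 (MulEquiv.ext fun v => ?_)))))
        obtain ⟨p, rfl⟩ := QuotientGroup.mk_surjective v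
        show ((MulAut.conjNormal (y : X) p : P₂) : P₂ ⧸ frattini P₂) = _
        rw [MulAut.one_apply, eq_comm, QuotientGroup.eq]
        obtain ⟨r, hr, hre⟩ := hsq _ (hcon (E.symm p).1 (E.symm p).2)
        have he : (p : P₂)⁻¹ * MulAut.conjNormal (y : X) p = r := Subtype.ext (by
          show ((p : X))⁻¹ * ((MulAut.conjNormal (y : X) p : P₂) : X) = P₂.subtype r
          rw [hre, MulAut.conjNormal_apply]
          rfl)
        rw [he]
        exact hr }
  rcases hyp.structure_cases with ⟨hcomm, hexp, hcard⟩ | ⟨hcard, C, D, ⟨eC⟩, ⟨eD⟩, hCD, htop, hinf⟩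
  · refine Or.inl ⟨⟨⟨⟨fun a b => ?_⟩⟩, fun a ha => ?_⟩,
      (Nat.card_congr E.toEquiv).symm.trans hcard⟩
    · apply E.symm.injective
      rw [map_mul, map_mul]
      exact Subtype.ext (hcomm _ (E.symm a).2 _ (E.symm b).2)
    · rw [pow_two]
      exact congrArg Subtype.val (hexp (E.symm ⟨a, ha⟩).1 (E.symm ⟨a, ha⟩).2)
  · refine Or.inr ⟨(Nat.card_congr E.toEquiv).symm.trans hcard, C.map E.toMonoidHom,
      D.map E.toMonoidHom, ⟨(C.equivMapOfInjective _ E.injective).symm.trans eC⟩,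
      ⟨(D.equivMapOfInjective _ E.injective).symm.trans eD⟩, ?_, ?_, ?_⟩
    · rintro _ ⟨a, ha, rfl⟩ _ ⟨b, hb, rfl⟩
      rw [← map_mul, ← map_mul, hCD a ha b hb]
    · rw [← Subgroup.map_sup, htop, map_top_of_surjective _ E.surjective]
    · rw [← Subgroup.map_inf _ _ _ E.injective, hinf]
      ext w
      constructor
      · rintro ⟨c, hc, rfl⟩
        refine mem_center_iff.2 fun g => E.symm.injective ?_
        simp only [map_mul, MulEquiv.coe_toMonoidHom, MulEquiv.symm_apply_apply]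
        exact mem_center_iff.1 hc _
      · intro hw
        refine ⟨E.symm w, mem_center_iff.2 fun g => E.injective ?_, by simp⟩
        simp only [map_mul, MulEquiv.apply_symm_apply]
        exact mem_center_iff.1 hw _

end CfsgLib.RankFourQuotient
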