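import Cfsg.Prelude.Def_CaseTheorems
import Cfsg.Agent.Lib.TwoGroups.RankFourQuotient.AltFiveModule

/-!
Owner: helper12. The action of `A₅` on the layers of an extension, and the subgroup generated by
squares.
-/

set_option autoImplicit false
set_option maxHeartbeats 400000
set_option linter.style.haveILetI false

namespace CfsgLib.RankFourQuotient

open Subgroup

variable {Y : Type*} [Group Y]

/-- The subgroup generated by the squares of a subgroup. -/
def sqClosure (P : Subgroup Y) : Subgroup Y := closure {w | ∃ p ∈ P, p * p = w}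

theorem sq_mem_sqClosure {P : Subgroup Y} {p : Y} (hp : p ∈ P) : p * p ∈ sqClosure P :=
  subset_closure ⟨p, hp, rfl⟩

theorem sqClosure_le (P : Subgroup Y) : sqClosure P ≤ P :=
  (closure_le _).2 fun _ ⟨p, hp, hw⟩ => hw ▸ mul_mem hp hp

theorem comm_mem_sqClosure {P : Subgroup Y} {p q : Y} (hp : p ∈ P) (hq : q ∈ P) :
    p⁻¹ * q⁻¹ * p * q ∈ sqClosure P := by
  have h : p⁻¹ * q⁻¹ * p * q =
      (p⁻¹ * p⁻¹) * ((p * q⁻¹) * (p * q⁻¹)) * (q * q) := by group
  rw [h]
  exact mul_mem (mul_mem (sq_mem_sqClosure (inv_mem hp))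
    (sq_mem_sqClosure (mul_mem hp (inv_mem hq)))) (sq_mem_sqClosure hq)

theorem sqClosure_normal (P : Subgroup Y) [hP : P.Normal] : (sqClosure P).Normal := by
  refine ⟨fun w hw g => ?_⟩
  refine closure_induction (p := fun w _ => g * w * g⁻¹ ∈ sqClosure P) ?_ (by simp)
    (fun a b _ _ ha hb => ?_) (fun a _ ha => ?_) hw
  · rintro _ ⟨p, hp, rfl⟩
    rw [show g * (p * p) * g⁻¹ = (g * p * g⁻¹) * (g * p * g⁻¹) by group]
    exact sq_mem_sqClosure (hP.conj_mem p hp g)
  · rw [show g * (a * b) * g⁻¹ = (g * a * g⁻¹) * (g * b * g⁻¹) by group]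
    exact mul_mem ha hb
  · rw [show g * a⁻¹ * g⁻¹ = (g * a * g⁻¹)⁻¹ by group]
    exact inv_mem ha

theorem map_sqClosure {Y' : Type*} [Group Y'] (f : Y →* Y') (P : Subgroup Y) :
    (sqClosure P).map f = sqClosure (P.map f) := by
  rw [sqClosure, MonoidHom.map_closure]
  congr 1
  ext w
  constructor
  · rintro ⟨_, ⟨p, hp, rfl⟩, rfl⟩
    exact ⟨f p, ⟨p, hp, rfl⟩, (map_mul f p p).symm⟩
  · rintro ⟨_, ⟨p, hp, rfl⟩, rfl⟩
    exact ⟨p * p, ⟨p, hp, rfl⟩, map_mul f p p⟩

theorem sqClosure_eq_bot {P : Subgroup Y} (h : sqClosure P = ⊥) {p q : Y} (hp : p ∈ P)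
    (hq : q ∈ P) : p * p = 1 ∧ p * q = q * p := by
  refine ⟨mem_bot.1 (h ▸ sq_mem_sqClosure hp), ?_⟩
  have h1 := mem_bot.1 (h ▸ comm_mem_sqClosure hq hp)
  calc p * q = p * q * (q⁻¹ * p⁻¹ * q * p) := by rw [h1, mul_one]
    _ = q * p := by group

variable (π : Y →* A5)

/-- The top layer. -/
abbrev topLayer : Type _ := (↥π.ker) ⧸ (sqClosure π.ker).subgroupOf π.ker

instance sqClosure_ker_normal : (sqClosure π.ker).Normal :=
  haveI := MonoidHom.normal_ker π
  sqClosure_normal _

instance sqClosure_ker_subgroupOf_normal : ((sqClosure π.ker).subgroupOf π.ker).Normal :=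
  (sqClosure_ker_normal π).subgroupOf _

/-- Conjugation on the top layer. -/
noncomputable def conjTop : Y →* MulAut (topLayer π) :=
  haveI := MonoidHom.normal_ker π
  have key : ∀ y : Y, ((sqClosure π.ker).subgroupOf π.ker).map
      ((MulAut.conjNormal y : MulAut π.ker) : π.ker →* π.ker) =
      (sqClosure π.ker).subgroupOf π.ker := by
    intro y
    refine le_antisymm ?_ fun v hv => ?_
    · rintro _ ⟨v, hv, rfl⟩
      rw [mem_subgroupOf]
      show ((MulAut.conjNormal y v : π.ker) : Y) ∈ _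
      rw [MulAut.conjNormal_apply]
      exact (sqClosure_ker_normal π).conj_mem _ hv y
    · refine ⟨MulAut.conjNormal y⁻¹ v, ?_, ?_⟩
      · rw [SetLike.mem_coe, mem_subgroupOf, MulAut.conjNormal_apply]
        exact (sqClosure_ker_normal π).conj_mem _ hv y⁻¹
      · show MulAut.conjNormal y (MulAut.conjNormal y⁻¹ v) = v
        rw [← MulAut.mul_apply, ← map_mul, mul_inv_cancel, map_one, MulAut.one_apply]
  { toFun := fun y => QuotientGroup.congr _ _ (MulAut.conjNormal y) (key y)
    map_one' := MulEquiv.ext fun x => by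
      induction x using QuotientGroup.induction_on with
      | _ v =>
        show QuotientGroup.mk (MulAut.conjNormal (1 : Y) v) = _
        rw [map_one]; rfl
    map_mul' := fun a b => MulEquiv.ext fun x => by
      induction x using QuotientGroup.induction_on with
      | _ v =>
        show QuotientGroup.mk (MulAut.conjNormal (a * b) v) = _
        rw [map_mul]; rfl }

theorem conjTop_mk (y : Y) (p : π.ker) :
    conjTop π y (QuotientGroup.mk p) = QuotientGroup.mk
      (⟨y * p * y⁻¹, (MonoidHom.normal_ker π).conj_mem p p.2 y⟩ : π.ker) := by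
  haveI := MonoidHom.normal_ker π
  exact congrArg QuotientGroup.mk (Subtype.ext (MulAut.conjNormal_apply y p))

theorem topLayer_comm (a b : topLayer π) : a * b = b * a := by
  obtain ⟨p, rfl⟩ := QuotientGroup.mk_surjective a
  obtain ⟨q, rfl⟩ := QuotientGroup.mk_surjective b
  rw [← QuotientGroup.mk_mul, ← QuotientGroup.mk_mul, QuotientGroup.eq, mem_subgroupOf]
  push_cast
  rw [mul_inv_rev, ← mul_assoc]
  exact comm_mem_sqClosure q.2 p.2

theorem topLayer_sq (a : topLayer π) : a ^ 2 = 1 := by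
  obtain ⟨p, rfl⟩ := QuotientGroup.mk_surjective a
  rw [← QuotientGroup.mk_pow, QuotientGroup.eq_one_iff, mem_subgroupOf, pow_two]
  exact sq_mem_sqClosure p.2

theorem ker_le_conjTop : π.ker ≤ (conjTop π).ker := by
  intro y hy
  refine MonoidHom.mem_ker.2 (MulEquiv.ext fun x => ?_)
  obtain ⟨p, rfl⟩ := QuotientGroup.mk_surjective x
  rw [conjTop_mk, MulAut.one_apply,
    show (⟨y * p * y⁻¹, (MonoidHom.normal_ker π).conj_mem p p.2 y⟩ : π.ker) =
      ⟨y, hy⟩ * p * ⟨y, hy⟩⁻¹ from rfl, QuotientGroup.mk_mul, QuotientGroup.mk_mul,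
    QuotientGroup.mk_inv, topLayer_comm π (QuotientGroup.mk ⟨y, hy⟩), mul_inv_cancel_right]

end CfsgLib.RankFourQuotient
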