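import Cfsg.Agent.Lib.TwoGroups.RankFourQuotient.LinearThreeTwoFrame
import Cfsg.Agent.Lib.TwoGroups.RankFourQuotient.Section

/-!
Owner: helper12. An extension of a natural module and a central cyclic group of order four by
`L₃(2)` has sectional 2-rank at least five.
-/

set_option autoImplicit false
set_option maxHeartbeats 800000
set_option linter.style.haveILetI false

namespace CfsgLib.RankFourQuotient.LThree

open Matrix Subgroup

theorem central_facts : uniMat.det = 1 ∧ threeMat.det = 1 ∧ threeMat ^ 3 = 1 ∧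
    threeMat * bMat * threeMat ^ 2 = aMat * bMat ∧ threeMat *ᵥ ![1, 0, 0] = ![1, 0, 0] ∧
    (∀ v : V3, uniMat *ᵥ v = v → v = 0 ∨ v = ![1, 0, 0]) ∧
    (∀ v : V3, aMat *ᵥ v + v = 0 ∨ aMat *ᵥ v + v = ![1, 0, 0]) ∧
    (∀ v : V3, bMat *ᵥ v + v = 0 ∨ bMat *ᵥ v + v = ![1, 0, 0]) ∧
    (∀ v : V3, (aMat * bMat) *ᵥ v + v = 0 ∨ (aMat * bMat) *ᵥ v + v = ![1, 0, 0]) ∧
    aMat * bMat = bMat * aMat ∧
    (∀ x y x' y' : Fin 2, aMat ^ (x : ℕ) * bMat ^ (y : ℕ) = aMat ^ (x' : ℕ) * bMat ^ (y' : ℕ)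
      → x = x' ∧ y = y') ∧
    (∀ v : V3, uniMat *ᵥ ![1, 0, 0] = ![1, 0, 0]) := by decide +kernel

theorem not_sectional_central {X : Type*} [Group X] [Finite X] {K M B : Subgroup X} [K.Normal]
    [M.Normal] [B.Normal] (fr : Frame K M B) (hMK : M ≤ K) {e : X} (he : ∀ x, x * e = e * x)
    (heK : e ∈ K) (heM : e ∉ M) (he2 : e * e ≠ 1) (he4 : e * e * (e * e) = 1) (heB : e * e ∈ B)
    (hBM : B ≤ M) (hBc : Nat.card B = 2) (hc : ∀ a ∈ M, ∀ b ∈ M, a * b = b * a)
    (hsq : ∀ a ∈ M, a * a = 1) (hK : ∀ k ∈ K, k ∈ M ∨ e⁻¹ * k ∈ M) :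
    ¬ Cfsg.SectionalPRankLE 2 4 X := by
  classical
  obtain ⟨hUdet, h3det, h3pow, hgb, hg0, hU, hA, hB, hAB, hab, hinj, hU0⟩ := central_facts
  obtain ⟨z, hz⟩ := fr.surj _ hUdet
  obtain ⟨g, hg⟩ := fr.surj _ h3det
  obtain ⟨f0, hf0, hcf0⟩ := fr.co_surj ![1, 0, 0]
  obtain ⟨f1, hf1, hcf1⟩ := fr.co_surj ![0, 1, 0]
  obtain ⟨f2, hf2, hcf2⟩ := fr.co_surj ![0, 0, 1]
  have hconj : ∀ x : X, ∀ a ∈ M, x * a * x⁻¹ ∈ M := fun x a ha =>
    (inferInstance : M.Normal).conj_mem a ha x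
  have hBe : ∀ b ∈ B, b = 1 ∨ b = e * e := by
    intro b hb
    obtain ⟨x, -, huniq⟩ := (Nat.card_eq_two_iff' (1 : B)).1 hBc
    by_cases h : b = 1
    · exact Or.inl h
    · right
      have h1 := huniq ⟨b, hb⟩ (fun hh => h (congrArg Subtype.val hh))
      have h2 := huniq ⟨e * e, heB⟩ (fun hh => he2 (congrArg Subtype.val hh))
      exact congrArg Subtype.val (h1.trans h2.symm)
  have hBcen : ∀ b ∈ B, ∀ x : X, x * b = b * x := by
    intro b hb x
    rcases hBe b hb with rfl | rfl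
    · rw [mul_one, one_mul]
    · rw [← mul_assoc, he x, mul_assoc, he x, ← mul_assoc]
  -- the subgroup `J`
  let J : Subgroup X :=
    { carrier := {w | w ∈ M ∧ (fr.co w = 0 ∨ fr.co w = ![1, 0, 0])}
      one_mem' := ⟨one_mem _, Or.inl fr.co_one⟩
      mul_mem' := fun {a b} ha hb => ⟨mul_mem ha.1 hb.1, by
        rw [fr.co_mul a ha.1 b hb.1]
        rcases ha.2 with h | h <;> rcases hb.2 with h' | h' <;> rw [h, h'] <;>
          first | exact Or.inl (vec_add_self _) | exact Or.inr (zero_add _) | exact Or.inr (add_zero _)⟩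
      inv_mem' := fun {a} ha => ⟨inv_mem ha.1, by rw [fr.co_inv ha.1]; exact ha.2⟩ }
  have hJM : ∀ j ∈ J, j ∈ M := fun j hj => hj.1
  have hJform : ∀ j ∈ J, ∃ b ∈ B, j = b ∨ j = f0 * b := by
    intro j hj
    rcases hj.2 with h | h
    · exact ⟨j, (fr.co_ker j hj.1).1 h, Or.inl rfl⟩
    · exact ⟨f0⁻¹ * j, (fr.co_eq hf0 hj.1).1 (hcf0.trans h.symm), Or.inr (by rw [mul_inv_cancel_left])⟩
  have hJcard : Nat.card J ≤ 4 := by
    let G : Fin 2 × B → J := fun p => ⟨f0 ^ (p.1 : ℕ) * p.2, mul_mem (pow_mem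
      (show f0 ∈ J from ⟨hf0, Or.inr hcf0⟩) _)
      ⟨hBM p.2.2, Or.inl ((fr.co_ker _ (hBM p.2.2)).2 p.2.2)⟩⟩
    have hG : Function.Surjective G := by
      rintro ⟨j, hj⟩
      obtain ⟨b, hb, rfl | rfl⟩ := hJform j hj
      · exact ⟨(0, ⟨j, hb⟩), Subtype.ext (by simp [G])⟩
      · exact ⟨(1, ⟨b, hb⟩), Subtype.ext (by simp [G])⟩
    have := Nat.card_le_card_of_surjective G hG
    rwa [Nat.card_prod, hBc, Nat.card_eq_fintype_card (α := Fin 2), Fintype.card_fin] at this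
  set x := z * z with hxd
  have hρx : fr.ρ x = aMat := by rw [hxd, map_mul, hz]; rfl
  have hxf0 : x * f0 * x⁻¹ = f0 := by
    have hb : f0⁻¹ * (z * f0 * z⁻¹) ∈ B := (fr.co_eq hf0 (hconj z f0 hf0)).1 (by
      rw [fr.co_conj z f0 hf0, hcf0, hz, hU0 ![1, 0, 0]])
    set b := f0⁻¹ * (z * f0 * z⁻¹) with hbd
    have h1 : z * f0 * z⁻¹ = f0 * b := by rw [hbd, mul_inv_cancel_left]
    rw [hxd, show z * z * f0 * (z * z)⁻¹ = z * (z * f0 * z⁻¹) * z⁻¹ by group, h1,
      show z * (f0 * b) * z⁻¹ = (z * f0 * z⁻¹) * (z * b * z⁻¹) by group, h1, hBcen b hb z,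
      mul_inv_cancel_right, mul_assoc, show b * b = 1 from hsq b (hBM hb), mul_one]
  -- elements fixing `J`
  have hxJ : ∀ j ∈ J, x * j = j * x := by
    intro j hj
    obtain ⟨b, hb, rfl | rfl⟩ := hJform j hj
    · exact hBcen _ hb x
    · rw [← mul_assoc, show x * f0 = f0 * x from mul_inv_eq_iff_eq_mul.1 hxf0, mul_assoc,
        hBcen b hb x, ← mul_assoc]
  have hgJ : ∀ j ∈ J, g * j * g⁻¹ ∈ J ∧ g⁻¹ * j * g ∈ J := by
    intro j hj
    refine ⟨⟨hconj g j hj.1, ?_⟩, ⟨by simpa using hconj g⁻¹ j hj.1, ?_⟩⟩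
    · rw [fr.co_conj g j hj.1, hg]
      rcases hj.2 with h | h <;> rw [h]
      · exact Or.inl (mulVec_zero _)
      · exact Or.inr hg0
    · have := fr.co_conj g⁻¹ j hj.1
      rw [inv_inv] at this
      rw [this]
      have h2 : fr.ρ g⁻¹ *ᵥ ![1, 0, 0] = ![1, 0, 0] := by
        conv_lhs => rw [← hg0, ← hg, mulVec_mulVec, ← map_mul, inv_mul_cancel, map_one, one_mulVec]
      rcases hj.2 with h | h <;> rw [h]
      · exact Or.inl (mulVec_zero _)
      · exact Or.inr h2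
  have hconjJ : ∀ y : X, (∀ j ∈ J, y * j = j * y) → ∀ j ∈ J,
      (g * y * g⁻¹) * j = j * (g * y * g⁻¹) := by
    intro y hy j hj
    calc g * y * g⁻¹ * j = g * (y * (g⁻¹ * j * g)) * g⁻¹ := by group
      _ = g * ((g⁻¹ * j * g) * y) * g⁻¹ := by rw [hy _ (hgJ j hj).2]
      _ = _ := by group
  set y := g * x * g⁻¹ with hyd
  set w := g * y * g⁻¹ with hwd
  have hyJ : ∀ j ∈ J, y * j = j * y := hconjJ x hxJ
  have hwJ : ∀ j ∈ J, w * j = j * w := hconjJ y hyJ
  have hg2 : fr.ρ g⁻¹ = threeMat * threeMat := by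
    calc fr.ρ g⁻¹ = fr.ρ g⁻¹ * threeMat ^ 3 := by rw [h3pow, mul_one]
      _ = fr.ρ g⁻¹ * fr.ρ g * (threeMat * threeMat) := by rw [hg]; simp [pow_succ, mul_assoc]
      _ = _ := by rw [← map_mul, inv_mul_cancel, map_one, one_mul]
  have hρy : fr.ρ y = bMat := by rw [hyd, map_mul, map_mul, hg, hρx, hg2]; rfl
  have hρw : fr.ρ w = aMat * bMat := by
    rw [hwd, map_mul, map_mul, hg, hρy, hg2, ← hgb, pow_two]
  -- squares of lifts
  have hdecomp : ∀ q ∈ K, ∃ m ∈ M, q = m ∨ q = e * m := by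
    intro q hq
    rcases hK q hq with h | h
    · exact ⟨q, h, Or.inl rfl⟩
    · exact ⟨e⁻¹ * q, h, Or.inr (by rw [mul_inv_cancel_left])⟩
  have hsqlift : ∀ t : X, (fr.ρ t = aMat ∨ fr.ρ t = bMat ∨ fr.ρ t = aMat * bMat) →
      ∀ q ∈ K, ∃ j ∈ J, q * t * (q * t) = j * (t * t) := by
    intro t ht q hq
    refine ⟨q * (t * q * t⁻¹), ?_, by group⟩
    have hv : ∀ m ∈ M, m * (t * m * t⁻¹) ∈ J := fun m hm => ⟨mul_mem hm (hconj t m hm), by
      rw [fr.co_mul m hm _ (hconj t m hm), fr.co_conj t m hm, add_comm]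
      rcases ht with h | h | h <;> rw [h]
      · exact hA _
      · exact hB _
      · exact hAB _⟩
    obtain ⟨m, hm, rfl | rfl⟩ := hdecomp q hq
    · exact hv _ hm
    · have h1 : e * m * (t * (e * m) * t⁻¹) = (m * (t * m * t⁻¹)) * (e * e) := by
        rw [show t * (e * m) * t⁻¹ = (t * e) * m * t⁻¹ by group, he t,
          show e * m * (e * t * m * t⁻¹) = e * (m * e) * (t * m * t⁻¹) by group, he m,
          show e * (e * m) * (t * m * t⁻¹) = (e * e) * (m * (t * m * t⁻¹)) by group]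
        exact ((hBcen _ heB _).symm)
      rw [h1]
      exact mul_mem (hv m hm) ⟨hBM heB, Or.inl ((fr.co_ker _ (hBM heB)).2 heB)⟩
  have hk : w * (x * y)⁻¹ ∈ K := (fr.ker _).1 (by
    calc fr.ρ (w * (x * y)⁻¹) = fr.ρ (x * y) * fr.ρ (x * y)⁻¹ := by
          rw [map_mul, hρw, map_mul fr.ρ x y, hρx, hρy]
      _ = 1 := by rw [← map_mul, mul_inv_cancel, map_one])
  obtain ⟨j1, hj1, hxy⟩ := hsqlift (x * y) (Or.inr (Or.inr (by rw [map_mul, hρx, hρy]))) _ hk
  rw [inv_mul_cancel_right] at hxy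
  have hz4 : x * x ∈ K := (fr.ker _).1 (by rw [map_mul, hρx]; decide +kernel)
  have hzx : z * (x * x) * z⁻¹ = x * x := by rw [hxd]; group
  have hfixJ : ∀ m ∈ M, z * m * z⁻¹ = m → m ∈ J := fun m hm h => ⟨hm, hU _ (by
    rw [← hz, ← fr.co_conj z m hm, h])⟩
  rcases hdecomp _ hz4 with ⟨m, hm, hxx | hxx⟩
  · -- all squares lie in `J`
    have hxJ' : x * x ∈ J := by rw [hxx]; exact hfixJ m hm (by rw [← hxx]; exact hzx)
    have hyy : y * y ∈ J := by
      rw [show y * y = g * (x * x) * g⁻¹ by rw [hyd]; group]; exact (hgJ _ hxJ').1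
    have hxyJ : x * y * (x * y) ∈ J := by
      have hww : w * w ∈ J := by
        rw [show w * w = g * (y * y) * g⁻¹ by rw [hwd]; group]; exact (hgJ _ hyy).1
      rw [hxy] at hww
      exact (Subgroup.mul_mem_cancel_left J hj1).1 hww
    have hcm : x⁻¹ * y⁻¹ * x * y ∈ J := by
      have h : x⁻¹ * y⁻¹ * x * y = (x * x)⁻¹ * (x * (y * y)⁻¹ * (y * x * y)) := by group
      rw [h, hxJ _ (inv_mem hyy), show (y * y)⁻¹ * x * (y * x * y) =
        (y * y)⁻¹ * (x * y * (x * y)) by group]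
      exact mul_mem (inv_mem hxJ') (mul_mem (inv_mem hyy) hxyJ)
    let S : Set X := {e, f0, f1, f2, x, y}
    have hJS : J ≤ closure S := by
      intro j hj
      obtain ⟨b, hb, rfl | rfl⟩ := hJform j hj
      · rcases hBe _ hb with rfl | rfl
        · exact one_mem _
        · exact mul_mem (subset_closure (by simp [S])) (subset_closure (by simp [S]))
      · refine mul_mem (subset_closure (by simp [S])) ?_
        rcases hBe _ hb with rfl | rfl
        · exact one_mem _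
        · exact mul_mem (subset_closure (by simp [S])) (subset_closure (by simp [S]))
    have hmod : ∀ t : X, (fr.ρ t = aMat ∨ fr.ρ t = bMat) → (∀ j ∈ J, t * j = j * t) → ∀ f ∈ M,
        t⁻¹ * f⁻¹ * t * f ∈ J ∧ f⁻¹ * t⁻¹ * f * t ∈ J := by
      intro t ht htJ f hf
      have hin : t * f * t⁻¹ * f⁻¹ ∈ J := ⟨mul_mem (hconj t f hf) (inv_mem hf), by
        rw [fr.co_mul _ (hconj t f hf) _ (inv_mem hf), fr.co_conj t f hf, fr.co_inv hf]
        rcases ht with h | h <;> rw [h]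
        · exact hA _
        · exact hB _⟩
      set c := t * f * t⁻¹ * f⁻¹ with hcd
      have h1 : f⁻¹ * t⁻¹ * f * t = c⁻¹ := by
        have : t⁻¹ * c⁻¹ * t = c⁻¹ := by
          rw [mul_assoc, ← htJ _ (inv_mem hin), inv_mul_cancel_left]
        calc f⁻¹ * t⁻¹ * f * t = f⁻¹ * (t⁻¹ * c⁻¹ * t) * f := by rw [hcd]; group
          _ = c⁻¹ := by
            rw [this, hc _ (inv_mem hf) _ (hJM _ (inv_mem hin)), inv_mul_cancel_right]
      refine ⟨?_, by rw [h1]; exact inv_mem hin⟩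
      rw [show t⁻¹ * f⁻¹ * t * f = (f⁻¹ * t⁻¹ * f * t)⁻¹ by group, h1, inv_inv]
      exact hin
    have hee : ∀ a : X, e⁻¹ * a⁻¹ * e * a = 1 ∧ a⁻¹ * e⁻¹ * a * e = 1 := fun a => by
      have h1 : e⁻¹ * a⁻¹ * e * a = 1 := by
        rw [show e⁻¹ * a⁻¹ * e * a = e⁻¹ * a⁻¹ * (e * a) by group, ← he a]; group
      exact ⟨h1, by rw [show a⁻¹ * e⁻¹ * a * e = (e⁻¹ * a⁻¹ * e * a)⁻¹ by group, h1, inv_one]⟩
    have hMM : ∀ a ∈ M, ∀ b ∈ M, a⁻¹ * b⁻¹ * a * b = 1 := fun a ha b hb => by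
      rw [mul_assoc, hc a ha b hb]; group
    refine not_sectional_of_gens (k := 4) S J hJS ?_ ?_ ?_ ?_
    · intro s hs j hj
      rcases hs with rfl | rfl | rfl | rfl | rfl | rfl
      · exact (he j).symm
      · exact hc _ hf0 _ hj.1
      · exact hc _ hf1 _ hj.1
      · exact hc _ hf2 _ hj.1
      · exact hxJ j hj
      · exact hyJ j hj
    · intro a ha b hb
      have hsame : ∀ a : X, a⁻¹ * a⁻¹ * a * a = 1 := fun a => by group
      rcases ha with rfl | rfl | rfl | rfl | rfl | rfl <;>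
        rcases hb with rfl | rfl | rfl | rfl | rfl | rfl <;>
        first
          | (rw [hsame]; exact one_mem _)
          | (rw [(hee _).1]; exact one_mem _)
          | (rw [(hee _).2]; exact one_mem _)
          | exact hcm
          | (rw [show y⁻¹ * x⁻¹ * y * x = (x⁻¹ * y⁻¹ * x * y)⁻¹ by group]; exact inv_mem hcm)
          | exact (hmod x (Or.inl hρx) hxJ _ hf0).1
          | exact (hmod x (Or.inl hρx) hxJ _ hf0).2
          | exact (hmod x (Or.inl hρx) hxJ _ hf1).1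
          | exact (hmod x (Or.inl hρx) hxJ _ hf1).2
          | exact (hmod x (Or.inl hρx) hxJ _ hf2).1
          | exact (hmod x (Or.inl hρx) hxJ _ hf2).2
          | exact (hmod y (Or.inr hρy) hyJ _ hf0).1
          | exact (hmod y (Or.inr hρy) hyJ _ hf0).2
          | exact (hmod y (Or.inr hρy) hyJ _ hf1).1
          | exact (hmod y (Or.inr hρy) hyJ _ hf1).2
          | exact (hmod y (Or.inr hρy) hyJ _ hf2).1
          | exact (hmod y (Or.inr hρy) hyJ _ hf2).2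
          | (rw [hMM _ (by first | exact hf0 | exact hf1 | exact hf2) _
              (by first | exact hf0 | exact hf1 | exact hf2)]; exact one_mem _)
    · intro a ha
      rcases ha with rfl | rfl | rfl | rfl | rfl | rfl
      · exact ⟨hBM heB, Or.inl ((fr.co_ker _ (hBM heB)).2 heB)⟩
      · rw [hsq _ hf0]; exact one_mem _
      · rw [hsq _ hf1]; exact one_mem _
      · rw [hsq _ hf2]; exact one_mem _
      · exact hxJ'
      · exact hyy
    · let G : (Fin 4 × Fin 2 × Fin 2 × Fin 2) × (Fin 2 × Fin 2) → closure S := fun p =>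
        ⟨e ^ (p.1.1 : ℕ) * (f0 ^ (p.1.2.1 : ℕ) * f1 ^ (p.1.2.2.1 : ℕ) * f2 ^ (p.1.2.2.2 : ℕ)) *
          (x ^ (p.2.1 : ℕ) * y ^ (p.2.2 : ℕ)),
          mul_mem (mul_mem (pow_mem (subset_closure (by simp [S])) _)
            (mul_mem (mul_mem (pow_mem (subset_closure (by simp [S])) _)
              (pow_mem (subset_closure (by simp [S])) _)) (pow_mem (subset_closure (by simp [S])) _)))
            (mul_mem (pow_mem (subset_closure (by simp [S])) _) (pow_mem (subset_closure (by simp [S])) _))⟩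
      have hmemM : ∀ j k l : ℕ, f0 ^ j * f1 ^ k * f2 ^ l ∈ M := fun j k l =>
        mul_mem (mul_mem (pow_mem hf0 _) (pow_mem hf1 _)) (pow_mem hf2 _)
      have hcopow : ∀ (f : X), f ∈ M → ∀ n : Fin 2, fr.co (f ^ (n : ℕ)) = ((n : ℕ) : ZMod 2) • fr.co f := by
        intro f hf n
        fin_cases n <;> simp [fr.co_one]
      have hco3 : ∀ j k l : Fin 2, fr.co (f0 ^ (j : ℕ) * f1 ^ (k : ℕ) * f2 ^ (l : ℕ)) =
          ![((j : ℕ) : ZMod 2), ((k : ℕ) : ZMod 2), ((l : ℕ) : ZMod 2)] := by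
        intro j k l
        rw [fr.co_mul _ (mul_mem (pow_mem hf0 _) (pow_mem hf1 _)) _ (pow_mem hf2 _),
          fr.co_mul _ (pow_mem hf0 _) _ (pow_mem hf1 _), hcopow _ hf0, hcopow _ hf1, hcopow _ hf2,
          hcf0, hcf1, hcf2]
        ext i
        fin_cases i <;> simp
      have hG : Function.Injective G := by
        rintro ⟨⟨i, j, k, l⟩, p, q⟩ ⟨⟨i', j', k', l'⟩, p', q'⟩ h
        have h1 : e ^ (i : ℕ) * (f0 ^ (j : ℕ) * f1 ^ (k : ℕ) * f2 ^ (l : ℕ)) * (x ^ (p : ℕ) * y ^ (q : ℕ)) =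
            e ^ (i' : ℕ) * (f0 ^ (j' : ℕ) * f1 ^ (k' : ℕ) * f2 ^ (l' : ℕ)) *
              (x ^ (p' : ℕ) * y ^ (q' : ℕ)) := congrArg Subtype.val h
        have hρK : ∀ s ∈ K, fr.ρ s = 1 := fun s hs => (fr.ker s).2 hs
        have h2 := congrArg fr.ρ h1
        rw [map_mul, map_mul _ _ (x ^ (p' : ℕ) * y ^ (q' : ℕ)),
          hρK _ (mul_mem (pow_mem heK _) (hMK (hmemM _ _ _))),
          hρK _ (mul_mem (pow_mem heK _) (hMK (hmemM _ _ _))), one_mul, one_mul, map_mul, map_mul,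
          map_pow, map_pow, map_pow, map_pow, hρx, hρy] at h2
        obtain ⟨rfl, rfl⟩ := hinj p q p' q' h2
        have h3 := mul_right_cancel h1
        have h5 : (e ^ (i' : ℕ))⁻¹ * e ^ (i : ℕ) ∈ M := by
          rw [show (e ^ (i' : ℕ))⁻¹ * e ^ (i : ℕ) =
            (e ^ (i' : ℕ))⁻¹ * (e ^ (i : ℕ) * (f0 ^ (j : ℕ) * f1 ^ (k : ℕ) * f2 ^ (l : ℕ))) *
              (f0 ^ (j : ℕ) * f1 ^ (k : ℕ) * f2 ^ (l : ℕ))⁻¹ by group, h3, inv_mul_cancel_left]
          exact mul_mem (hmemM _ _ _) (inv_mem (hmemM _ _ _))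
        have hpar : (i : ℕ) % 2 = (i' : ℕ) % 2 := by
          have h6 : ∀ a : ℕ, e ^ a ∈ M → a % 2 = 0 := by
            intro a ha
            rcases Nat.even_or_odd' a with ⟨c, rfl | rfl⟩
            · omega
            · exfalso
              refine heM ?_
              rw [pow_succ, pow_mul] at ha
              exact (Subgroup.mul_mem_cancel_left M (pow_mem (by rw [pow_two]; exact hBM heB) c)).1 ha
          have he4' : e ^ 4 = 1 := by
            rw [show e ^ 4 = e * e * (e * e) by simp [pow_succ, mul_assoc]]; exact he4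
          have h7 : e ^ ((i : ℕ) + 3 * (i' : ℕ)) ∈ M := by
            have h8 : (e ^ (i' : ℕ))⁻¹ = e ^ (3 * (i' : ℕ)) := by
              rw [inv_eq_iff_mul_eq_one, ← pow_add, show (i' : ℕ) + 3 * (i' : ℕ) = 4 * (i' : ℕ) by ring,
                pow_mul, he4', one_pow]
            rw [pow_add, ← h8, show e ^ (i : ℕ) * (e ^ (i' : ℕ))⁻¹ = (e ^ (i' : ℕ))⁻¹ * e ^ (i : ℕ) from
              ((Commute.refl e).pow_pow _ _).inv_right.eq]
            exact h5
          have := h6 _ h7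
          omega
        -- compare coordinates
        have hBpow : (e ^ (i' : ℕ))⁻¹ * e ^ (i : ℕ) ∈ B := by
          have key : ∀ a b : Fin 4, (a : ℕ) % 2 = (b : ℕ) % 2 → a = b ∨ (a : ℕ) = b + 2 ∨ (b : ℕ) = a + 2 := by
            decide
          rcases key i i' hpar with h | h | h
          · rw [h, inv_mul_cancel]; exact one_mem _
          · rw [h, pow_add, inv_mul_cancel_left, pow_two]; exact heB
          · rw [h, pow_add, _root_.mul_inv_rev, inv_mul_cancel_right, pow_two]; exact inv_mem heB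
        have hco := congrArg (fun s => fr.co ((e ^ (i' : ℕ))⁻¹ * s)) h3
        simp only [← mul_assoc, inv_mul_cancel, one_mul] at hco
        rw [show (e ^ (i' : ℕ))⁻¹ * e ^ (i : ℕ) * f0 ^ (j : ℕ) * f1 ^ (k : ℕ) * f2 ^ (l : ℕ) =
          (e ^ (i' : ℕ))⁻¹ * e ^ (i : ℕ) * (f0 ^ (j : ℕ) * f1 ^ (k : ℕ) * f2 ^ (l : ℕ)) by group,
          fr.co_mul _ h5 _ (hmemM _ _ _), (fr.co_ker _ h5).2 hBpow, zero_add, hco3, hco3] at hco
        have key : ∀ a b c a' b' c' : Fin 2,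
            (![((a : ℕ) : ZMod 2), ((b : ℕ) : ZMod 2), ((c : ℕ) : ZMod 2)] : V3) =
              ![((a' : ℕ) : ZMod 2), ((b' : ℕ) : ZMod 2), ((c' : ℕ) : ZMod 2)] →
              a = a' ∧ b = b' ∧ c = c' := by decide +kernel
        obtain ⟨rfl, rfl, rfl⟩ := key _ _ _ _ _ _ hco
        have h9 := mul_right_cancel h3
        have hord : orderOf e = 4 := by
          haveI : Fact (Nat.Prime 2) := ⟨Nat.prime_two⟩
          exact orderOf_eq_prime_pow (p := 2) (n := 1) (by rw [pow_one, pow_two]; exact he2)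
            (by rw [show (2 : ℕ) ^ (1 + 1) = 4 from rfl]; simp only [pow_succ, pow_zero, one_mul, mul_assoc] at he4 ⊢; exact he4)
        have h10 := (pow_eq_pow_iff_modEq (x := e)).1 h9
        rw [hord] at h10
        obtain rfl : i = i' := Fin.ext (by
          have := i.2
          have := i'.2
          unfold Nat.ModEq at h10
          omega)
        rfl
      have h128 := Nat.card_le_card_of_injective G hG
      simp [Nat.card_prod] at h128
      calc 2 ^ 4 * Nat.card J ≤ 2 ^ 4 * 4 := Nat.mul_le_mul_left _ hJcard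
        _ < 128 := by norm_num
        _ ≤ _ := h128
  · -- the odd case is impossible
    exfalso
    have hmJ : m ∈ J := hfixJ m hm (by
      have h1 := hzx
      rw [hxx, show z * (e * m) * z⁻¹ = (z * e) * m * z⁻¹ by group, he z,
        show e * z * m * z⁻¹ = e * (z * m * z⁻¹) by group] at h1
      exact mul_left_cancel h1)
    have hconjE : ∀ a : X, g * (e * a) * g⁻¹ = e * (g * a * g⁻¹) := fun a => by
      rw [← mul_assoc g, he g]; group
    have hmy := (hgJ m hmJ).1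
    have hyy : y * y = e * (g * m * g⁻¹) := by
      rw [← hconjE, ← hxx, hyd]; group
    have hww : w * w = e * (g * (g * m * g⁻¹) * g⁻¹) := by
      rw [← hconjE, ← hyy, hwd]; group
    set c := x * y * x⁻¹ * y⁻¹ with hcd
    have hxxy : y * (x * x) = x * x * y := by
      rw [hxx, ← mul_assoc, he y, mul_assoc, hyJ m hmJ, ← mul_assoc]
    have hxy2 : x * y * (x * y) = j1⁻¹ * (e * (g * (g * m * g⁻¹) * g⁻¹)) := by
      rw [← hww, hxy, inv_mul_cancel_left]
    obtain ⟨j, hj, hcj⟩ : ∃ j ∈ J, c = e⁻¹ * j := by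
      have h1 : c = x * y * (x * y) * ((x * x)⁻¹ * (y * y)⁻¹) := by
        have h2 : x⁻¹ = (x * x)⁻¹ * x := by group
        have h3 : y * (x * x)⁻¹ = (x * x)⁻¹ * y := by
          rw [eq_inv_mul_iff_mul_eq, ← mul_assoc, ← hxxy, mul_inv_cancel_right]
        calc c = x * y * x⁻¹ * y⁻¹ := rfl
          _ = x * y * (x * (x * x)⁻¹) * (y * (y * y)⁻¹) := by group
          _ = x * y * x * ((x * x)⁻¹ * y) * (y * y)⁻¹ := by group
          _ = x * y * x * (y * (x * x)⁻¹) * (y * y)⁻¹ := by rw [h3]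
          _ = _ := by group
      set m'' := g * (g * m * g⁻¹) * g⁻¹ with hm''
      have hm''J : m'' ∈ J := (hgJ _ hmy).1
      refine ⟨j1⁻¹ * m'' * m⁻¹ * (g * m * g⁻¹)⁻¹,
        mul_mem (mul_mem (mul_mem (inv_mem hj1) hm''J) (inv_mem hmJ)) (inv_mem hmy), ?_⟩
      rw [h1, hxy2, hxx, hyy]
      have hec : ∀ a : X, Commute e a := fun a => (he a).symm
      set m' := g * m * g⁻¹ with hm'
      calc j1⁻¹ * (e * m'') * ((e * m)⁻¹ * (e * m')⁻¹)
          = j1⁻¹ * (e * m'' * m⁻¹ * e⁻¹) * (m'⁻¹ * e⁻¹) := by group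
        _ = j1⁻¹ * (m'' * m⁻¹) * (m'⁻¹ * e⁻¹) := by
            rw [show e * m'' * m⁻¹ = (m'' * m⁻¹) * e from by rw [mul_assoc]; exact (hec _).eq,
              mul_inv_cancel_right]
        _ = (j1⁻¹ * m'' * m⁻¹ * m'⁻¹) * e⁻¹ := by group
        _ = _ := ((hec _).inv_left).symm.eq
    have hxc : x * c * x⁻¹ = c := by
      rw [hcj, ← mul_assoc, show x * e⁻¹ = e⁻¹ * x from (Commute.inv_right (he x : Commute x e)).eq,
        mul_assoc e⁻¹ x j, hxJ j hj]
      group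
    have hcc : x * c * x⁻¹ * c = 1 := by
      rw [hcd, show x * (x * y * x⁻¹ * y⁻¹) * x⁻¹ * (x * y * x⁻¹ * y⁻¹) =
        (x * x) * y * (x * x)⁻¹ * y⁻¹ by group, ← hxxy]
      group
    rw [hxc, hcj, show e⁻¹ * j * (e⁻¹ * j) = e⁻¹ * (j * e⁻¹) * j by group,
      show j * e⁻¹ = e⁻¹ * j from (Commute.inv_right (he j : Commute j e)).eq,
      show e⁻¹ * (e⁻¹ * j) * j = (e * e)⁻¹ * (j * j) by group, hsq j hj.1, mul_one, inv_eq_one] at hcc
    exact he2 hcc

end CfsgLib.RankFourQuotient.LThree
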