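import Cfsg.Agent.Lib.TwoGroups.RankFourQuotient.LinearThreeTwoFrame

/-!
Owner: helper12. A perfect double cover of `L₃(2)` has no outer involution.
-/

set_option autoImplicit false
set_option maxHeartbeats 800000
set_option linter.style.haveILetI false

namespace CfsgLib.RankFourQuotient.LThree

open Matrix Subgroup

def uRefl : M3 := !![1, 1, 0; 0, 1, 0; 0, 0, 1]
def vRefl : M3 := !![1, 0, 0; 0, 1, 1; 0, 0, 1]

theorem involutions_conjugate : ∀ M : M3, M * M = 1 → M ≠ 1 →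
    ∃ H : M3, H.det = 1 ∧ H * aMat = M * H := by decide +kernel

theorem refl_facts : aMat * aMat = 1 ∧ aMat ≠ 1 ∧ uRefl * uRefl = 1 ∧ uRefl ≠ 1 ∧
    vRefl * vRefl = 1 ∧ vRefl ≠ 1 ∧
    (uRefl * vRefl * (uRefl * vRefl)) * (uRefl * vRefl * (uRefl * vRefl)) = 1 ∧
    uRefl * vRefl * (uRefl * vRefl) ≠ 1 ∧
    ∀ i i' : Fin 4, ∀ j j' : Fin 2, (uRefl * vRefl) ^ (i : ℕ) * uRefl ^ (j : ℕ) =
      (uRefl * vRefl) ^ (i' : ℕ) * uRefl ^ (j' : ℕ) → i = i' ∧ j = j' := by decide +kernel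

theorem not_perfect_cover {G : Type*} [Group G] [Finite G] {ζ : G} (ρ : G →* M3)
    (hsurj : ∀ M : M3, M.det = 1 → ∃ g, ρ g = M) (hζ : ∀ g, g * ζ = ζ * g) (hζ1 : ζ ≠ 1)
    (hζ2 : ζ * ζ = 1) (hker : ∀ g, ρ g = 1 → g = 1 ∨ g = ζ) (hρζ : ρ ζ = 1)
    (hcard : Nat.card G = 336) (hperf : commutator G = ⊤) {t : G} (htρ : ρ t ≠ 1)
    (ht : t * t = 1) : False := by
  classical
  haveI : Fact (Nat.Prime 2) := ⟨Nat.prime_two⟩
  obtain ⟨haa, hane, huu, hune, hvv, hvne, hw2, hwne, hinj⟩ := refl_facts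
  -- every involution of the quotient lifts to involutions
  have hall : ∀ g, ρ g * ρ g = 1 → ρ g ≠ 1 → g * g = 1 := by
    intro g hg hgne
    obtain ⟨H1, hH1, h1⟩ := involutions_conjugate (ρ t) (by rw [← map_mul, ht, map_one]) htρ
    obtain ⟨H2, hH2, h2⟩ := involutions_conjugate (ρ g) hg hgne
    obtain ⟨p, rfl⟩ := hsurj H1 hH1
    obtain ⟨q, rfl⟩ := hsurj H2 hH2
    set r := q * p⁻¹ * t * p * q⁻¹ with hr
    have hrt : r * r = 1 := by
      rw [hr, show (q * p⁻¹ * t * p * q⁻¹) * (q * p⁻¹ * t * p * q⁻¹) = q * p⁻¹ * (t * t) * p * q⁻¹ by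
        group, ht]
      group
    have hrρ : ρ r = ρ g := by
      calc ρ r = ρ q * ρ p⁻¹ * (ρ t * ρ p) * ρ q⁻¹ := by simp only [hr, map_mul, mul_assoc]
        _ = ρ q * ρ p⁻¹ * (ρ p * aMat) * ρ q⁻¹ := by rw [h1]
        _ = ρ q * aMat * ρ q⁻¹ := by
          rw [mul_assoc (ρ q), ← mul_assoc (ρ p⁻¹), ← map_mul, inv_mul_cancel, map_one, one_mul]
        _ = ρ g := by rw [h2, mul_assoc, ← map_mul, mul_inv_cancel, map_one, mul_one]
    rcases hker (r⁻¹ * g) (by rw [map_mul, ← hrρ, ← map_mul, inv_mul_cancel, map_one]) with h | h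
    · rw [← inv_mul_eq_one.1 h]; exact hrt
    · rw [show g = r * ζ by rw [← h]; group,
        show r * ζ * (r * ζ) = r * (ζ * r) * ζ by group, ← hζ r,
        show r * (r * ζ) * ζ = (r * r) * (ζ * ζ) by group, hrt, hζ2, one_mul]
  obtain ⟨u, hu⟩ := hsurj uRefl (by decide +kernel)
  obtain ⟨v, hv⟩ := hsurj vRefl (by decide +kernel)
  have hu2 : u * u = 1 := hall u (by rw [hu, huu]) (by rw [hu]; exact hune)
  have hv2 : v * v = 1 := hall v (by rw [hv, hvv]) (by rw [hv]; exact hvne)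
  set r := u * v with hr
  have hr4 : r ^ 4 = 1 := by
    have := hall (r * r) (by rw [hr, map_mul, map_mul, hu, hv, hw2]) (by
      rw [hr, map_mul, map_mul, hu, hv]; exact hwne)
    rw [show r ^ 4 = r * r * (r * r) by simp [pow_succ, mul_assoc]]
    exact this
  have hur : u * r * u = r⁻¹ := by
    rw [hr, show u * (u * v) * u = (u * u) * (v * u) by group, hu2, one_mul, _root_.mul_inv_rev,
      inv_eq_of_mul_eq_one_right hu2, inv_eq_of_mul_eq_one_right hv2]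
  set D := closure ({u, v} : Set G) with hD
  have hmemD : ∀ d ∈ D, ∃ (i : Fin 4) (j : Fin 2), r ^ (i : ℕ) * u ^ (j : ℕ) = d := by
    have hred : ∀ n : ℕ, ∃ i : Fin 4, r ^ (i : ℕ) = r ^ n := fun n =>
      ⟨⟨n % 4, Nat.mod_lt _ (by norm_num)⟩, (pow_eq_pow_mod n hr4).symm⟩
    have hstep : ∀ (i : Fin 4) (j : Fin 2) (g : G), g = u ∨ g = v →
        ∃ (i' : Fin 4) (j' : Fin 2), r ^ (i' : ℕ) * u ^ (j' : ℕ) = r ^ (i : ℕ) * u ^ (j : ℕ) * g := by
      intro i j g hg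
      have huinv : u⁻¹ = u := inv_eq_of_mul_eq_one_right hu2
      have hv' : v = r ^ 3 * u := by
        rw [show r ^ 3 = r⁻¹ by rw [eq_inv_iff_mul_eq_one, ← pow_succ, hr4], ← hur, mul_assoc, hu2,
          mul_one, hr, ← mul_assoc, hu2, one_mul]
      fin_cases j <;> rcases hg with rfl | rfl
      · exact ⟨i, 1, by simp⟩
      · obtain ⟨i', hi'⟩ := hred ((i : ℕ) + 3)
        refine ⟨i', 1, ?_⟩
        rw [hi', pow_add, hv']
        simp [mul_assoc]
      · exact ⟨i, 0, by simp [mul_assoc, hu2]⟩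
      · obtain ⟨i', hi'⟩ := hred ((i : ℕ) + 1)
        refine ⟨i', 0, ?_⟩
        rw [hi', pow_succ, hr]
        simp [mul_assoc]
    intro d hd
    refine closure_induction_right (p := fun d _ => ∃ (i : Fin 4) (j : Fin 2),
      r ^ (i : ℕ) * u ^ (j : ℕ) = d) ⟨0, 0, by simp⟩ ?_ ?_ hd
    · rintro x - g hg ⟨i, j, rfl⟩
      exact hstep i j g hg
    · rintro x - g hg ⟨i, j, rfl⟩
      refine hstep i j g⁻¹ ?_
      rcases hg with rfl | rfl
      · exact Or.inl (inv_eq_of_mul_eq_one_right hu2)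
      · exact Or.inr (inv_eq_of_mul_eq_one_right hv2)
  let e : Fin 4 × Fin 2 → D := fun p =>
    ⟨r ^ (p.1 : ℕ) * u ^ (p.2 : ℕ), mul_mem (pow_mem (mul_mem (subset_closure (by simp))
      (subset_closure (by simp))) _) (pow_mem (subset_closure (by simp)) _)⟩
  have heρ : ∀ p, ρ (e p : G) = (uRefl * vRefl) ^ (p.1 : ℕ) * uRefl ^ (p.2 : ℕ) := fun p => by
    show ρ (r ^ _ * u ^ _) = _
    rw [map_mul, map_pow, map_pow, hr, map_mul, hu, hv]
  have he : Function.Bijective e := by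
    refine ⟨fun p q h => ?_, fun d => ?_⟩
    · obtain ⟨h1, h2⟩ := hinj p.1 q.1 p.2 q.2 (by rw [← heρ, ← heρ, h])
      exact Prod.ext h1 h2
    · obtain ⟨i, j, hij⟩ := hmemD d d.2
      exact ⟨(i, j), Subtype.ext hij⟩
  have hζD : ζ ∉ D := by
    intro h
    obtain ⟨i, j, hij⟩ := hmemD ζ h
    obtain ⟨rfl, rfl⟩ := hinj i 0 j 0 (by
      rw [← heρ (i, j), show (e (i, j) : G) = ζ from hij, hρζ]; simp)
    simp at hij
    exact hζ1 hij.symm
  set Z := zpowers ζ with hZ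
  letI : CommGroup Z := { (inferInstance : Group Z) with
    mul_comm := fun a b => by
      obtain ⟨i, hi⟩ := mem_zpowers_iff.1 a.2
      obtain ⟨j, hj⟩ := mem_zpowers_iff.1 b.2
      exact Subtype.ext (by push_cast; rw [← hi, ← hj, ← _root_.zpow_add, ← _root_.zpow_add, add_comm]) }
  have hcomm : ∀ (d : D) (z : Z), Commute (D.subtype d) (Z.subtype z) := fun d z => by
    obtain ⟨i, hi⟩ := mem_zpowers_iff.1 z.2
    show Commute (d : G) (z : G)
    rw [← hi]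
    exact Commute.zpow_right (hζ d) i
  let φ : D × Z →* G := D.subtype.noncommCoprod Z.subtype hcomm
  have hord : orderOf ζ = 2 := orderOf_eq_prime (by rw [pow_two, hζ2]) hζ1
  have hZmem : ∀ z : Z, (z : G) = 1 ∨ (z : G) = ζ := by
    intro z
    refine hker _ ?_
    obtain ⟨i, hi⟩ := mem_zpowers_iff.1 z.2
    let K : Subgroup G :=
      { carrier := {g | ρ g = 1}
        one_mem' := map_one ρ
        mul_mem' := fun {a b} (ha : ρ a = 1) (hb : ρ b = 1) => show ρ (a * b) = 1 by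
          rw [map_mul, ha, hb, one_mul]
        inv_mem' := fun {a} (ha : ρ a = 1) => show ρ a⁻¹ = 1 by
          rw [← mul_one (ρ a⁻¹), ← ha, ← map_mul, inv_mul_cancel, map_one, ha] }
    exact zpowers_le.2 (show ζ ∈ K from hρζ) z.2
  have hφ : Function.Injective φ := by
    refine (injective_iff_map_eq_one φ).2 fun ⟨d, z⟩ h => ?_
    have h' : (d : G) * z = 1 := h
    rcases hZmem z with hz | hz
    · rw [hz, mul_one] at h'
      exact Prod.ext (Subtype.ext h') (Subtype.ext hz)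
    · rw [hz] at h'
      exact absurd (eq_inv_of_mul_eq_one_right h' ▸ inv_mem d.2) hζD
  let δ : φ.range →* Z := (MonoidHom.snd D Z).comp (MonoidHom.ofInjective hφ).symm.toMonoidHom
  have hidx : φ.range.index = 21 := by
    have h1 := φ.range.index_mul_card
    rw [← Nat.card_congr (MonoidHom.ofInjective hφ).toEquiv, Nat.card_prod,
      ← Nat.card_congr (Equiv.ofBijective e he), show Nat.card Z = 2 from (Nat.card_zpowers ζ).trans hord,
      hcard, Nat.card_prod,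
      Nat.card_eq_fintype_card, Nat.card_eq_fintype_card, Fintype.card_fin, Fintype.card_fin] at h1
    omega
  haveI : φ.range.FiniteIndex := ⟨by rw [hidx]; norm_num⟩
  have hT := Abelianization.commutator_subset_ker (MonoidHom.transfer δ) (hperf ▸ mem_top ζ)
  have key : ∀ (k : ℕ) (g₀ : G), g₀⁻¹ * ζ ^ k * g₀ ∈ φ.range → g₀⁻¹ * ζ ^ k * g₀ = ζ ^ k :=
    fun k g₀ _ => by
      rw [mul_assoc, ((Commute.pow_right (hζ g₀ : Commute g₀ ζ) k)).symm.eq, inv_mul_cancel_left]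
  rw [MonoidHom.mem_ker, MonoidHom.transfer_eq_pow δ ζ key] at hT
  have h21 : ζ ^ φ.range.index = φ (1, ⟨ζ, mem_zpowers ζ⟩) := by
    rw [hidx, pow_eq_pow_mod 21 (show ζ ^ 2 = 1 by rw [pow_two, hζ2])]
    show ζ ^ (21 % 2) = (1 : G) * ζ
    rw [one_mul]
    exact pow_one ζ
  refine hζ1 ?_
  have h2 : δ ⟨φ (1, ⟨ζ, mem_zpowers ζ⟩), _, rfl⟩ = ⟨ζ, mem_zpowers ζ⟩ := by
    show ((MonoidHom.ofInjective hφ).symm _).2 = _
    rw [show (⟨φ (1, ⟨ζ, mem_zpowers ζ⟩), _, rfl⟩ : φ.range) =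
      MonoidHom.ofInjective hφ (1, ⟨ζ, mem_zpowers ζ⟩) from Subtype.ext rfl, MulEquiv.symm_apply_apply]
  have h3 : δ ⟨φ (1, ⟨ζ, mem_zpowers ζ⟩), _, rfl⟩ = 1 := by
    rw [← hT]
    congr 1
    exact Subtype.ext h21.symm
  exact congrArg Subtype.val (h2.symm.trans h3)

end CfsgLib.RankFourQuotient.LThree
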