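import Cfsg.Agent.Lib.TwoGroups.RankFourQuotient.LinearThreeTwoFrame
import Cfsg.Agent.Lib.TwoGroups.RankFourQuotient.Section

/-!
Owner: helper12. An extension of `(ℤ/4)³` by `L₃(2)` has sectional 2-rank at least five.
-/

set_option autoImplicit false
set_option maxHeartbeats 800000

namespace CfsgLib.RankFourQuotient.LThree

open Matrix Subgroup

abbrev M4 := Matrix (Fin 3) (Fin 3) (ZMod 4)
abbrev V4 := Fin 3 → ZMod 4

def zMat (a b c : ZMod 4) : M4 := !![a, 1, 0; b, 1, 1; c, 0, 1]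

def j0 (v : V4) : Prop := v = 0 ∨ v = ![2, 0, 0]

instance (v : V4) : Decidable (j0 v) := inferInstanceAs (Decidable (_ ∨ _))

/-- Reduction modulo two. -/
def red : ZMod 4 →+* ZMod 2 := ZMod.castHom (show 2 ∣ 4 by norm_num) (ZMod 2)

theorem zMat_facts : ∀ a b c : ZMod 4, red a = 1 → red b = 0 → red c = 0 →
    zMat a b c ^ 4 = 1 → (zMat a b c).det = 1 →
    (∀ s : V4, zMat a b c *ᵥ s = s →
      ∃ q : V4, j0 (q + (zMat a b c * zMat a b c) *ᵥ q + s)) ∧
    (∀ q : V4, red (q 2) = 0 → j0 (q + (zMat a b c * zMat a b c) *ᵥ q)) ∧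
    j0 ((zMat a b c * zMat a b c) *ᵥ ![1, 0, 0] - ![1, 0, 0]) ∧
    (∀ v : V4, j0 ((zMat a b c * zMat a b c) *ᵥ (v + v) - (v + v))) := by decide +kernel

theorem j0_add : ∀ u v : V4, j0 u → j0 v → j0 (u + v) := by
  rintro u v (rfl | rfl) (rfl | rfl) <;> first | (left; decide) | (right; decide)

theorem mats : uniMat.det = 1 ∧ threeMat.det = 1 ∧ threeMat ^ 3 = 1 ∧ uniMat ^ 4 = 1 ∧
    aMat * aMat = 1 ∧ bMat * bMat = 1 ∧
    threeMat * bMat * threeMat ^ 2 = aMat * bMat ∧ threeMat *ᵥ ![1, 0, 0] = ![1, 0, 0] ∧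
    aMat *ᵥ ![1, 0, 0] = ![1, 0, 0] ∧ bMat *ᵥ ![1, 0, 0] = ![1, 0, 0] ∧
    aMat ≠ 1 ∧ bMat ≠ 1 ∧ bMat ≠ aMat ∧ aMat * bMat = bMat * aMat := by decide +kernel

theorem planes : (∀ v : V3, aMat *ᵥ v = v → v 2 = 0) ∧
    (∀ v : V3, ∃ u : V3, bMat *ᵥ u = u ∧ aMat *ᵥ (v + aMat *ᵥ u) = v + aMat *ᵥ u) := by
  decide +kernel

theorem two_mul_surj : ∀ v : V4, red ∘ v = 0 → ∃ u : V4, (∀ i, (u i).val < 2) ∧ v = u + u := by
  decide +kernel

theorem red_facts : (∀ u : V3, ∃ v : V4, red ∘ v = u) ∧ (∀ v : V4, v + v = 0 → red ∘ v = 0) ∧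
    (∀ u v : V4, red ∘ u = red ∘ v → ∃ w : V4, u = v + (w + w)) ∧
    (∀ x y : Fin 2, ∀ x' y' : Fin 2, aMat ^ (x : ℕ) * bMat ^ (y : ℕ) = aMat ^ (x' : ℕ) * bMat ^ (y' : ℕ)
      → x = x' ∧ y = y') := by
  decide +kernel

theorem not_sectional_four {X : Type*} [Group X] [Finite X] {F W : Subgroup X} [F.Normal]
    (hT : Top F) (fr : Frame F F W) (hc : ∀ a ∈ F, ∀ b ∈ F, a * b = b * a) (hWF : W ≤ F)
    (hW : Nat.card W = 8) (hsq : ∀ a ∈ F, a * a ∈ W) (hker : ∀ a ∈ F, a * a = 1 → a ∈ W)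
    (hWe : ∀ a ∈ W, a * a = 1) : ¬ Cfsg.SectionalPRankLE 2 4 X := by
  classical
  letI : CommGroup F := { (inferInstance : Group F) with
    mul_comm := fun a b => Subtype.ext (hc a a.2 b b.2) }
  obtain ⟨hUdet, h3det, h3pow, hU4, haa, hbb, hgb, hg0, ha0, hb0, hane, hbne, hba, hab⟩ := mats
  haveI : Fact (1 < 4) := ⟨by norm_num⟩
  obtain ⟨z, hz⟩ := fr.surj _ hUdet
  obtain ⟨g, hg⟩ := fr.surj _ h3det
  obtain ⟨f2, hf2, hcf2⟩ := fr.co_surj ![0, 0, 1]
  have hconj : ∀ x : X, ∀ a ∈ F, x * a * x⁻¹ ∈ F := fun x a ha =>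
    (inferInstance : F.Normal).conj_mem a ha x
  let D : X → X := fun f => z * f * z⁻¹ * f⁻¹
  have hD : ∀ f ∈ F, D f ∈ F ∧ fr.co (D f) = uniMat *ᵥ fr.co f + fr.co f := fun f hf =>
    ⟨mul_mem (hconj z f hf) (inv_mem hf), by
      show fr.co (z * f * z⁻¹ * f⁻¹) = _
      rw [fr.co_mul _ (hconj z f hf) _ (inv_mem hf), fr.co_inv hf, fr.co_conj z f hf, hz]⟩
  set f1 := D f2 with hf1d
  obtain ⟨hf1, hcf1⟩ := hD f2 hf2
  rw [hcf2] at hcf1
  rw [show uniMat *ᵥ ![0, 0, 1] + ![0, 0, 1] = ![0, 1, 0] by decide +kernel] at hcf1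
  set f0 := D f1 with hf0d
  obtain ⟨hf0, hcf0⟩ := hD f1 hf1
  rw [hcf1] at hcf0
  rw [show uniMat *ᵥ ![0, 1, 0] + ![0, 1, 0] = ![1, 0, 0] by decide +kernel] at hcf0
  have h4 : ∀ a : F, a ^ 4 = 1 := fun a => Subtype.ext (by
    push_cast
    rw [show (4 : ℕ) = 2 * 2 from rfl, pow_mul, pow_two, pow_two]
    exact hWe _ (hsq a a.2))
  let e : Fin 3 → F := ![⟨f0, hf0⟩, ⟨f1, hf1⟩, ⟨f2, hf2⟩]
  let φ : V4 → F := fun v => ∏ i, e i ^ (v i).val
  have hφadd : ∀ u v, φ (u + v) = φ u * φ v := by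
    intro u v
    simp only [φ, ← Finset.prod_mul_distrib]
    refine Finset.prod_congr rfl fun i _ => ?_
    rw [← pow_add, Pi.add_apply, ZMod.val_add, ← pow_eq_pow_mod _ (h4 _)]
  have hφe : ∀ i, φ (Pi.single i 1) = e i := by
    intro i
    simp only [φ, Fin.prod_univ_three]
    fin_cases i <;> simp [ZMod.val_one]
  let co' : F → V3 := fun a => fr.co a
  have hcomul : ∀ a b : F, co' (a * b) = co' a + co' b := fun a b => fr.co_mul a a.2 b b.2
  let coH : Additive F →+ V3 := AddMonoidHom.mk' (fun a => co' a.toMul) fun a b => hcomul _ _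
  have hcoφ : ∀ v : V4, co' (φ v) = red ∘ v := by
    intro v
    have h1 : co' (φ v) = ∑ i, (v i).val • co' (e i) := by
      show coH (Additive.ofMul (∏ i, e i ^ (v i).val)) = _
      rw [ofMul_prod, map_sum]
      refine Finset.sum_congr rfl fun i _ => ?_
      rw [ofMul_pow, map_nsmul]
      rfl
    rw [h1, Fin.sum_univ_three]
    show (v 0).val • fr.co f0 + (v 1).val • fr.co f1 + (v 2).val • fr.co f2 = _
    rw [hcf0, hcf1, hcf2]
    have key : ∀ n : ZMod 4, ((n.val : ℕ) : ZMod 2) = red n := by decide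
    ext i
    fin_cases i <;> simp [key]
  have hφ0 : φ 0 = 1 := by simp [φ]
  have hφhalf : ∀ v : V4, φ v = 1 → v = 0 := by
    intro v hv
    have h1 : red ∘ v = 0 := by
      rw [← hcoφ, hv]; exact fr.co_one
    obtain ⟨u, hu, rfl⟩ := two_mul_surj v h1
    rw [hφadd] at hv
    have h2 : (φ u : X) ∈ W := hker _ (φ u).2 (congrArg Subtype.val hv)
    have h3 : red ∘ u = 0 := by rw [← hcoφ]; exact (fr.co_ker _ (φ u).2).2 h2
    have key : ∀ n : ZMod 4, n.val < 2 → red n = 0 → n = 0 := by decide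
    rw [show u = 0 from funext fun i => key _ (hu i) (congrFun h3 i), add_zero]
  have hφinj : Function.Injective φ := by
    intro u v h
    have h1 : φ (u - v) = 1 := mul_right_cancel (b := φ v) (by rw [← hφadd, sub_add_cancel, h, one_mul])
    exact sub_eq_zero.1 (hφhalf _ h1)
  have hWsurj : ∀ w ∈ W, ∃ u : V4, (φ (u + u) : X) = w := by
    intro w hw
    obtain ⟨lift, hlift⟩ : ∃ l : V3 → V4, ∀ u, red ∘ l u = u :=
      ⟨fun u => (red_facts.1 u).choose, fun u => (red_facts.1 u).choose_spec⟩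
    let G : V3 → W := fun u => ⟨(φ (lift u) : X) * φ (lift u), hsq _ (φ (lift u)).2⟩
    have hG : Function.Injective G := by
      intro u v h
      have h1 : φ (lift u + lift u) = φ (lift v + lift v) := by
        rw [hφadd, hφadd]; exact Subtype.ext (congrArg (fun t : W => (t : X)) h)
      have h2 : (lift u - lift v) + (lift u - lift v) = 0 := by
        rw [show (lift u - lift v) + (lift u - lift v) = (lift u + lift u) - (lift v + lift v) by abel,
          hφinj h1, sub_self]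
      have h3 := red_facts.2.1 _ h2
      rw [← hlift u, ← hlift v]
      ext i
      have h4' := congrFun h3 i
      simp only [Function.comp_apply, Pi.sub_apply, map_sub, Pi.zero_apply, sub_eq_zero] at h4'
      exact h4'
    obtain ⟨u, hu⟩ := (hG.bijective_of_nat_card_le (by
      rw [hW]; simp [Nat.card_eq_fintype_card])).2 ⟨w, hw⟩
    exact ⟨lift u, by rw [hφadd]; exact congrArg Subtype.val hu⟩
  have hφsurj : ∀ a ∈ F, ∃ v, (φ v : X) = a := by
    intro a ha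
    obtain ⟨l, hl⟩ := red_facts.1 (fr.co a)
    have h1 : (φ l : X)⁻¹ * a ∈ W := (fr.co_eq (φ l).2 ha).1 (by rw [← hl]; exact hcoφ l)
    obtain ⟨u, hu⟩ := hWsurj _ h1
    exact ⟨l + (u + u), by rw [hφadd]; push_cast; rw [hu, mul_inv_cancel_left]⟩
  -- the action
  let col : X → Fin 3 → V4 := fun x i => (hφsurj _ (hconj x _ (e i).2)).choose
  have hcol : ∀ x i, (φ (col x i) : X) = x * e i * x⁻¹ := fun x i =>
    (hφsurj _ (hconj x _ (e i).2)).choose_spec
  let Θ : X → M4 := fun x => Matrix.of fun i j => col x j i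
  have hact : ∀ x v, (φ (Θ x *ᵥ v) : X) = x * φ v * x⁻¹ := by
    intro x v

    have hn : ∀ (n : ℕ) (u : V4), φ (n • u) = φ u ^ n := by
      intro n u
      induction n with
      | zero => rw [zero_smul, hφ0, pow_zero]
      | succ n ih => rw [succ_nsmul, hφadd, ih, pow_succ]
    have hsum : Θ x *ᵥ v = ∑ j, (v j).val • col x j := by
      ext i
      simp only [Θ, mulVec, dotProduct, Matrix.of_apply, Finset.sum_apply]
      refine Finset.sum_congr rfl fun j _ => ?_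
      rw [Pi.smul_apply, nsmul_eq_mul, ZMod.natCast_zmod_val, mul_comm]
    let σ : F →* F :=
      { toFun := fun a => ⟨x * a * x⁻¹, hconj x a a.2⟩
        map_one' := Subtype.ext (by push_cast; group)
        map_mul' := fun a b => Subtype.ext (by push_cast; group) }
    have hσ : φ (Θ x *ᵥ v) = σ (φ v) := by
      rw [hsum, Fin.sum_univ_three, hφadd, hφadd, hn, hn, hn]
      simp only [φ, Fin.prod_univ_three, map_mul, map_pow]
      have hh : ∀ i, φ (col x i) = σ (e i) := fun i => Subtype.ext (hcol x i)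
      rw [← hh, ← hh, ← hh]
      simp only [φ, Fin.prod_univ_three]
    exact congrArg Subtype.val hσ
  have hΘeq : ∀ x M, (∀ v, (φ (M *ᵥ v) : X) = x * φ v * x⁻¹) → Θ x = M := by
    intro x M hM
    refine Matrix.toLin'.injective (LinearMap.ext fun v => ?_)
    rw [toLin'_apply, toLin'_apply]
    exact hφinj (Subtype.ext ((hact x v).trans (hM v).symm))
  have hΘmul : ∀ x y, Θ (x * y) = Θ x * Θ y := fun x y => hΘeq _ _ fun v => by
    rw [← mulVec_mulVec, hact, hact]; group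
  have hΘF : ∀ x ∈ F, Θ x = 1 := fun x hx => hΘeq _ _ fun v => by
    rw [one_mulVec, hc x hx _ (φ v).2, mul_inv_cancel_right]
  let Θh : X →* M4 := ⟨⟨Θ, hΘF 1 (one_mem _)⟩, hΘmul⟩
  have hdet : ∀ x, (Θ x).det = 1 := by
    let δ : X →* (ZMod 4)ˣ := MonoidHom.toHomUnits ((Matrix.detMonoidHom).comp Θh)
    have hle : (⊤ : Subgroup X) ≤ δ.ker := hT.commutator_sup.ge.trans (sup_le
      (Abelianization.commutator_subset_ker δ) fun x hx => Units.ext (by
        show (Θ x).det = 1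
        rw [hΘF x hx, det_one]))
    intro x
    exact congrArg Units.val (MonoidHom.mem_ker.1 (hle (mem_top x)))
  have hred : ∀ x (v : V4), red ∘ (Θ x *ᵥ v) = fr.ρ x *ᵥ (red ∘ v) := by
    intro x v
    rw [← hcoφ, ← hcoφ]
    show fr.co _ = _ *ᵥ fr.co _
    rw [hact, fr.co_conj x _ (φ v).2]
  -- the element of order four
  obtain ⟨a, b, c, hzM⟩ : ∃ a b c, Θ z = zMat a b c := by
    refine ⟨Θ z 0 0, Θ z 1 0, Θ z 2 0, ?_⟩
    have hz2 : col z 2 = ![0, 1, 1] := hφinj (Subtype.ext (by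
      rw [hcol]
      show z * f2 * z⁻¹ = _
      simp only [φ, Fin.prod_univ_three]
      show _ = (((e 0) ^ ((0 : ZMod 4)).val * (e 1) ^ ((1 : ZMod 4)).val *
        (e 2) ^ ((1 : ZMod 4)).val : F) : X)
      rw [ZMod.val_zero, ZMod.val_one, pow_zero, pow_one, pow_one, one_mul]
      show _ = f1 * f2
      simp only [f1, D, inv_mul_cancel_right]))
    have hz1 : col z 1 = ![1, 1, 0] := hφinj (Subtype.ext (by
      rw [hcol]
      show z * f1 * z⁻¹ = _
      simp only [φ, Fin.prod_univ_three]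
      show _ = (((e 0) ^ ((1 : ZMod 4)).val * (e 1) ^ ((1 : ZMod 4)).val *
        (e 2) ^ ((0 : ZMod 4)).val : F) : X)
      rw [ZMod.val_zero, ZMod.val_one, pow_zero, pow_one, pow_one, mul_one]
      show _ = f0 * f1
      simp only [f0, D, inv_mul_cancel_right]))
    ext i j
    fin_cases j
    · fin_cases i <;> rfl
    · show col z 1 i = _
      rw [hz1]
      fin_cases i <;> rfl
    · show col z 2 i = _
      rw [hz2]
      fin_cases i <;> rfl
  have hcolpar : red a = 1 ∧ red b = 0 ∧ red c = 0 := by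
    have h := hred z ![1, 0, 0]
    rw [hzM, hz] at h
    have key : ∀ a b c : ZMod 4, red ∘ (zMat a b c *ᵥ ![1, 0, 0]) = uniMat *ᵥ (red ∘ ![1, 0, 0]) →
        red a = 1 ∧ red b = 0 ∧ red c = 0 := by decide +kernel
    exact key a b c h
  have hz4F : z ^ 4 ∈ F := (fr.ker _).1 (by rw [map_pow, hz, hU4])
  obtain ⟨hs1, hq, he0, hev⟩ := zMat_facts a b c hcolpar.1 hcolpar.2.1 hcolpar.2.2
    (by rw [← hzM]; exact (map_pow Θh z 4).symm.trans (hΘF _ hz4F))
    (by rw [← hzM]; exact hdet z)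
  -- `J` and the good lifts
  let J : Subgroup X := zpowers (f0 * f0)
  have hJφ : ∀ v, j0 v → (φ v : X) ∈ J := by
    rintro v (rfl | rfl)
    · rw [hφ0]; exact one_mem _
    · have : φ ![2, 0, 0] = e 0 * e 0 := by
        rw [show (![2, 0, 0] : V4) = Pi.single 0 1 + Pi.single 0 1 by decide, hφadd, hφe]
      rw [this]
      exact mem_zpowers _
  have hJW : J ≤ W := zpowers_le.2 (hsq f0 hf0)
  have hJ2 : Nat.card J ≤ 2 := by
    rw [Nat.card_zpowers]
    exact orderOf_le_of_pow_eq_one (by norm_num) (by rw [pow_two]; exact hWe _ (hsq f0 hf0))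
  have hJc : ∀ x : X, fr.ρ x *ᵥ ![1, 0, 0] = ![1, 0, 0] → ∀ j ∈ J, x * j = j * x := by
    intro x hx j hj
    obtain ⟨i, rfl⟩ := mem_zpowers_iff.1 hj
    refine (Commute.zpow_right ?_ i : Commute x _)
    have hw : f0⁻¹ * (x * f0 * x⁻¹) ∈ W := (fr.co_eq hf0 (hconj x f0 hf0)).1 (by
      rw [fr.co_conj x f0 hf0, hcf0, hx])
    have h2 : x * (f0 * f0) * x⁻¹ = f0 * f0 := by
      rw [show x * (f0 * f0) * x⁻¹ = (f0 * (f0⁻¹ * (x * f0 * x⁻¹))) * (f0 * (f0⁻¹ * (x * f0 * x⁻¹))) by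
        group, show ∀ u w : X, f0 * u * (f0 * w) = f0 * (u * f0) * w from fun u w => by group,
        hc _ (hWF hw) f0 hf0, show ∀ w : X, f0 * (f0 * w) * w = f0 * f0 * (w * w) from fun w => by
          group, hWe _ hw, mul_one]
    show x * (f0 * f0) = f0 * f0 * x
    rw [← mul_inv_eq_iff_eq_mul, h2]
  let Good : X → Prop := fun t => fr.ρ t *ᵥ ![1, 0, 0] = ![1, 0, 0] ∧ t * t ∈ J ∧
    (∀ q ∈ F, fr.ρ t *ᵥ fr.co q = fr.co q → q * t * (q * t) ∈ J) ∧
    (∀ f ∈ F, fr.co f = ![1, 0, 0] → t * f * t⁻¹ * f⁻¹ ∈ J) ∧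
    (∀ w ∈ W, t * w * t⁻¹ * w⁻¹ ∈ J)
  obtain ⟨ta, hta, htaρ⟩ : ∃ t, Good t ∧ fr.ρ t = aMat := by
    obtain ⟨s, hs⟩ := hφsurj _ hz4F
    have hfix : zMat a b c *ᵥ s = s := by
      rw [← hzM]
      refine hφinj (Subtype.ext ?_)
      rw [hact, hs]
      group
    obtain ⟨q, hq'⟩ := hs1 s hfix
    refine ⟨φ q * (z * z), ?_, by
      rw [map_mul, (fr.ker _).2 (φ q).2, one_mul, map_mul, hz]; rfl⟩
    have hΘa : Θ (φ q * (z * z)) = zMat a b c * zMat a b c := by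
      rw [hΘmul, hΘF _ (φ q).2, one_mul, hΘmul, hzM]
    have hρa : fr.ρ (φ q * (z * z)) = aMat := by
      rw [map_mul, (fr.ker _).2 (φ q).2, one_mul, map_mul, hz]; rfl
    set t := (φ q : X) * (z * z) with htd
    have htt : t * t = φ (q + (zMat a b c * zMat a b c) *ᵥ q + s) := by
      rw [hφadd, hφadd]
      push_cast
      rw [hs, show (φ ((zMat a b c * zMat a b c) *ᵥ q) : X) = (z * z) * φ q * (z * z)⁻¹ by
        rw [← hact, hΘmul, hzM]]
      rw [htd]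
      simp only [pow_succ, pow_zero, one_mul, _root_.mul_inv_rev, mul_assoc, inv_mul_cancel_left]
    have hsplit : ∀ q' : X, q' * t * (q' * t) = q' * (t * q' * t⁻¹) * (t * t) := fun q' => by group
    refine ⟨by rw [hρa, ha0], htt ▸ hJφ _ hq', fun p hp hfx => ?_, fun f hf hcf => ?_, fun w hw => ?_⟩
    · obtain ⟨v, rfl⟩ := hφsurj p hp
      rw [hsplit, ← hact, hΘa, ← Subgroup.coe_mul, ← hφadd]
      refine mul_mem (hJφ _ (hq v ?_)) (htt ▸ hJφ _ hq')
      have h2 := planes.1 (red ∘ v) (by rw [← hcoφ]; rw [hρa] at hfx; exact hfx)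
      exact h2
    · obtain ⟨v, rfl⟩ := hφsurj f hf
      rw [← hact, hΘa, ← Subgroup.coe_inv, ← Subgroup.coe_mul]
      have hinv : ∀ u v : V4, φ u * (φ v)⁻¹ = φ (u - v) := fun u v => by
        rw [mul_inv_eq_iff_eq_mul, ← hφadd, sub_add_cancel]
      rw [hinv]
      have hv : red ∘ v = red ∘ (![1, 0, 0] : V4) := by
        rw [← hcoφ]; exact hcf.trans (by decide)
      obtain ⟨u, rfl⟩ := red_facts.2.2.1 _ _ hv
      refine hJφ _ ?_
      rw [mulVec_add, add_sub_add_comm]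
      exact j0_add _ _ he0 (hev u)
    · obtain ⟨u, rfl⟩ := hWsurj w hw
      rw [← hact, hΘa, ← Subgroup.coe_inv, ← Subgroup.coe_mul]
      have hinv : ∀ u v : V4, φ u * (φ v)⁻¹ = φ (u - v) := fun u v => by
        rw [mul_inv_eq_iff_eq_mul, ← hφadd, sub_add_cancel]
      rw [hinv]
      exact hJφ _ (hev u)
  have hgood : ∀ (h t : X), fr.ρ h *ᵥ ![1, 0, 0] = ![1, 0, 0] → Good t → Good (h * t * h⁻¹) := by
    intro h t hh ⟨g1, g2, g3, g4, g5⟩
    have hh' : fr.ρ h⁻¹ *ᵥ ![1, 0, 0] = ![1, 0, 0] := by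
      conv_lhs => rw [← hh, mulVec_mulVec, ← map_mul, inv_mul_cancel, map_one, one_mulVec]
    have hcj : ∀ j ∈ J, h * j * h⁻¹ = j := fun j hj => by
      rw [hJc h hh j hj, mul_inv_cancel_right]
    have hback : ∀ y : X, h⁻¹ * y * h ∈ J → y ∈ J := fun y hy => by
      have := hcj _ hy
      rw [show h * (h⁻¹ * y * h) * h⁻¹ = y by group] at this
      rw [this]; exact hy
    refine ⟨by rw [map_mul, map_mul, ← mulVec_mulVec, ← mulVec_mulVec, hh', g1, hh],
      hback _ (by convert g2 using 1; group), fun q hq hfx => hback _ ?_,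
      fun f hf hcf => hback _ ?_, fun w hw => hback _ ?_⟩
    · have h1 : h⁻¹ * q * h ∈ F := by simpa using hconj h⁻¹ q hq
      have h2 : fr.co (h⁻¹ * q * h) = fr.ρ h⁻¹ *ᵥ fr.co q := by
        simpa using fr.co_conj h⁻¹ q hq
      have := g3 _ h1 (by
        rw [h2]
        conv_rhs => rw [← hfx, map_mul, map_mul, mulVec_mulVec, ← mul_assoc, ← mul_assoc, ← map_mul,
          inv_mul_cancel, map_one, one_mul, ← mulVec_mulVec])
      convert this using 1
      group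
    · have h1 : h⁻¹ * f * h ∈ F := by simpa using hconj h⁻¹ f hf
      have := g4 _ h1 (by
        have := fr.co_conj h⁻¹ f hf
        simp only [inv_inv] at this
        rw [this, hcf, hh'])
      convert this using 1
      group
    · have h1 : h⁻¹ * w * h ∈ W := by
        obtain ⟨u, rfl⟩ := hWsurj w hw
        have h3 : h⁻¹ * (φ (u + u) : X) * h = (φ (Θ h⁻¹ *ᵥ u + Θ h⁻¹ *ᵥ u) : X) := by
          rw [← mulVec_add, hact]; group
        rw [h3, hφadd]
        exact hsq _ (φ _).2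
      have := g5 _ h1
      convert this using 1
      group
  have hg' : fr.ρ g *ᵥ ![1, 0, 0] = ![1, 0, 0] := by rw [hg, hg0]
  have hg2 : fr.ρ g⁻¹ = threeMat * threeMat := by
    calc fr.ρ g⁻¹ = fr.ρ g⁻¹ * threeMat ^ 3 := by rw [h3pow, mul_one]
      _ = fr.ρ g⁻¹ * fr.ρ g * (threeMat * threeMat) := by rw [hg]; simp [pow_succ, mul_assoc]
      _ = _ := by rw [← map_mul, inv_mul_cancel, map_one, one_mul]
  set tb := g * ta * g⁻¹ with htbd
  have htb : Good tb := hgood g ta hg' hta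
  have htbρ : fr.ρ tb = bMat := by rw [htbd, map_mul, map_mul, hg, htaρ, hg2]; rfl
  set tc := g * tb * g⁻¹ with htcd
  have htc : Good tc := hgood g tb hg' htb
  have htcρ : fr.ρ tc = aMat * bMat := by
    rw [htcd, map_mul, map_mul, hg, htbρ, hg2, ← hgb, pow_two]
  -- adjust the lifts
  have hk : tc * (ta * tb)⁻¹ ∈ F := (fr.ker _).1 (by
    calc fr.ρ (tc * (ta * tb)⁻¹) = fr.ρ (ta * tb) * fr.ρ (ta * tb)⁻¹ := by
          rw [map_mul, htcρ, map_mul fr.ρ ta tb, htaρ, htbρ]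
      _ = 1 := by rw [← map_mul, mul_inv_cancel, map_one])
  set k := tc * (ta * tb)⁻¹ with hkd
  obtain ⟨u, hub, hua⟩ := planes.2 (fr.co k)
  obtain ⟨qb, hqb, hcqb⟩ := fr.co_surj u
  have hqbF : ta * qb * ta⁻¹ ∈ F := hconj ta qb hqb
  set qa := k * (ta * qb * ta⁻¹)⁻¹ with hqad
  have hqa : qa ∈ F := mul_mem hk (inv_mem hqbF)
  have hA : qa * ta * (qa * ta) ∈ J := hta.2.2.1 qa hqa (by
    rw [hqad, fr.co_mul _ hk _ (inv_mem hqbF), fr.co_inv hqbF, fr.co_conj ta qb hqb, hcqb, htaρ]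
    exact hua)
  have hB : qb * tb * (qb * tb) ∈ J := htb.2.2.1 qb hqb (by rw [hcqb, htbρ]; exact hub)
  have hAB : qa * ta * (qb * tb) * (qa * ta * (qb * tb)) ∈ J := by
    rw [show qa * ta * (qb * tb) = tc by rw [hqad, hkd]; group]
    exact htc.2.1
  -- the section
  set A₁ := qa * ta with hA₁
  set B₁ := qb * tb with hB₁
  have hρA : fr.ρ A₁ = aMat := by rw [hA₁, map_mul, (fr.ker _).2 hqa, one_mul, htaρ]
  have hρB : fr.ρ B₁ = bMat := by rw [hB₁, map_mul, (fr.ker _).2 hqb, one_mul, htbρ]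
  let S : Set X := {f0, f1 * f1, f2 * f2, A₁, B₁}
  have hJcS : ∀ s ∈ S, ∀ j ∈ J, s * j = j * s := by
    intro s hs j hj
    rcases hs with rfl | rfl | rfl | rfl | rfl
    · exact hc _ hf0 _ (hWF (hJW hj))
    · exact hc _ (mul_mem hf1 hf1) _ (hWF (hJW hj))
    · exact hc _ (mul_mem hf2 hf2) _ (hWF (hJW hj))
    · exact hJc _ (by rw [hρA, ha0]) j hj
    · exact hJc _ (by rw [hρB, hb0]) j hj
  have hFF : ∀ a ∈ F, ∀ b ∈ F, a⁻¹ * b⁻¹ * a * b = 1 := fun a ha b hb => by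
    rw [mul_assoc, hc a ha b hb]; group
  have htf : ∀ t q : X, Good t → q ∈ F → ∀ f ∈ F, (fr.co f = ![1, 0, 0] ∨ f ∈ W) →
      (q * t)⁻¹ * f⁻¹ * (q * t) * f ∈ J ∧ f⁻¹ * (q * t)⁻¹ * f * (q * t) ∈ J := by
    intro t q ht hq f hf hcase
    have h1 : t * f * t⁻¹ * f⁻¹ ∈ J := by
      rcases hcase with h | h
      · exact ht.2.2.2.1 f hf h
      · exact ht.2.2.2.2 f h
    have h2 : q * t * f * (q * t)⁻¹ * f⁻¹ = t * f * t⁻¹ * f⁻¹ := by
      rw [show q * t * f * (q * t)⁻¹ = q * (t * f * t⁻¹) * q⁻¹ by group, hc q hq _ (hconj t f hf),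
        mul_inv_cancel_right]
    rw [← h2] at h1
    set T := q * t with hTd
    have hTJ : ∀ j ∈ J, T * j * T⁻¹ = j := fun j hj => by
      rw [hJc T (by rw [hTd, map_mul, (fr.ker _).2 hq, one_mul]; exact ht.1) j hj,
        mul_inv_cancel_right]
    have h3 : ∀ j ∈ J, T⁻¹ * j * T = j := fun j hj => by
      conv_lhs => rw [← hTJ j hj]
      group
    have h4' : f⁻¹ * T⁻¹ * f * T = f⁻¹ * (T⁻¹ * (T * f * T⁻¹ * f⁻¹)⁻¹ * T) * f := by group
    have h5 : f⁻¹ * T⁻¹ * f * T ∈ J := by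
      rw [h4', h3 _ (inv_mem h1), hc _ (inv_mem hf) _ (hWF (hJW (inv_mem h1))), inv_mul_cancel_right]
      exact inv_mem h1
    refine ⟨?_, h5⟩
    rw [show T⁻¹ * f⁻¹ * T * f = (f⁻¹ * T⁻¹ * f * T)⁻¹ by group]
    exact inv_mem h5
  have hW1 : f1 * f1 ∈ W := hsq f1 hf1
  have hW2 : f2 * f2 ∈ W := hsq f2 hf2
  have hAB' : A₁⁻¹ * B₁⁻¹ * A₁ * B₁ ∈ J := by
    have e : A₁⁻¹ * B₁⁻¹ * A₁ * B₁ = (A₁ * A₁)⁻¹ * (A₁ * (B₁ * B₁)⁻¹ * (B₁ * A₁ * B₁)) := by group
    rw [e, hJcS A₁ (by simp [S]) _ (inv_mem hB), show (B₁ * B₁)⁻¹ * A₁ * (B₁ * A₁ * B₁) =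
      (B₁ * B₁)⁻¹ * (A₁ * B₁ * (A₁ * B₁)) by group]
    exact mul_mem (inv_mem hA) (mul_mem (inv_mem hB) hAB)
  refine not_sectional_of_gens (k := 4) S J ?_ hJcS ?_ ?_ ?_
  · exact zpowers_le.2 (mul_mem (subset_closure (by simp [S])) (subset_closure (by simp [S])))
  · intro x hx y hy
    have hsame : ∀ x : X, x⁻¹ * x⁻¹ * x * x = 1 := fun x => by group
    rcases hx with rfl | rfl | rfl | rfl | rfl <;> rcases hy with rfl | rfl | rfl | rfl | rfl <;>
      first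
        | (rw [hsame]; exact one_mem _)
        | (rw [hFF _ (by first | exact hf0 | exact mul_mem hf1 hf1 | exact mul_mem hf2 hf2) _
            (by first | exact hf0 | exact mul_mem hf1 hf1 | exact mul_mem hf2 hf2)]; exact one_mem _)
        | exact hAB'
        | (rw [show B₁⁻¹ * A₁⁻¹ * B₁ * A₁ = (A₁⁻¹ * B₁⁻¹ * A₁ * B₁)⁻¹ by group]; exact inv_mem hAB')
        | exact (htf ta qa hta hqa f0 hf0 (Or.inl hcf0)).1
        | exact (htf ta qa hta hqa f0 hf0 (Or.inl hcf0)).2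
        | exact (htf ta qa hta hqa _ (hWF hW1) (Or.inr hW1)).1
        | exact (htf ta qa hta hqa _ (hWF hW1) (Or.inr hW1)).2
        | exact (htf ta qa hta hqa _ (hWF hW2) (Or.inr hW2)).1
        | exact (htf ta qa hta hqa _ (hWF hW2) (Or.inr hW2)).2
        | exact (htf tb qb htb hqb f0 hf0 (Or.inl hcf0)).1
        | exact (htf tb qb htb hqb f0 hf0 (Or.inl hcf0)).2
        | exact (htf tb qb htb hqb _ (hWF hW1) (Or.inr hW1)).1
        | exact (htf tb qb htb hqb _ (hWF hW1) (Or.inr hW1)).2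
        | exact (htf tb qb htb hqb _ (hWF hW2) (Or.inr hW2)).1
        | exact (htf tb qb htb hqb _ (hWF hW2) (Or.inr hW2)).2
  · intro x hx
    rcases hx with rfl | rfl | rfl | rfl | rfl
    · exact mem_zpowers _
    · rw [hWe _ hW1]; exact one_mem _
    · rw [hWe _ hW2]; exact one_mem _
    · exact hA
    · exact hB
  · let G : (Fin 4 × Fin 2 × Fin 2) × (Fin 2 × Fin 2) → closure S := fun p =>
      ⟨f0 ^ (p.1.1 : ℕ) * (f1 * f1) ^ (p.1.2.1 : ℕ) * (f2 * f2) ^ (p.1.2.2 : ℕ) *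
        (A₁ ^ (p.2.1 : ℕ) * B₁ ^ (p.2.2 : ℕ)),
        mul_mem (mul_mem (mul_mem (pow_mem (subset_closure (by simp [S])) _)
          (pow_mem (subset_closure (by simp [S])) _)) (pow_mem (subset_closure (by simp [S])) _))
          (mul_mem (pow_mem (subset_closure (by simp [S])) _) (pow_mem (subset_closure (by simp [S])) _))⟩
    have hG : Function.Injective G := by
      rintro ⟨⟨i, j, l⟩, m, n⟩ ⟨⟨i', j', l'⟩, m', n'⟩ h
      have h1 : f0 ^ (i : ℕ) * (f1 * f1) ^ (j : ℕ) * (f2 * f2) ^ (l : ℕ) * (A₁ ^ (m : ℕ) * B₁ ^ (n : ℕ)) =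
          f0 ^ (i' : ℕ) * (f1 * f1) ^ (j' : ℕ) * (f2 * f2) ^ (l' : ℕ) * (A₁ ^ (m' : ℕ) * B₁ ^ (n' : ℕ)) :=
        congrArg Subtype.val h
      have hρF : ∀ x ∈ F, fr.ρ x = 1 := fun x hx => (fr.ker x).2 hx
      have h2 := congrArg fr.ρ h1
      rw [map_mul, map_mul _ _ (A₁ ^ (m' : ℕ) * B₁ ^ (n' : ℕ))] at h2
      rw [hρF _ (mul_mem (mul_mem (pow_mem hf0 _) (pow_mem (mul_mem hf1 hf1) _))
          (pow_mem (mul_mem hf2 hf2) _)),
        hρF _ (mul_mem (mul_mem (pow_mem hf0 _) (pow_mem (mul_mem hf1 hf1) _))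
          (pow_mem (mul_mem hf2 hf2) _)), one_mul, one_mul, map_mul, map_mul, map_pow, map_pow, map_pow,
        map_pow, hρA, hρB] at h2
      obtain ⟨rfl, rfl⟩ := red_facts.2.2.2 m n m' n' h2
      have h3 := mul_right_cancel h1
      have hval : ∀ (i : Fin 4) (j l : Fin 2),
          (φ ![((i : ℕ) : ZMod 4), (2 * (j : ℕ) : ℕ), (2 * (l : ℕ) : ℕ)] : X) =
            f0 ^ (i : ℕ) * (f1 * f1) ^ (j : ℕ) * (f2 * f2) ^ (l : ℕ) := by
        intro i j l
        have hv : ∀ n : Fin 4, (((n : ℕ) : ZMod 4)).val = n := fun n => ZMod.val_natCast_of_lt n.2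
        have hv2 : ∀ n : Fin 2, (((2 * (n : ℕ) : ℕ)) : ZMod 4).val = 2 * n := fun n =>
          ZMod.val_natCast_of_lt (by omega)
        simp only [φ, Fin.prod_univ_three]
        show (((e 0) ^ ((i : ℕ) : ZMod 4).val * (e 1) ^ (((2 * (j : ℕ) : ℕ)) : ZMod 4).val *
          (e 2) ^ (((2 * (l : ℕ) : ℕ)) : ZMod 4).val : F) : X) = _
        rw [hv, hv2, hv2, pow_mul, pow_mul]
        push_cast
        rw [pow_two, pow_two]
        rfl
      rw [← hval, ← hval] at h3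
      have h4' := hφinj (Subtype.ext h3)
      have key : ∀ (i i' : Fin 4) (j l j' l' : Fin 2),
          (![((i : ℕ) : ZMod 4), (2 * (j : ℕ) : ℕ), (2 * (l : ℕ) : ℕ)] : V4) =
            ![((i' : ℕ) : ZMod 4), (2 * (j' : ℕ) : ℕ), (2 * (l' : ℕ) : ℕ)] → i = i' ∧ j = j' ∧ l = l' := by
        decide +kernel
      obtain ⟨rfl, rfl, rfl⟩ := key _ _ _ _ _ _ h4'
      rfl
    have h64 := Nat.card_le_card_of_injective G hG
    simp [Nat.card_prod] at h64
    calc 2 ^ 4 * Nat.card J ≤ 2 ^ 4 * 2 := Nat.mul_le_mul_left _ hJ2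
      _ < 64 := by norm_num
      _ ≤ _ := h64

end CfsgLib.RankFourQuotient.LThree
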