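import Cfsg.Agent.Lib.TwoGroups.RankFourQuotient.SymSixFrame

/-!
Owner: helper12. A faithful action of `S₆` on a group of order at most sixteen: the fifteen
non-trivial elements form a class of transpositions.
-/

set_option autoImplicit false
set_option maxHeartbeats 400000

namespace CfsgLib.RankFourQuotient

open Subgroup MulAction

variable {V : Type*} [Group V] [Finite V] (ρ : Equiv.Perm (Fin 6) →* MulAut V)

theorem orderOf_fiveSix : orderOf (c[0, 1, 2, 3, 4] : Equiv.Perm (Fin 6)) = 5 := by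
  haveI : Fact (Nat.Prime 5) := ⟨by norm_num⟩
  refine orderOf_eq_prime ?_ ?_ <;> decide +kernel

theorem five_fixed (hρ : Function.Injective ρ) (hV : IsPGroup 2 V) (hle : Nat.card V ≤ 16)
    {y : Equiv.Perm (Fin 6)} (hy : orderOf y = 5) :
    Nat.card V = 16 ∧ ∀ v : V, ρ y v = v → v = 1 := by
  haveI : Fact (Nat.Prime 5) := ⟨by norm_num⟩
  let F : Subgroup V :=
    { carrier := {v | ρ y v = v}
      one_mem' := map_one _
      mul_mem' := fun {a b} ha hb => by
        show ρ y (a * b) = a * b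
        rw [map_mul, ha, hb]
      inv_mem' := fun {a} ha => by
        show ρ y a⁻¹ = a⁻¹
        rw [map_inv, ha] }
  letI : MulAction (zpowers y) V := MulAction.compHom V (ρ.comp (zpowers y).subtype)
  have hP : IsPGroup 5 (zpowers y) := IsPGroup.of_card (n := 1) (by rw [Nat.card_zpowers, hy, pow_one])
  have hmod := hP.card_modEq_card_fixedPoints V
  have hFset : (MulAction.fixedPoints (zpowers y) V : Set V) = (F : Set V) := by
    ext v
    refine ⟨fun h => h ⟨y, mem_zpowers y⟩, ?_⟩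
    intro h
    rintro ⟨a, ha⟩
    have hy' : y ∈ (MulAction.stabilizer (MulAut V) v).comap ρ := h
    exact zpowers_le.2 hy' ha
  rw [show Nat.card (MulAction.fixedPoints (zpowers y) V) = Nat.card F from
    Nat.card_congr (Equiv.setCongr hFset)] at hmod
  have hFne : Nat.card F ≠ Nat.card V := fun h => by
    have htop := Subgroup.eq_top_of_card_eq F h
    have h1 : y = 1 := hρ (by
      rw [map_one]
      exact MulEquiv.ext fun v => htop.ge (mem_top v))
    rw [h1, orderOf_one] at hy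
    omega
  obtain ⟨n, hn⟩ := hV.exists_card_eq
  obtain ⟨j, hj, hjc⟩ := (Nat.dvd_prime_pow Nat.prime_two).1 (hn ▸ Subgroup.card_subgroup_dvd_card F)
  have hn4 : n ≤ 4 := by
    by_contra hlt
    have h5 : 2 ^ 5 ≤ 2 ^ n := Nat.pow_le_pow_right (by norm_num) (by omega)
    omega
  have hkey : n = 4 ∧ j = 0 := by
    rw [hn, hjc] at hmod hFne
    unfold Nat.ModEq at hmod
    interval_cases n <;> interval_cases j <;> first | exact ⟨rfl, rfl⟩ | (exact absurd rfl hFne) | (norm_num at hmod)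
  refine ⟨by rw [hn, hkey.1]; norm_num, fun v hv => ?_⟩
  have hbot : F = ⊥ := Subgroup.card_eq_one.1 (by rw [hjc, hkey.2, pow_zero])
  exact mem_bot.1 (hbot ▸ (show v ∈ F from hv))

/-- A frame, a vector, and the dictionary between fixed vectors and commuting transpositions. -/
structure Dictionary (s d : Equiv.Perm (Fin 6)) (k : Fin 3 → Equiv.Perm (Fin 6)) (v₀ : V) :
    Prop where
  frame : Frame s d k
  ne_one : v₀ ≠ 1
  transitive : ∀ v : V, v ≠ 1 → ∃ g, ρ g v₀ = v
  fixed : ∀ a g, ρ a (ρ g v₀) = ρ g v₀ ↔ a * (g * s * g⁻¹) = (g * s * g⁻¹) * a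
  card : Nat.card V = 16

theorem exists_dictionary (hρ : Function.Injective ρ) (hV : IsPGroup 2 V)
    (hle : Nat.card V ≤ 16) : ∃ s d k v₀, Dictionary ρ s d k v₀ := by
  classical
  haveI : Fact (Nat.Prime 5) := ⟨by norm_num⟩
  haveI : Fact (Nat.Prime 2) := ⟨by norm_num⟩
  haveI : Fact (Nat.Prime 3) := ⟨by norm_num⟩
  obtain ⟨h16, -⟩ := five_fixed ρ hρ hV hle orderOf_fiveSix
  letI : MulAction (Equiv.Perm (Fin 6)) V := MulAction.compHom V ρ
  have hG : Nat.card (Equiv.Perm (Fin 6)) = 720 := by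
    rw [Nat.card_perm, Nat.card_fin]; rfl
  have hfix : ∀ (g : Equiv.Perm (Fin 6)) (v : V), g • v = ρ g v := fun _ _ => rfl
  have hmul : ∀ v : V, Nat.card (orbit (Equiv.Perm (Fin 6)) v) *
      Nat.card (stabilizer (Equiv.Perm (Fin 6)) v) = 720 := fun v => by
    have h := (stabilizer (Equiv.Perm (Fin 6)) v).index_mul_card
    rw [hG, MulAction.index_stabilizer, ← Nat.card_coe_set_eq] at h
    exact h
  have h5st : ∀ v : V, v ≠ 1 → ¬ 5 ∣ Nat.card (stabilizer (Equiv.Perm (Fin 6)) v) := by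
    intro v hv h
    obtain ⟨y, hy⟩ := exists_prime_orderOf_dvd_card' 5 h
    exact hv ((five_fixed ρ hρ hV hle (by rw [Subgroup.orderOf_coe, hy])).2 v y.2)
  have hsub : ∀ v : V, v ≠ 1 → orbit (Equiv.Perm (Fin 6)) v ⊆ {w : V | w ≠ 1} := by
    rintro v hv _ ⟨g, rfl⟩ hw
    exact hv ((ρ g).injective (hw.trans (map_one (ρ g)).symm))
  have h15 : Nat.card {w : V | w ≠ 1} = 15 := by
    have h := Set.ncard_add_ncard_compl ({1} : Set V)
    rw [Set.ncard_singleton, h16] at h
    rw [Nat.card_coe_set_eq, show {w : V | w ≠ 1} = ({1} : Set V)ᶜ from rfl]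
    omega
  -- no orbit of five points
  have hfive : ∀ v : V, v ≠ 1 → Nat.card (orbit (Equiv.Perm (Fin 6)) v) ≠ 5 := by
    intro v hv hO
    set O := orbit (Equiv.Perm (Fin 6)) v
    haveI : IsSimpleGroup (alternatingGroup (Fin 6)) :=
      alternatingGroup.isSimpleGroup (by simp)
    set f := (MulAction.toPermHom (Equiv.Perm (Fin 6)) O).comp
      (alternatingGroup (Fin 6)).subtype
    rcases (inferInstance : f.ker.Normal).eq_bot_or_eq_top with h | h
    · have hle' := Nat.card_le_card_of_injective f ((MonoidHom.ker_eq_bot_iff f).1 h)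
      rw [Nat.card_perm, hO, nat_card_alternatingGroup, Nat.card_fin] at hle'
      exact absurd hle' (by decide)
    · have hy : (c[0, 1, 2, 3, 4] : Equiv.Perm (Fin 6)) ∈ alternatingGroup (Fin 6) := by
        show Equiv.Perm.sign _ = 1
        decide +kernel
      have h1 := DFunLike.congr_fun (MonoidHom.mem_ker.1 (h.ge (mem_top
        (⟨_, hy⟩ : alternatingGroup (Fin 6))))) ⟨v, mem_orbit_self v⟩
      exact hv ((five_fixed ρ hρ hV hle orderOf_fiveSix).2 v (congrArg Subtype.val h1 :))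
  have h5O : ∀ v : V, v ≠ 1 → 5 ∣ Nat.card (orbit (Equiv.Perm (Fin 6)) v) := fun v hv =>
    (Nat.Prime.dvd_mul Nat.prime_five).1 (hmul v ▸ (by norm_num : 5 ∣ 720))
      |>.resolve_right (h5st v hv)
  have hO15 : ∀ v : V, v ≠ 1 → orbit (Equiv.Perm (Fin 6)) v = {w : V | w ≠ 1} := by
    intro v hv
    refine Set.eq_of_subset_of_ncard_le (hsub v hv) ?_ (Set.toFinite _)
    rw [← Nat.card_coe_set_eq, ← Nat.card_coe_set_eq, h15]
    by_contra hlt
    obtain ⟨m, hm⟩ := h5O v hv
    have hpos : 0 < Nat.card (orbit (Equiv.Perm (Fin 6)) v) :=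
      Nat.card_pos_iff.2 ⟨⟨⟨v, mem_orbit_self v⟩⟩, inferInstance⟩
    have hm2 : m = 2 := by
      have hne := hfive v hv
      omega
    obtain ⟨w, hw, hwO⟩ : ∃ w ∈ {w : V | w ≠ 1}, w ∉ orbit (Equiv.Perm (Fin 6)) v := by
      by_contra hcon
      push Not at hcon
      have h := Set.ncard_le_ncard (show {w : V | w ≠ 1} ⊆ orbit (Equiv.Perm (Fin 6)) v from hcon)
      rw [← Nat.card_coe_set_eq, ← Nat.card_coe_set_eq, h15] at h
      omega
    have hdisj : Disjoint (orbit (Equiv.Perm (Fin 6)) v) (orbit (Equiv.Perm (Fin 6)) w) := by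
      rw [Set.disjoint_left]
      intro z hz hz'
      exact hwO ((orbit_eq_iff.2 hz).symm.trans (orbit_eq_iff.2 hz') ▸ mem_orbit_self w)
    have hu := Set.ncard_le_ncard (Set.union_subset (hsub v hv) (hsub w hw))
    rw [Set.ncard_union_eq hdisj, ← Nat.card_coe_set_eq, ← Nat.card_coe_set_eq,
      ← Nat.card_coe_set_eq, h15] at hu
    obtain ⟨m', hm'⟩ := h5O w hw
    have hne' := hfive w hw
    have hpos' : 0 < Nat.card (orbit (Equiv.Perm (Fin 6)) w) :=
      Nat.card_pos_iff.2 ⟨⟨⟨w, mem_orbit_self w⟩⟩, inferInstance⟩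
    omega
  obtain ⟨v, hv⟩ : ∃ v : V, v ≠ 1 := by
    haveI : Nontrivial V := Finite.one_lt_card_iff_nontrivial.1 (by omega)
    exact exists_ne 1
  have hH48 : ∀ u : V, u ≠ 1 → Nat.card (stabilizer (Equiv.Perm (Fin 6)) u) = 48 := by
    intro u hu
    have h := hmul u
    rw [hO15 u hu, h15] at h
    omega
  -- the standard Sylow subgroup fixes a vector
  let S₂ : Subgroup (Equiv.Perm (Fin 6)) := centralizer {shortInv} ⊓ centralizer {longInv}
  have hmemS : ∀ g, g ∈ S₂ ↔ InSylowSix g := fun g => by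
    simp [S₂, InSylowSix, mem_centralizer_singleton_iff]
  have hS16 : Nat.card S₂ = 16 := by
    rw [← card_inSylowSix, ← Fintype.card_subtype]
    rw [Nat.card_eq_fintype_card]
    exact Fintype.card_congr (Equiv.subtypeEquivRight hmemS)
  have hfac : (Nat.card (Equiv.Perm (Fin 6))).factorization 2 = 4 := by
    rw [hG, show (720 : ℕ) = 2 ^ 4 * 45 by norm_num, Nat.factorization_mul (by norm_num) (by norm_num),
      Finsupp.add_apply, Nat.Prime.factorization_pow Nat.prime_two, Finsupp.single_eq_same,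
      Nat.factorization_eq_zero_of_not_dvd (by norm_num)]
  let Q : Sylow 2 (Equiv.Perm (Fin 6)) := Sylow.ofCard S₂ (by rw [hS16, hfac]; norm_num)
  obtain ⟨P₀, hP₀⟩ : ∃ P₀ : Sylow 2 (Equiv.Perm (Fin 6)),
      (P₀ : Subgroup (Equiv.Perm (Fin 6))) ≤ stabilizer (Equiv.Perm (Fin 6)) v := by
    obtain ⟨T, hT⟩ := Sylow.exists_subgroup_card_pow_prime (G := stabilizer (Equiv.Perm (Fin 6)) v) 2
      (n := 4) (by rw [hH48 v hv]; norm_num)
    have hT' : Nat.card (T.map (stabilizer (Equiv.Perm (Fin 6)) v).subtype) = 2 ^ 4 := by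
      rw [card_map_of_injective (Subgroup.subtype_injective _), hT]
    exact ⟨Sylow.ofCard (T.map _) (by rw [hT', hfac]), map_subtype_le _⟩
  obtain ⟨g, hg⟩ := MulAction.exists_smul_eq (Equiv.Perm (Fin 6)) P₀ Q
  set v₀ := g • v with hv₀
  have hv₀1 : v₀ ≠ 1 := hsub v hv ⟨g, rfl⟩
  have hSH : S₂ ≤ stabilizer (Equiv.Perm (Fin 6)) v₀ := by
    intro x hx
    have hx' : x ∈ ((g • P₀ : Sylow 2 (Equiv.Perm (Fin 6))) : Subgroup (Equiv.Perm (Fin 6))) := by
      rw [hg]; exact hx
    rw [Sylow.coe_subgroup_smul] at hx'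
    obtain ⟨w, hw, rfl⟩ := hx'
    show (g * w * g⁻¹) • g • v = g • v
    rw [smul_smul, inv_mul_cancel_right, mul_smul, show w • v = v from hP₀ hw]
  set H := stabilizer (Equiv.Perm (Fin 6)) v₀ with hHdef
  have hH : Nat.card H = 48 := hH48 v₀ hv₀1
  obtain ⟨y, hy⟩ := exists_prime_orderOf_dvd_card' (G := H) 3 (by rw [hH]; norm_num)
  set S' : Subgroup H := S₂.subgroupOf H
  have hS'c : Nat.card S' = 16 := by
    rw [Nat.card_congr (subgroupOfEquivOfLe hSH).toEquiv, hS16]
  set K := S'.normalCore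
  have hK8 : 8 ≤ Nat.card K := by
    have hidx : S'.index = 3 := by
      have h := S'.index_mul_card
      rw [hH, hS'c] at h
      omega
    let f : H →* Equiv.Perm (H ⧸ S') := MulAction.toPermHom H (H ⧸ S')
    have hker : f.ker = K := (Subgroup.normalCore_eq_ker S').symm
    have h := Nat.card_le_card_of_injective _ (QuotientGroup.kerLift_injective f)
    rw [Nat.card_perm, show Nat.card (H ⧸ S') = 3 from hidx, hker] at h
    have h' := K.index_mul_card
    rw [Subgroup.index, hH] at h'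
    have h6 : (3 : ℕ).factorial = 6 := rfl
    nlinarith
  set y' : Equiv.Perm (Fin 6) := (y : Equiv.Perm (Fin 6))
  have hy' : orderOf y' = 3 := by rw [Subgroup.orderOf_coe, hy]
  have hy3 : y' * (y' * y') = 1 := by
    have h := pow_orderOf_eq_one y'
    rw [hy', pow_succ, pow_two] at h
    rw [← mul_assoc]; exact h
  have hcount : 8 ≤ (Finset.univ.filter fun g : Equiv.Perm (Fin 6) =>
      InSylowSix g ∧ InSylowSix (y' * g * y'⁻¹) ∧ InSylowSix (y'⁻¹ * g * y')).card := by
    refine hK8.trans ?_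
    rw [← Fintype.card_subtype, ← Nat.card_eq_fintype_card]
    refine Nat.card_le_card_of_injective (fun x => ⟨((x : H) : Equiv.Perm (Fin 6)), ?_, ?_, ?_⟩) ?_
    · exact (hmemS _).1 (S'.normalCore_le x.2)
    · exact (hmemS _).1 (S'.normalCore_le ((Subgroup.normalCore_normal S').conj_mem _ x.2 y))
    · refine (hmemS _).1 ?_
      have h := S'.normalCore_le ((Subgroup.normalCore_normal S').conj_mem _ x.2 y⁻¹)
      rw [inv_inv] at h
      exact h
    · intro a b hab
      have h := congrArg Subtype.val hab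
      exact Subtype.ext (Subtype.ext h)
  -- a central involution of the stabiliser
  have key : ∀ (s d : Equiv.Perm (Fin 6)) (k : Fin 3 → Equiv.Perm (Fin 6)), Frame s d k →
      (∀ g, InSylowSix g → g * s = s * g) → y' * s = s * y' →
      Dictionary ρ s d k v₀ := by
    intro s d k hF hS hys
    set C := centralizer ({s} : Set (Equiv.Perm (Fin 6))) with hC
    have hC48 : Nat.card C = 48 := by
      rw [← hF.cent, ← Fintype.card_subtype, Nat.card_eq_fintype_card]
      exact Fintype.card_congr (Equiv.subtypeEquivRight fun g => mem_centralizer_singleton_iff)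
    have hHC : H ⊓ C = H := by
      refine Subgroup.eq_of_le_of_card_ge inf_le_left ?_
      rw [hH]
      refine Nat.le_of_dvd Nat.card_pos ?_
      have h3 : 3 ∣ Nat.card ↥(H ⊓ C) := by
        rw [← hy']
        exact Subgroup.orderOf_dvd_natCard _ ⟨y.2, mem_centralizer_singleton_iff.2 hys⟩
      have h16' : 16 ∣ Nat.card ↥(H ⊓ C) := hS16 ▸ Subgroup.card_dvd_of_le
        (le_inf hSH fun g hg => mem_centralizer_singleton_iff.2 (hS g ((hmemS g).1 hg)))
      have := Nat.Coprime.mul_dvd_of_dvd_of_dvd (by norm_num : Nat.Coprime 3 16) h3 h16'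
      simpa using this
    have hEq : H = C := Subgroup.eq_of_le_of_card_ge (inf_eq_left.1 hHC) (by rw [hC48, hH])
    refine ⟨hF, hv₀1, fun w hw => (hO15 v₀ hv₀1).ge hw, fun a g => ?_, h16⟩
    rw [← hfix g, ← hfix a]
    have h1 : a • g • v₀ = g • v₀ ↔ g⁻¹ * a * g ∈ H := by
      rw [hHdef, mem_stabilizer_iff, mul_smul, mul_smul, inv_smul_eq_iff]
    rw [h1, hEq, hC, mem_centralizer_singleton_iff]
    constructor <;> intro h
    · calc a * (g * s * g⁻¹) = g * ((g⁻¹ * a * g) * s) * g⁻¹ := by group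
        _ = g * (s * (g⁻¹ * a * g)) * g⁻¹ := by rw [h]
        _ = _ := by group
    · calc g⁻¹ * a * g * s = g⁻¹ * (a * (g * s * g⁻¹)) * g := by group
        _ = g⁻¹ * (g * s * g⁻¹ * a) * g := by rw [h]
        _ = _ := by group
  rcases order_three_cases y' hy3 hcount with h | h
  · exact ⟨_, _, _, _, key _ _ _ frame_short (fun g hg => hg.1) h⟩
  · exact ⟨_, _, _, _, key _ _ _ frame_long (fun g hg => hg.2) h⟩

end CfsgLib.RankFourQuotient
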