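import Cfsg.Prelude.Def_CaseTheorems
import Cfsg.Agent.Lib.Core.Coprime
import Cfsg.Agent.Lib.TwoGroups.RankFourQuotient.SymSixModule

/-!
Owner: helper12. An extension of a faithful elementary group of order sixteen by `S₆` has a section
which is elementary abelian of order at least thirty-two.
-/

set_option autoImplicit false
set_option maxHeartbeats 800000
set_option linter.style.haveILetI false

namespace CfsgLib.RankFourQuotient

open Subgroup

theorem not_sectional_symSix {Y : Type*} [Group Y] [Finite Y] (π : Y →* Equiv.Perm (Fin 6))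
    (hπ : Function.Surjective π) (hcomm : ∀ a ∈ π.ker, ∀ b ∈ π.ker, a * b = b * a)
    (hexp : ∀ a ∈ π.ker, a ^ 2 = 1) (hle : Nat.card π.ker ≤ 16)
    (hfaith : centralizer (π.ker : Set Y) ≤ π.ker) : ¬ Cfsg.SectionalPRankLE 2 4 Y := by
  classical
  haveI : Fact (Nat.Prime 2) := ⟨Nat.prime_two⟩
  let V : Subgroup Y := π.ker
  have hVn : V.Normal := MonoidHom.normal_ker π
  haveI : π.ker.Normal := MonoidHom.normal_ker π
  let c : Y →* MulAut π.ker := MulAut.conjNormal
  have hc : ∀ (y : Y) (v : π.ker), ((c y v : π.ker) : Y) = y * v * y⁻¹ := fun y v =>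
    MulAut.conjNormal_apply y v
  have hker : π.ker ≤ c.ker := fun a ha => MonoidHom.mem_ker.2 (MulEquiv.ext fun v => Subtype.ext (by
    rw [hc, MulAut.one_apply, hcomm a ha v v.2, mul_inv_cancel_right]))
  set ρ := π.liftOfSurjective hπ ⟨c, hker⟩ with hρdef
  have hρ : ∀ y, ρ (π y) = c y := fun y =>
    MonoidHom.liftOfRightInverse_comp_apply π _ _ ⟨c, hker⟩ y
  have hρi : Function.Injective ρ := by
    rw [injective_iff_map_eq_one]
    intro a ha
    obtain ⟨y, rfl⟩ := hπ a
    refine MonoidHom.mem_ker.1 (hfaith (mem_centralizer_iff.2 fun v hv => ?_))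
    rw [hρ] at ha
    have h := congrArg Subtype.val (DFunLike.congr_fun ha ⟨v, hv⟩)
    rw [hc, MulAut.one_apply] at h
    exact (mul_inv_eq_iff_eq_mul.1 h).symm
  have hVp : IsPGroup 2 π.ker := fun v => ⟨1, Subtype.ext (by
    rw [pow_one]; push_cast; exact hexp v v.2)⟩
  obtain ⟨s, d, k, v₀, hD⟩ := exists_dictionary ρ hρi hVp hle
  have hF := hD.frame
  have hact : ∀ (y : Y) (v : π.ker), y * v = v * y ↔ ρ (π y) v = v := fun y v => by
    rw [hρ, Subtype.ext_iff, hc, mul_inv_eq_iff_eq_mul]
  -- transvections and their centres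
  set t : Fin 3 → Equiv.Perm (Fin 6) := fun i => k i * s * (k i)⁻¹ with ht
  set e : Fin 3 → π.ker := fun i => ρ (k i) v₀ with he
  have hclass : ∀ g g' : Equiv.Perm (Fin 6), g * s * g⁻¹ = g' * s * g'⁻¹ →
      ρ g v₀ = ρ g' v₀ := by
    intro g g' h
    have h1 : (g'⁻¹ * g) * s = s * (g'⁻¹ * g) := by
      calc (g'⁻¹ * g) * s = g'⁻¹ * (g * s * g⁻¹) * g := by group
        _ = g'⁻¹ * (g' * s * g'⁻¹) * g := by rw [h]
        _ = _ := by group
    have h2 := (hD.fixed (g'⁻¹ * g) 1).2 (by rw [one_mul, inv_one, mul_one]; exact h1)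
    rw [map_one, MulAut.one_apply] at h2
    have h3 := congrArg (ρ g') h2
    rwa [← MulAut.mul_apply, ← map_mul, mul_inv_cancel_left] at h3
  have hte : ∀ i l, ρ (t i) (e l) = e l := fun i l => (hD.fixed (t i) (k l)).2 (hF.commute i l)
  have hcentre : ∀ i (v : π.ker), ρ (t i) v = v → ρ (k i * d * (k i)⁻¹) v = v → v = 1 ∨ v = e i := by
    intro i v h1 h2
    by_cases hv : v = 1
    · exact Or.inl hv
    obtain ⟨g, rfl⟩ := hD.transitive v hv
    refine Or.inr (hclass g (k i) ?_)
    have h1' := (hD.fixed _ g).1 h1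
    have h2' := (hD.fixed _ g).1 h2
    have e1 : s * (((k i)⁻¹ * g) * s * ((k i)⁻¹ * g)⁻¹) =
        (k i)⁻¹ * (t i * (g * s * g⁻¹)) * k i := by simp only [ht]; group
    have e2 : (((k i)⁻¹ * g) * s * ((k i)⁻¹ * g)⁻¹) * s =
        (k i)⁻¹ * ((g * s * g⁻¹) * t i) * k i := by simp only [ht]; group
    have e3 : d * (((k i)⁻¹ * g) * s * ((k i)⁻¹ * g)⁻¹) =
        (k i)⁻¹ * ((k i * d * (k i)⁻¹) * (g * s * g⁻¹)) * k i := by group
    have e4 : (((k i)⁻¹ * g) * s * ((k i)⁻¹ * g)⁻¹) * d =
        (k i)⁻¹ * ((g * s * g⁻¹) * (k i * d * (k i)⁻¹)) * k i := by group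
    have h := hF.unique ((k i)⁻¹ * g) (by rw [e1, e2, h1']) (by rw [e3, e4, h2'])
    calc g * s * g⁻¹ = k i * (((k i)⁻¹ * g) * s * ((k i)⁻¹ * g)⁻¹) * (k i)⁻¹ := by group
      _ = _ := by rw [h]
  -- lifts commuting with elements of order three
  have hlift : ∀ i, ∃ x D : Y, π x = t i ∧ π D = k i * d * (k i)⁻¹ ∧ x * D = D * x := by
    intro i
    obtain ⟨z, hz⟩ := hπ (k i * d * (k i)⁻¹)
    obtain ⟨y, hy⟩ := hπ (t i)
    have hd3 : (k i * d * (k i)⁻¹) ^ 3 = 1 := by
      rw [conj_pow, show d ^ 3 = 1 by rw [pow_succ, pow_two, mul_assoc]; exact hF.cube, mul_one,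
        mul_inv_cancel]
    have hz6 : z ^ 6 = 1 := by
      rw [show 6 = 3 * 2 from rfl, pow_mul]
      exact hexp _ (MonoidHom.mem_ker.2 (by rw [map_pow, hz, hd3]))
    set D := z ^ 4
    have hD' : π D = k i * d * (k i)⁻¹ := by
      rw [map_pow, hz, pow_succ, hd3, one_mul]
    have hD3 : D ^ 3 = 1 := by
      rw [← pow_mul, show 4 * 3 = 6 * 2 from rfl, pow_mul, hz6, one_pow]
    have hcop : (Nat.card (zpowers D)).Coprime (Nat.card π.ker) := by
      rw [Nat.card_zpowers, hD.card]
      exact Nat.Coprime.coprime_dvd_left (orderOf_dvd_of_pow_eq_one hD3) (by norm_num)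
    have hcomm' : Commute (π D) (π y) := by
      rw [hD', hy]
      show k i * d * (k i)⁻¹ * (k i * s * (k i)⁻¹) = k i * s * (k i)⁻¹ * (k i * d * (k i)⁻¹)
      calc k i * d * (k i)⁻¹ * (k i * s * (k i)⁻¹) = k i * (d * s) * (k i)⁻¹ := by group
        _ = k i * (s * d) * (k i)⁻¹ := by rw [hF.comm]
        _ = _ := by group
    obtain ⟨n, hn, hnc⟩ := Core.exists_centralizing_in_coset (A := zpowers D) (N := π.ker)
      (by rw [normalizer_eq_top]; exact le_top) hcop (Or.inl inferInstance) (k := y) fun a ha => by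
        obtain ⟨j, rfl⟩ := mem_zpowers_iff.1 ha
        refine MonoidHom.mem_ker.2 ?_
        rw [map_mul, map_mul, map_mul, map_inv, map_inv, map_zpow, (hcomm'.zpow_left j).eq,
          mul_inv_cancel_right, inv_mul_cancel]
    refine ⟨y * n, D, by rw [map_mul, MonoidHom.mem_ker.1 hn, mul_one, hy], hD', ?_⟩
    exact (mem_centralizer_iff.1 hnc D (mem_zpowers D)).symm
  choose x D hx hDπ hxD using hlift
  -- the common fixed space
  have hU : ∀ i j, i ≠ j → ∀ v : π.ker, x i * v = v * x i → x j * v = v * x j →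
      v = 1 ∨ ∃ l, v = e l := by
    intro i j hij v hi hj
    by_cases hv : v = 1
    · exact Or.inl hv
    obtain ⟨g, rfl⟩ := hD.transitive v hv
    rw [hact, hx] at hi hj
    obtain ⟨l, hl⟩ := hF.pair i j hij g ((hD.fixed _ g).1 hi) ((hD.fixed _ g).1 hj)
    exact Or.inr ⟨l, hclass g (k l) hl⟩
  have hxe : ∀ i l, x i * (e l : Y) = (e l : Y) * x i := fun i l => by
    rw [hact, hx]; exact hte i l
  let U : Subgroup Y := π.ker ⊓ centralizer ({x 0} : Set Y) ⊓ centralizer ({x 1} : Set Y)
  have hUmem : ∀ v ∈ U, v = 1 ∨ ∃ l, v = (e l : Y) := by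
    rintro v ⟨⟨hv, h0⟩, h1⟩
    rcases hU 0 1 (by decide) ⟨v, hv⟩ (mem_centralizer_singleton_iff.1 h0).symm
      (mem_centralizer_singleton_iff.1 h1).symm with h | ⟨l, h⟩
    · exact Or.inl (congrArg Subtype.val h)
    · exact Or.inr ⟨l, congrArg Subtype.val h⟩
  have hUe : ∀ l, (e l : Y) ∈ U := fun l =>
    ⟨⟨(e l).2, mem_centralizer_singleton_iff.2 (hxe 0 l).symm⟩,
      mem_centralizer_singleton_iff.2 (hxe 1 l).symm⟩
  have hpairU : ∀ i j, i ≠ j → ∀ v ∈ π.ker, x i * v = v * x i → x j * v = v * x j → v ∈ U := by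
    intro i j hij v hv hi hj
    rcases hU i j hij ⟨v, hv⟩ hi hj with h | ⟨l, h⟩
    · rw [show v = 1 from congrArg Subtype.val h]; exact U.one_mem
    · rw [show v = (e l : Y) from congrArg Subtype.val h]; exact hUe l
  have hUx : ∀ u ∈ U, ∀ i, x i * u = u * x i := by
    intro u hu i
    rcases hUmem u hu with rfl | ⟨l, rfl⟩
    · rw [mul_one, one_mul]
    · exact hxe i l
  -- squares and commutators
  have hcentreU : ∀ i, ∀ v ∈ π.ker, x i * v = v * x i → D i * v = v * D i → v ∈ U := by
    intro i v hv h1 h2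
    have h1' := (hact (x i) ⟨v, hv⟩).1 h1
    have h2' := (hact (D i) ⟨v, hv⟩).1 h2
    rw [hx] at h1'
    rw [hDπ] at h2'
    rcases hcentre i ⟨v, hv⟩ h1' h2' with h | h
    · rw [show v = 1 from congrArg Subtype.val h]; exact U.one_mem
    · rw [show v = (e i : Y) from congrArg Subtype.val h]; exact hUe i
  have hsqker : ∀ i, x i * x i ∈ π.ker := fun i => MonoidHom.mem_ker.2 (by
    rw [map_mul, hx]
    simp only [ht]
    calc k i * s * (k i)⁻¹ * (k i * s * (k i)⁻¹) = k i * (s * s) * (k i)⁻¹ := by group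
      _ = 1 := by rw [hF.sq, mul_one, mul_inv_cancel])
  have hsq : ∀ i, x i * x i ∈ U := fun i => hcentreU i _ (hsqker i) (mul_assoc _ _ _).symm
    (by rw [← mul_assoc, ← hxD, mul_assoc, ← hxD, mul_assoc])
  have hinv : ∀ v ∈ π.ker, v⁻¹ = v := fun v hv =>
    inv_eq_of_mul_eq_one_right (by rw [← pow_two]; exact hexp v hv)
  have hcom : ∀ i j, (x i)⁻¹ * (x j * x i * (x j)⁻¹) ∈ U := by
    intro i j
    by_cases hij : i = j
    · subst hij
      rw [mul_inv_cancel_right, inv_mul_cancel]
      exact U.one_mem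
    set c' := (x i)⁻¹ * (x j * x i * (x j)⁻¹) with hc'
    have hcker : c' ∈ π.ker := MonoidHom.mem_ker.2 (by
      have := hF.commute i j
      rw [hc', map_mul, map_mul, map_mul, map_inv, map_inv, hx, hx]
      simp only [ht]
      rw [← this]
      group)
    have hc2 : c' * c' = 1 := by rw [← pow_two]; exact hexp _ hcker
    refine hpairU i j hij c' hcker ?_ ?_
    · have h1 : (x i * c') * (x i * c') = x i * x i := by
        rw [show x i * c' = x j * x i * (x j)⁻¹ by rw [hc', mul_inv_cancel_left],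
          show x j * x i * (x j)⁻¹ * (x j * x i * (x j)⁻¹) = x j * (x i * x i) * (x j)⁻¹ by group,
          hUx _ (hsq i) j, mul_inv_cancel_right]
      have h2 : c' * x i * c' = x i := mul_left_cancel (a := x i) (by
        rw [← h1]; group)
      calc x i * c' = c' * x i * c' * c' := by rw [h2]
        _ = c' * x i := by rw [mul_assoc, hc2, mul_one]
    · have hconj : c' * x j = (x i)⁻¹ * x j * x i := by rw [hc']; group
      have h1 : (c' * x j) * (c' * x j) = x j * x j := by
        rw [hconj, show (x i)⁻¹ * x j * x i * ((x i)⁻¹ * x j * x i) =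
          (x i)⁻¹ * (x j * x j) * x i by group, mul_assoc, ← hUx _ (hsq j) i, inv_mul_cancel_left]
      have h2 : c' * x j * c' = x j := mul_right_cancel (b := x j) (by
        rw [← h1]; group)
      calc x j * c' = c' * x j * c' * c' := by rw [h2]
        _ = c' * x j := by rw [mul_assoc, hc2, mul_one]
  have hfixcard : ∀ i, ∀ v ∈ π.ker, v⁻¹ * (x i * v * (x i)⁻¹) ∈ U := by
    intro i v hv
    let C : Subgroup π.ker := (centralizer ({x i} : Set Y)).subgroupOf π.ker
    have hCmem : ∀ w : π.ker, w ∈ C ↔ ρ (t i) w = w := fun w => by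
      rw [← hx, ← hact]
      exact mem_centralizer_singleton_iff.trans eq_comm
    have hC5 : 4 < Nat.card {w : C // w ≠ 1} := by
      let S := Finset.univ.filter fun g : Equiv.Perm (Fin 6) =>
        s * (g * s * g⁻¹) = (g * s * g⁻¹) * s
      haveI := Fintype.ofFinite C
      let T := (Finset.univ : Finset C).filter fun w => w ≠ 1
      have hmaps : ∀ g ∈ S, ρ (k i * g) v₀ ∈ C := by
        intro g hg
        rw [hCmem, hD.fixed]
        have hg' := (Finset.mem_filter.1 hg).2
        simp only [ht]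
        calc k i * s * (k i)⁻¹ * (k i * g * s * (k i * g)⁻¹) =
            k i * (s * (g * s * g⁻¹)) * (k i)⁻¹ := by group
          _ = k i * (g * s * g⁻¹ * s) * (k i)⁻¹ := by rw [hg']
          _ = _ := by group
      let f : Equiv.Perm (Fin 6) → C := fun g =>
        if h : ρ (k i * g) v₀ ∈ C then ⟨_, h⟩ else 1
      have hf : ∀ g ∈ S, (f g : π.ker) = ρ (k i * g) v₀ := fun g hg => by
        simp only [f, dif_pos (hmaps g hg)]
      have hfib : ∀ b ∈ S.image f, (S.filter fun g => f g = b).card ≤ 48 := by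
        intro b hb
        obtain ⟨g₀, hg₀, rfl⟩ := Finset.mem_image.1 hb
        rw [← hF.cent]
        refine Finset.card_le_card_of_injOn (fun g => g₀⁻¹ * g) ?_ fun a _ b _ hab =>
          mul_left_cancel hab
        intro g hg
        obtain ⟨hgS, hgf⟩ := Finset.mem_filter.1 hg
        have h := congrArg Subtype.val hgf
        rw [hf g hgS, hf g₀ hg₀, map_mul, map_mul] at h
        have h' : ρ g v₀ = ρ g₀ v₀ := (ρ (k i)).injective h
        have h2 : ρ (g₀⁻¹ * g) v₀ = v₀ := by
          rw [map_mul, MulAut.mul_apply, h', ← MulAut.mul_apply, ← map_mul,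
            inv_mul_cancel, map_one, MulAut.one_apply]
        have h3 := (hD.fixed (g₀⁻¹ * g) 1).1 (by rw [map_one, MulAut.one_apply]; exact h2)
        rw [one_mul, inv_one, mul_one] at h3
        simp only [Finset.coe_filter, Finset.mem_univ, true_and, Set.mem_setOf_eq]
        exact h3
      have hsub : S.image f ⊆ T := by
        intro b hb
        obtain ⟨g, hg, rfl⟩ := Finset.mem_image.1 hb
        refine Finset.mem_filter.2 ⟨Finset.mem_univ _, fun h => hD.ne_one ?_⟩
        have h' := congrArg Subtype.val h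
        rw [hf g hg] at h'
        exact (ρ (k i * g)).injective (h'.trans (map_one _).symm)
      have h1 := Finset.card_le_mul_card_image (f := f) S 48 hfib
      have h2 := Finset.card_le_card hsub
      have h3 : Nat.card {w : C // w ≠ 1} = T.card := by
        rw [Nat.card_eq_fintype_card, Fintype.card_subtype]
      have h4 := hF.count
      rw [h3]
      nlinarith
    have hidx : C.index ≤ 2 := by
      have h := C.index_mul_card
      rw [hD.card] at h
      have h5 : 5 ≤ Nat.card C := by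
        have := Finite.card_subtype_lt (p := fun w : C => w ≠ 1) (x := 1) (fun h => h rfl)
        omega
      by_contra hlt
      obtain ⟨j, hj, hjc⟩ := (Nat.dvd_prime_pow Nat.prime_two).1
        (show Nat.card C ∣ 2 ^ 4 by norm_num; exact h ▸ dvd_mul_left _ _)
      interval_cases j <;> nlinarith
    have hcw : ∀ w : π.ker, ∀ u ∈ C,
        ((u * w : π.ker) : Y)⁻¹ * (x i * ((u * w : π.ker) : Y) * (x i)⁻¹) =
          (w : Y)⁻¹ * (x i * (w : Y) * (x i)⁻¹) := by
      intro w u hu
      have hu' : (u : Y) * x i = x i * (u : Y) := mem_centralizer_singleton_iff.1 hu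
      rw [Subgroup.coe_mul, ← mul_assoc (x i), ← hu']
      group
    set w := v⁻¹ * (x i * v * (x i)⁻¹) with hw
    have hxv : x i * v * (x i)⁻¹ ∈ π.ker := hVn.conj_mem v hv _
    have hwker : w ∈ π.ker := mul_mem (inv_mem hv) hxv
    refine hcentreU i w hwker ?_ ?_
    · have h2 : x i * (x i * v * (x i)⁻¹) * (x i)⁻¹ = v := by
        calc x i * (x i * v * (x i)⁻¹) * (x i)⁻¹ = (x i * x i) * v * (x i * x i)⁻¹ := by group
          _ = v := by rw [hcomm _ (hsqker i) v hv, mul_inv_cancel_right]
      have h3 : x i * w * (x i)⁻¹ = w := by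
        calc x i * w * (x i)⁻¹ = (x i * v * (x i)⁻¹)⁻¹ * (x i * (x i * v * (x i)⁻¹) * (x i)⁻¹) := by
              rw [hw]; group
          _ = (x i * v * (x i)⁻¹) * v := by rw [h2, hinv _ hxv]
          _ = w := by rw [hw, hinv v hv, hcomm _ hxv v hv]
      exact mul_inv_eq_iff_eq_mul.1 h3
    · set v' := D i * v * (D i)⁻¹ with hv'
      have hv'k : v' ∈ π.ker := hVn.conj_mem v hv _
      have h1 : v'⁻¹ * (x i * v' * (x i)⁻¹) = D i * w * (D i)⁻¹ := by
        have hxD' : x i * D i = D i * x i := hxD i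
        rw [hv', hw, show x i * (D i * v * (D i)⁻¹) * (x i)⁻¹ =
          (x i * D i) * v * (x i * D i)⁻¹ by group, hxD']
        group
      have h2 : v'⁻¹ * (x i * v' * (x i)⁻¹) = w := by
        by_cases hvC : (⟨v, hv⟩ : π.ker) ∈ C
        · have hvx : x i * v = v * x i := (mem_centralizer_singleton_iff.1 hvC).symm
          have hw1 : w = 1 := by rw [hw, hvx, mul_inv_cancel_right, inv_mul_cancel]
          rw [h1, hw1, mul_one, mul_inv_cancel]
        · have hv'C : (⟨v', hv'k⟩ : π.ker) ∉ C := by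
            intro h
            apply hvC
            refine mem_centralizer_singleton_iff.2 ?_
            have h' : v' * x i = x i * v' := mem_centralizer_singleton_iff.1 h
            have hxD' : x i * D i = D i * x i := hxD i
            have hxi : (D i)⁻¹ * x i * D i = x i := by
              rw [mul_assoc, hxD', inv_mul_cancel_left]
            calc v * x i = v * ((D i)⁻¹ * x i * D i) := by rw [hxi]
              _ = (D i)⁻¹ * (v' * x i) * D i := by rw [hv']; group
              _ = (D i)⁻¹ * (x i * v') * D i := by rw [h']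
              _ = (D i)⁻¹ * x i * D i * v := by rw [hv']; group
              _ = x i * v := by rw [hxi]
          have hidx2 : C.index = 2 := by
            have h0 : C.index ≠ 0 := Subgroup.index_ne_zero_of_finite
            have h1 : C.index ≠ 1 := fun h => hvC ((Subgroup.index_eq_one.1 h).ge (mem_top _))
            omega
          have hm : (⟨v', hv'k⟩ : π.ker) * (⟨v, hv⟩ : π.ker)⁻¹ ∈ C := by
            rw [Subgroup.mul_mem_iff_of_index_two hidx2, inv_mem_iff]
            exact iff_of_false hv'C hvC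
          have := hcw ⟨v, hv⟩ _ hm
          rw [inv_mul_cancel_right] at this
          exact this
      exact mul_inv_eq_iff_eq_mul.1 (h1.symm.trans h2)
  -- the section
  set S : Set Y := (π.ker : Set Y) ∪ Set.range x with hSdef
  let M : Subgroup Y := closure S
  have hVM : π.ker ≤ M := fun v hv => subset_closure (Or.inl hv)
  have hUM : U ≤ M := inf_le_left.trans (inf_le_left.trans hVM)
  have hUcent : M ≤ centralizer (U : Set Y) := by
    refine (closure_le _).2 ?_
    rintro a (ha | ⟨i, rfl⟩) <;> refine mem_centralizer_iff.2 fun u hu => ?_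
    · exact hcomm u hu.1.1 a ha
    · exact (hUx u hu i).symm
  haveI hUn : (U.subgroupOf M).Normal := ⟨fun u hu a => by
    rw [mem_subgroupOf] at hu ⊢
    push_cast
    rw [← mem_centralizer_iff.1 (hUcent a.2) _ hu, mul_inv_cancel_right]
    exact hu⟩
  let q := QuotientGroup.mk' (U.subgroupOf M)
  let S' : Set M := M.subtype ⁻¹' S
  have hgen : closure (q '' S') = ⊤ := by
    rw [← MonoidHom.map_closure, show closure S' = ⊤ from Subgroup.closure_closure_coe_preimage]
    exact map_top_of_surjective q (QuotientGroup.mk'_surjective _)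
  have hq : ∀ a b : M, (a : Y)⁻¹ * (b : Y) ∈ U → q a = q b := fun a b h =>
    QuotientGroup.eq.2 (mem_subgroupOf.2 (by push_cast; exact h))
  have hpair : ∀ a ∈ S', ∀ b ∈ S', q a * q b = q b * q a := by
    intro a ha b hb
    rw [← map_mul, ← map_mul]
    refine (hq _ _ ?_).symm
    push_cast
    rw [show ((b : Y) * (a : Y))⁻¹ * ((a : Y) * (b : Y)) =
      (a : Y)⁻¹ * ((b : Y)⁻¹ * ((a : Y) * (b : Y) * (a : Y)⁻¹)) * (a : Y) by group]
    suffices h : (b : Y)⁻¹ * ((a : Y) * (b : Y) * (a : Y)⁻¹) ∈ U by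
      rw [mul_assoc, mem_centralizer_iff.1 (hUcent a.2) _ h, inv_mul_cancel_left]
      exact h
    rcases ha with ha | ⟨i, hi⟩ <;> rcases hb with hb | ⟨j, hj⟩
    · change (a : Y) ∈ π.ker at ha
      change (b : Y) ∈ π.ker at hb
      rw [hcomm _ ha _ hb, mul_inv_cancel_right, inv_mul_cancel]; exact U.one_mem
    · change x j = (b : Y) at hj
      change (a : Y) ∈ π.ker at ha
      rw [← hj]
      have h := hfixcard j _ ha
      have e1 : (x j)⁻¹ * ((a : Y) * x j * (a : Y)⁻¹) =
          (x j)⁻¹ * ((a : Y)⁻¹ * (x j * (a : Y) * (x j)⁻¹))⁻¹⁻¹ * x j := by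
        rw [inv_inv, hinv _ ha]; group
      rw [e1, inv_inv, mul_assoc, ← hUx _ h j, inv_mul_cancel_left]
      exact h
    · change x i = (a : Y) at hi
      change (b : Y) ∈ π.ker at hb
      rw [← hi]
      exact hfixcard i _ hb
    · change x j = (b : Y) at hj
      change x i = (a : Y) at hi
      rw [← hi, ← hj]
      exact hcom j i
  have hsq2 : ∀ a ∈ S', q a * q a = 1 := by
    intro a ha
    rw [← map_mul]
    refine (QuotientGroup.eq_one_iff _).2 (mem_subgroupOf.2 ?_)
    push_cast
    rcases ha with ha | ⟨i, hi⟩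
    · change (a : Y) ∈ π.ker at ha
      rw [← pow_two, hexp _ ha]; exact U.one_mem
    · change x i = (a : Y) at hi
      rw [← hi]; exact hsq i
  have hab : ∀ a b : M ⧸ U.subgroupOf M, a * b = b * a := by
    have h1 : ∀ g ∈ q '' S', (⊤ : Subgroup (M ⧸ U.subgroupOf M)) ≤ centralizer {g} := by
      rintro _ ⟨g, hg, rfl⟩
      rw [← hgen, closure_le]
      rintro _ ⟨f, hf, rfl⟩
      exact mem_centralizer_singleton_iff.2 (hpair f hf g hg)
    intro a b
    have h2 : (⊤ : Subgroup (M ⧸ U.subgroupOf M)) ≤ centralizer {a} := by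
      rw [← hgen, closure_le]
      intro g hg
      exact mem_centralizer_singleton_iff.2 (mem_centralizer_singleton_iff.1 (h1 g hg (mem_top a))).symm
    exact (mem_centralizer_singleton_iff.1 (h2 (mem_top b))).symm
  have helem : ∀ a : M ⧸ U.subgroupOf M, a ^ 2 = 1 := by
    intro a
    refine closure_induction (p := fun g _ => g ^ 2 = 1) ?_ (one_pow 2)
      (fun g f _ _ hg hf => by
        rw [(show Commute g f from hab g f).mul_pow, hg, hf, one_mul])
      (fun g _ hg => by rw [inv_pow, hg, inv_one]) (hgen.ge (mem_top a))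
    rintro _ ⟨g, hg, rfl⟩
    rw [pow_two]
    exact hsq2 g hg
  -- its order
  have hMcard : 128 ≤ Nat.card M := by
    let f := π.domRestrict M
    have h := f.ker.index_mul_card
    rw [Subgroup.index_ker] at h
    have h16 : Nat.card f.ker = 16 := by
      rw [← hD.card]
      refine Nat.card_congr
        { toFun := fun a => ⟨((a : M) : Y), MonoidHom.mem_ker.1 a.2⟩
          invFun := fun a => ⟨⟨(a : Y), hVM a.2⟩, MonoidHom.mem_ker.1 a.2⟩
          left_inv := fun a => rfl
          right_inv := fun a => rfl }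
    have hxM : ∀ i, x i ∈ M := fun i => subset_closure (Or.inr ⟨i, rfl⟩)
    have ht' : ∀ i, t i ∈ f.range := fun i => ⟨⟨x i, hxM i⟩, hx i⟩
    have h8 : 8 ≤ Nat.card f.range := by
      rw [← hF.card, ← Nat.card_eq_finsetCard]
      refine Nat.card_le_card_of_injective (fun b => ⟨b.1, ?_⟩) fun a b hab' =>
        Subtype.ext (congrArg Subtype.val hab' :)
      obtain ⟨b', -, hb'⟩ := Finset.mem_image.1 b.2
      rw [← hb']
      refine mul_mem (mul_mem ?_ ?_) ?_ <;> split_ifs <;> first | exact ht' _ | exact one_mem _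
    rw [h16] at h
    nlinarith
  have hUcard : Nat.card (U.subgroupOf M) ≤ 4 := by
    rw [Nat.card_congr (subgroupOfEquivOfLe hUM).toEquiv]
    have h : Nat.card U ≤ Nat.card (Option (Fin 3)) := by
      refine Nat.card_le_card_of_surjective
        (fun o => o.elim (1 : U) fun l => ⟨(e l : Y), hUe l⟩) ?_
      intro u
      rcases hUmem u u.2 with h | ⟨l, h⟩
      · exact ⟨none, Subtype.ext h.symm⟩
      · exact ⟨some l, Subtype.ext h.symm⟩
    simpa using h
  intro hrank
  have hbound := hrank M (U.subgroupOf M) ⊤ ⟨⟨fun a b => Subtype.ext (hab a b)⟩⟩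
    fun a _ => helem a
  rw [Subgroup.card_top, show Nat.card (M ⧸ U.subgroupOf M) = (U.subgroupOf M).index from rfl]
    at hbound
  have h := (U.subgroupOf M).index_mul_card
  nlinarith

end CfsgLib.RankFourQuotient
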