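import Cfsg.Agent.Lib.PGroups.Basic
import Cfsg.Agent.Lib.PLocal.PConstrained
import Cfsg.Agent.Lib.Classical.AutRankFour
import Cfsg.Agent.Lib.TwoGroups.RankFourQuotient.A8Insoluble
import Cfsg.Agent.Lib.TwoGroups.RankFourQuotient.SymSixSection

/-!
Owner: helper12. The quotient by `O₂` of an insoluble 2-constrained group with `O₂` of sectional rank
at most four.
-/

set_option autoImplicit false
set_option maxHeartbeats 800000
set_option linter.style.haveILetI false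

namespace CfsgLib.RankFourQuotient

open Subgroup

/-- Sectional rank passes to subgroups and quotients. -/
theorem sectional_of_surjective {G H : Type*} [Group G] [Group H] {p k : ℕ}
    (h : Cfsg.SectionalPRankLE p k G) (K : Subgroup G) (f : K →* H) (hf : Function.Surjective f) :
    Cfsg.SectionalPRankLE p k H := by
  intro T N _ A hA hexp
  haveI := hA
  let T' : Subgroup G := (T.comap f).map K.subtype
  let e : T.comap f ≃* T' := (T.comap f).equivMapOfInjective _ K.subtype_injective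
  let g : T' →* T ⧸ N := (QuotientGroup.mk' N).comp ((f.subgroupComap T).comp e.symm.toMonoidHom)
  have hg : Function.Surjective g := (QuotientGroup.mk'_surjective N).comp
    ((f.subgroupComap_surjective_of_surjective T hf).comp e.symm.surjective)
  let q := QuotientGroup.quotientKerEquivOfSurjective g hg
  have hA' : IsMulCommutative (A.map q.symm.toMonoidHom) := ⟨⟨fun a b => Subtype.ext (by
    obtain ⟨a', ha, ha'⟩ := a.2
    obtain ⟨b', hb, hb'⟩ := b.2
    show (a : T' ⧸ g.ker) * b = b * a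
    rw [← ha', ← hb', ← map_mul, ← map_mul]
    exact congrArg _ (congrArg Subtype.val (hA.is_comm.comm ⟨a', ha⟩ ⟨b', hb⟩)))⟩⟩
  have := h T' g.ker (A.map q.symm.toMonoidHom) hA' (by
    rintro _ ⟨a, ha, rfl⟩
    rw [← map_pow, hexp a ha, map_one])
  rwa [card_map_of_injective q.symm.injective] at this

section

variable (X : Type*) [Group X]

local notation "P₂" => (Cfsg.pCore 2 X)

/-- The action on the Frattini quotient of `O₂`. -/
noncomputable def frattiniAction : X →* MulAut (P₂ ⧸ frattini P₂) :=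
  ({ toFun := fun φ => QuotientGroup.congr (frattini P₂) (frattini P₂) φ
      (Subgroup.characteristic_iff_map_eq.1 inferInstance φ)
     map_one' := MulEquiv.ext fun x => by induction x using QuotientGroup.induction_on; rfl
     map_mul' := fun a b => MulEquiv.ext fun x => by
      induction x using QuotientGroup.induction_on; rfl } :
    MulAut P₂ →* MulAut (P₂ ⧸ frattini P₂)).comp MulAut.conjNormal

variable {X} [Finite X]

theorem ker_frattiniAction (hc : Cfsg.IsPConstrained 2 X) (hO : Cfsg.oddCore X = ⊥) :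
    (frattiniAction X).ker = P₂ := by
  haveI : Fact (Nat.Prime 2) := ⟨Nat.prime_two⟩
  have hcent : centralizer (P₂ : Set X) ≤ P₂ :=
    (CfsgLib.PLocal.isPConstrained_iff_of_core_bot (p := 2) hO).1 hc
  have hPp : IsPGroup 2 P₂ := CfsgLib.Core.isPGroup_pCore 2 X
  refine le_antisymm (CfsgLib.Core.le_pCore fun x => ?_) fun x hx => ?_
  · obtain ⟨a, m, hm, hxm⟩ := Nat.exists_eq_pow_mul_and_not_dvd (orderOf_pos (x : X)).ne' 2
      (by norm_num)
    refine ⟨a, Subtype.ext ?_⟩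
    push_cast
    set y := (x : X) ^ 2 ^ a
    have hy : y ^ m = 1 := by rw [← pow_mul, ← hxm, pow_orderOf_eq_one]
    have hym : (orderOf y).Coprime 2 :=
      ((Nat.prime_two.coprime_iff_not_dvd).2 fun h => hm (h.trans (orderOf_dvd_of_pow_eq_one hy))).symm
    have hyker : y ∈ (frattiniAction X).ker := pow_mem x.2 _
    have hle : zpowers y ≤ centralizer (P₂ : Set X) := by
      refine CfsgLib.Core.centralizes_of_centralizes_frattini_quotient
        (by rw [normalizer_eq_top]; exact le_top) ?_ ?_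
      · obtain ⟨n, hn⟩ := (hPp.to_subgroup (frattini P₂)).exists_card_eq
        rw [Nat.card_zpowers, hn]
        exact hym.pow_right n
      · intro b hb p hp
        have hb' : b ∈ (frattiniAction X).ker := zpowers_le.2 hyker hb
        have h := DFunLike.congr_fun (MonoidHom.mem_ker.1 hb')
          (QuotientGroup.mk (⟨p, hp⟩ : P₂) : P₂ ⧸ frattini P₂)
        change ((MulAut.conjNormal b ⟨p, hp⟩ : P₂) : P₂ ⧸ frattini P₂) = _ at h
        rw [MulAut.one_apply, eq_comm, QuotientGroup.eq] at h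
        refine ⟨⟨p, hp⟩ * ((⟨p, hp⟩ : P₂)⁻¹ * MulAut.conjNormal b ⟨p, hp⟩) * (⟨p, hp⟩ : P₂)⁻¹,
          (inferInstance : (frattini P₂).Normal).conj_mem _ h _, ?_⟩
        simp [MulAut.conjNormal_apply, mul_assoc]
    have hyP : y ∈ P₂ := hcent (hle (mem_zpowers y))
    obtain ⟨n, hn⟩ := hPp.exists_card_eq
    refine orderOf_eq_one_iff.1 (Nat.eq_one_of_dvd_coprimes (hym.pow_right n) dvd_rfl ?_)
    rw [← hn]
    exact Subgroup.orderOf_dvd_natCard _ hyP
  · refine MonoidHom.mem_ker.2 (MulEquiv.ext fun v => ?_)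
    obtain ⟨p, rfl⟩ := QuotientGroup.mk_surjective v
    have hcom := (CfsgLib.PGroups.frattini_quotient (p := 2) hPp).1
    change ((MulAut.conjNormal x p : P₂) : P₂ ⧸ frattini P₂) = _
    rw [show MulAut.conjNormal x p = (⟨x, hx⟩ : P₂) * p * (⟨x, hx⟩ : P₂)⁻¹ from
      Subtype.ext (by rw [MulAut.conjNormal_apply]; rfl), QuotientGroup.mk_mul, QuotientGroup.mk_mul,
      QuotientGroup.mk_inv, MulAut.one_apply]
    rw [hcom.is_comm.comm (QuotientGroup.mk (⟨x, hx⟩ : P₂)) (QuotientGroup.mk p), mul_inv_cancel_right]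

theorem card_frattini_quotient_le (h4 : Cfsg.SectionalPRankLE 2 4 P₂) :
    Nat.card (P₂ ⧸ frattini P₂) ≤ 16 := by
  haveI : Fact (Nat.Prime 2) := ⟨Nat.prime_two⟩
  obtain ⟨hcom, hexp⟩ := CfsgLib.PGroups.frattini_quotient (p := 2)
    (CfsgLib.Core.isPGroup_pCore 2 X)
  have h := sectional_of_surjective h4 ⊤ ((QuotientGroup.mk' (frattini P₂)).comp
    (Subgroup.topEquiv : (⊤ : Subgroup P₂) ≃* P₂).toMonoidHom)
    ((QuotientGroup.mk'_surjective _).comp Subgroup.topEquiv.surjective)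
  have h2 := h ⊤ ⊥ ⊤ ⟨⟨fun a b => Subtype.ext ?_⟩⟩ fun a _ => ?_
  · rw [card_top, Nat.card_congr QuotientGroup.quotientBot.toEquiv, card_top] at h2
    exact h2
  · obtain ⟨a', ha⟩ := QuotientGroup.mk_surjective (a : (⊤ : Subgroup (P₂ ⧸ frattini P₂)) ⧸ ⊥)
    obtain ⟨b', hb⟩ := QuotientGroup.mk_surjective (b : (⊤ : Subgroup (P₂ ⧸ frattini P₂)) ⧸ ⊥)
    push_cast
    rw [← ha, ← hb, ← QuotientGroup.mk_mul, ← QuotientGroup.mk_mul]
    exact congrArg _ (Subtype.ext (hcom.is_comm.comm _ _))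
  · obtain ⟨a', rfl⟩ := QuotientGroup.mk_surjective a
    rw [← QuotientGroup.mk_pow, show a' ^ 2 = 1 from Subtype.ext (hexp _), QuotientGroup.mk_one]

/-- The first conclusion. -/
theorem quotient_cases (hns : ¬ Group.IsSolvable X) (hc : Cfsg.IsPConstrained 2 X)
    (hO : Cfsg.oddCore X = ⊥) (h4 : Cfsg.SectionalPRankLE 2 4 P₂) :
    ((∃ n : ℕ, 5 ≤ n ∧ n ≤ 8 ∧ Nonempty (X ⧸ P₂ ≃* alternatingGroup (Fin n))) ∨
      Nonempty (X ⧸ P₂ ≃* Equiv.Perm (Fin 5)) ∨ Nonempty (X ⧸ P₂ ≃* Equiv.Perm (Fin 6)) ∨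
      Nonempty (X ⧸ P₂ ≃* GL (Fin 3) (ZMod 2))) ∨
    (Nat.card (Cfsg.pCore 3 (X ⧸ P₂)) = 3 ∧
      (Nonempty ((X ⧸ P₂) ⧸ Cfsg.pCore 3 (X ⧸ P₂) ≃* alternatingGroup (Fin 5)) ∨
        Nonempty ((X ⧸ P₂) ⧸ Cfsg.pCore 3 (X ⧸ P₂) ≃* Equiv.Perm (Fin 5)))) := by
  haveI : Fact (Nat.Prime 2) := ⟨Nat.prime_two⟩
  have hker := ker_frattiniAction hc hO
  obtain ⟨hcom, hexp⟩ := CfsgLib.PGroups.frattini_quotient (p := 2)
    (CfsgLib.Core.isPGroup_pCore 2 X)
  obtain ⟨f, hf⟩ := CfsgLib.Classical.AutRankFour.exists_hom_alt_eight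
    (fun a b => hcom.is_comm.comm a b) hexp (card_frattini_quotient_le h4)
  let g : X ⧸ P₂ →* alternatingGroup (Fin 8) :=
    QuotientGroup.lift P₂ (f.comp (frattiniAction X)) fun x hx => by
      rw [MonoidHom.mem_ker, MonoidHom.comp_apply,
        MonoidHom.mem_ker.1 (hker.ge hx : x ∈ (frattiniAction X).ker), map_one]
  have hg : Function.Injective g := by
    rw [injective_iff_map_eq_one]
    intro a ha
    obtain ⟨x, rfl⟩ := QuotientGroup.mk_surjective a
    refine (QuotientGroup.eq_one_iff x).2 (hker.le ?_)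
    exact MonoidHom.mem_ker.2 (hf (ha.trans (map_one f).symm))
  let e : X ⧸ P₂ ≃* g.range := MonoidHom.ofInjective hg
  have hnsQ : ¬ Group.IsSolvable (X ⧸ P₂) := fun h => by
    haveI := (CfsgLib.Core.isPGroup_pCore 2 X).isNilpotent
    haveI := h
    exact hns ((Group.isSolvable_iff_subgroup_quotient P₂).2 ⟨inferInstance, inferInstance⟩)
  have hns' : ¬ Group.IsSolvable g.range := fun h => by
    haveI := h
    exact hnsQ (Group.isSolvable_of_isSolvable_injective (f := e.toMonoidHom) e.injective)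
  have h2 : Cfsg.pCore 2 g.range = ⊥ := by
    rw [← CfsgLib.Core.map_equiv_pCore e, CfsgLib.Core.pCore_quotient_pCore, Subgroup.map_bot]
  have hq3 : Nat.card (Cfsg.pCore 3 (X ⧸ P₂)) = Nat.card (Cfsg.pCore 3 g.range) := by
    rw [← CfsgLib.Core.map_equiv_pCore (p := 3) e, card_map_of_injective (f := e.toMonoidHom) e.injective]
  have eq3 : (X ⧸ P₂) ⧸ Cfsg.pCore 3 (X ⧸ P₂) ≃* g.range ⧸ Cfsg.pCore 3 g.range :=
    QuotientGroup.congr _ _ e (CfsgLib.Core.map_equiv_pCore e)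
  rcases insoluble_cases hns' h2 with (⟨n, h1, h8, ⟨i⟩⟩ | ⟨⟨i⟩⟩ | ⟨⟨i⟩⟩ | ⟨⟨i⟩⟩) | ⟨h3, h⟩
  · exact Or.inl (Or.inl ⟨n, h1, h8, ⟨e.trans i⟩⟩)
  · exact Or.inl (Or.inr (Or.inl ⟨e.trans i⟩))
  · exact Or.inl (Or.inr (Or.inr (Or.inl ⟨e.trans i⟩)))
  · exact Or.inl (Or.inr (Or.inr (Or.inr ⟨e.trans i⟩)))
  · refine Or.inr ⟨hq3.trans h3, ?_⟩
    rcases h with ⟨⟨i⟩⟩ | ⟨⟨i⟩⟩
    · exact Or.inl ⟨eq3.trans i⟩
    · exact Or.inr ⟨eq3.trans i⟩

/-- `S₆` does not occur in a group of sectional rank four. -/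
theorem not_symSix (hc : Cfsg.IsPConstrained 2 X) (hO : Cfsg.oddCore X = ⊥)
    (h4 : Cfsg.SectionalPRankLE 2 4 X) (j : Equiv.Perm (Fin 6) →* X ⧸ P₂) :
    ¬ Function.Injective j := by
  intro hj
  haveI : Fact (Nat.Prime 2) := ⟨Nat.prime_two⟩
  have hker := ker_frattiniAction hc hO
  obtain ⟨hcom, hexp⟩ := CfsgLib.PGroups.frattini_quotient (p := 2)
    (CfsgLib.Core.isPGroup_pCore 2 X)
  let X6 : Subgroup X := j.range.comap (QuotientGroup.mk' P₂)
  let ej : Equiv.Perm (Fin 6) ≃* j.range := MonoidHom.ofInjective hj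
  let f6 : X6 →* Equiv.Perm (Fin 6) :=
    ej.symm.toMonoidHom.comp ((QuotientGroup.mk' P₂).subgroupComap j.range)
  have hf6 : Function.Surjective f6 := ej.symm.surjective.comp
    (MonoidHom.subgroupComap_surjective_of_surjective _ _ (QuotientGroup.mk'_surjective _))
  have hf6k : ∀ x : X6, f6 x = 1 ↔ (x : X) ∈ P₂ := fun x => by
    rw [← QuotientGroup.eq_one_iff]
    refine ⟨fun h => ?_, fun h => ?_⟩
    · have h' : (QuotientGroup.mk' P₂).subgroupComap j.range x = 1 :=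
        ej.symm.injective (h.trans (map_one _).symm)
      exact congrArg Subtype.val h'
    · show ej.symm _ = 1
      rw [show (QuotientGroup.mk' P₂).subgroupComap j.range x = 1 from Subtype.ext h, map_one]
  let N : Subgroup X := (frattini P₂).map (P₂).subtype
  haveI hN : N.Normal := ⟨by
    rintro _ ⟨p, hp, rfl⟩ g
    exact ⟨MulAut.conjNormal g p, (Subgroup.characteristic_iff_map_eq.1 inferInstance
      (MulAut.conjNormal g)).le ⟨p, hp, rfl⟩, MulAut.conjNormal_apply g p⟩⟩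
  have hPle : P₂ ≤ X6 := fun x hx => by
    show QuotientGroup.mk' P₂ x ∈ j.range
    rw [QuotientGroup.mk'_apply, (QuotientGroup.eq_one_iff x).2 hx]
    exact one_mem _
  let Y := X6 ⧸ N.subgroupOf X6
  let π : Y →* Equiv.Perm (Fin 6) := QuotientGroup.lift _ f6 fun x hx => by
    obtain ⟨p, -, hp⟩ := hx
    exact (hf6k x).2 (by rw [show (x : X) = (p : X) from hp.symm]; exact p.2)
  have hπk : ∀ v ∈ π.ker, ∃ p : P₂, (QuotientGroup.mk (⟨p, hPle p.2⟩ : X6) : Y) = v := by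
    intro v hv
    obtain ⟨x, rfl⟩ := QuotientGroup.mk_surjective v
    exact ⟨⟨x, (hf6k x).1 hv⟩, rfl⟩
  let ι : P₂ →* Y := (QuotientGroup.mk' _).comp (Subgroup.inclusion hPle)
  have hι : frattini P₂ ≤ ι.ker := fun p hp =>
    MonoidHom.mem_ker.2 ((QuotientGroup.eq_one_iff _).2 ⟨p, hp, rfl⟩)
  let ι' : P₂ ⧸ frattini P₂ →* Y := QuotientGroup.lift _ ι hι
  have hι' : ∀ v ∈ π.ker, ∃ q, ι' q = v := fun v hv => by
    obtain ⟨p, hp⟩ := hπk v hv
    exact ⟨QuotientGroup.mk p, hp⟩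
  refine not_sectional_symSix π ?_ ?_ ?_ ?_ ?_
    (sectional_of_surjective h4 X6 (QuotientGroup.mk' _) (QuotientGroup.mk'_surjective _))
  · intro a
    obtain ⟨x, hx⟩ := hf6 a
    exact ⟨QuotientGroup.mk x, hx⟩
  · intro a ha b hb
    obtain ⟨u, rfl⟩ := hι' a ha
    obtain ⟨v, rfl⟩ := hι' b hb
    rw [← map_mul, ← map_mul, hcom.is_comm.comm]
  · intro a ha
    obtain ⟨u, rfl⟩ := hι' a ha
    rw [← map_pow, hexp u, map_one]
  · refine (Nat.card_le_card_of_surjective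
      (fun u : P₂ ⧸ frattini P₂ => (⟨ι' u, ?_⟩ : π.ker)) fun v => ?_).trans
        (card_frattini_quotient_le (sectional_of_surjective h4 P₂ (MonoidHom.id _) fun y => ⟨y, rfl⟩))
    · obtain ⟨p, rfl⟩ := QuotientGroup.mk_surjective u
      exact MonoidHom.mem_ker.2 ((hf6k ⟨p, hPle p.2⟩).2 p.2)
    · obtain ⟨u, hu⟩ := hι' v v.2
      exact ⟨u, Subtype.ext hu⟩
  · intro y hy
    obtain ⟨x, rfl⟩ := QuotientGroup.mk_surjective y
    refine MonoidHom.mem_ker.2 ((hf6k x).2 (hker.le (MonoidHom.mem_ker.2 (MulEquiv.ext fun v => ?_))))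
    obtain ⟨p, rfl⟩ := QuotientGroup.mk_surjective v
    change ((MulAut.conjNormal (x : X) p : P₂) : P₂ ⧸ frattini P₂) = _
    rw [MulAut.one_apply, eq_comm, QuotientGroup.eq]
    have hxp : (QuotientGroup.mk (x * ⟨p, hPle p.2⟩) : Y) = QuotientGroup.mk (⟨p, hPle p.2⟩ * x) := by
      rw [QuotientGroup.mk_mul, QuotientGroup.mk_mul]
      refine (mem_centralizer_iff.1 hy _ ?_).symm
      exact MonoidHom.mem_ker.2 ((hf6k ⟨p, hPle p.2⟩).2 p.2)
    rw [eq_comm, QuotientGroup.eq] at hxp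
    obtain ⟨r, hr, hr'⟩ := ((inferInstance : (N.subgroupOf X6).Normal).conj_mem _ hxp x : _ ∈ N.subgroupOf X6)
    have he : (p : P₂)⁻¹ * MulAut.conjNormal (x : X) p = r := by
      refine Subtype.ext ?_
      change ((p : P₂)⁻¹ * MulAut.conjNormal (x : X) p : P₂).1 = (P₂).subtype r
      rw [hr']
      show ((p : X))⁻¹ * ((MulAut.conjNormal (x : X) p : P₂) : X) =
        (x : X) * ((((p : X) * (x : X))⁻¹) * ((x : X) * (p : X))) * (x : X)⁻¹
      rw [MulAut.conjNormal_apply]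
      group
    rw [he]
    exact hr

end

end CfsgLib.RankFourQuotient
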