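import Cfsg.Agent.Lib.TwoGroups.RankFourQuotient.LinearThreeTwoTwo
import Cfsg.Agent.Lib.TwoGroups.RankFourQuotient.LinearThreeTwoFour
import Cfsg.Agent.Lib.TwoGroups.RankFourQuotient.LinearThreeTwoCover
import Cfsg.Agent.Lib.TwoGroups.RankFourQuotient.Main

/-!
Owner: helper12. A layer above a natural chief factor forces sectional 2-rank at least five.
-/

set_option autoImplicit false
set_option maxHeartbeats 800000
set_option linter.style.haveILetI false

namespace CfsgLib.RankFourQuotient.LThree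

open Subgroup
open scoped Matrix

variable {X : Type*} [Group X]

theorem eight_facts : aMat * aMat = 1 ∧ aMat ≠ 1 ∧ uniMat.det = 1 ∧ uniMat ^ 4 = 1 ∧
    aMat *ᵥ ![0, 0, 1] + ![0, 0, 1] = ![1, 0, 0] ∧
    (∀ v : V3, uniMat *ᵥ v = v → v = 0 ∨ v = ![1, 0, 0]) ∧
    (∀ v : V3, aMat *ᵥ v + v = 0 ∨ aMat *ᵥ v + v = ![1, 0, 0]) ∧
    uniMat *ᵥ ![1, 0, 0] = ![1, 0, 0] ∧
    (∀ v : V3, ![1, 0, 0] + (v + uniMat *ᵥ v) ≠ ![0, 0, 1]) := by decide +kernel

theorem stab_gen : ∀ M : M3, M.det = 1 → M *ᵥ ![1, 0, 0] = ![1, 0, 0] →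
    ∃ φ : V3, φ 0 = 0 ∧ ∃ c : V3, φ ⬝ᵥ c = 0 ∧ ∃ ψ : V3, ψ 0 = 0 ∧ ∃ d : V3, ψ ⬝ᵥ d = 0 ∧
      M = tv φ c * tv ψ d := by decide +kernel

theorem tv_fix : ∀ φ : V3, φ 0 = 0 → ∀ c : V3, φ ⬝ᵥ c = 0 →
    tv φ c *ᵥ ![1, 0, 0] = ![1, 0, 0] ∧ tv φ c * tv φ c = 1 := by decide +kernel

theorem Top.of_hom {Y : Type*} [Group Y] {K : Subgroup X} [K.Normal] (h : Top K) {F : Subgroup Y}
    [F.Normal] (φ : Y →* X ⧸ K) (hφ : Function.Surjective φ) (hF : φ.ker = F) : Top F := by
  let e : Y ⧸ F ≃* X ⧸ K := (QuotientGroup.quotientMulEquivOfEq hF.symm).trans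
    (QuotientGroup.quotientKerEquivOfSurjective φ hφ)
  exact ⟨by rw [Nat.card_congr e.toEquiv, h.card], haveI := h.simple; e.isSimpleGroup⟩

/-- A point of an affine layer fixed by an involution gives a point fixed by all. -/
theorem exists_fixed [Finite X] {K W : Subgroup X} [K.Normal] (hT : Top K) (hW : Nat.card W = 8)
    {o : X} (hK : ∀ k ∈ K, k * o = o * k) (hcos : ∀ x : X, o⁻¹ * (x * o * x⁻¹) ∈ W)
    (hWn : W.Normal) {a : X} (ha : a * o = o * a) (haK : a ∉ K) (ha2 : a * a ∈ K) :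
    ∃ w ∈ W, ∀ x : X, x * (o * w) = (o * w) * x := by
  classical
  set S := centralizer ({o} : Set X) with hS
  have hmem : ∀ x, x ∈ S ↔ x * o = o * x := fun x => mem_centralizer_singleton_iff
  have hKS : K ≤ S := fun k hk => (hmem k).2 (hK k hk)
  by_cases htop : S = ⊤
  · exact ⟨1, one_mem _, fun x => by rw [mul_one]; exact (hmem x).1 (htop ▸ mem_top x)⟩
  let G : X ⧸ S → W := Quotient.lift (fun x => (⟨o⁻¹ * (x * o * x⁻¹), hcos x⟩ : W)) fun x y h => by
    have h1 := (hmem _).1 (QuotientGroup.leftRel_apply.1 h)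
    refine Subtype.ext ?_
    show o⁻¹ * (x * o * x⁻¹) = o⁻¹ * (y * o * y⁻¹)
    calc o⁻¹ * (x * o * x⁻¹) = o⁻¹ * (x * (o * (x⁻¹ * y)) * y⁻¹) := by group
      _ = o⁻¹ * (x * ((x⁻¹ * y) * o) * y⁻¹) := by rw [h1]
      _ = _ := by group
  have hG : Function.Injective G := by
    rintro ⟨x⟩ ⟨y⟩ h
    have h1 : o⁻¹ * (x * o * x⁻¹) = o⁻¹ * (y * o * y⁻¹) := congrArg Subtype.val h
    have h2 := mul_left_cancel h1
    refine QuotientGroup.eq.2 ((hmem _).2 ?_)
    calc x⁻¹ * y * o = x⁻¹ * (y * o * y⁻¹) * y := by group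
      _ = x⁻¹ * (x * o * x⁻¹) * y := by rw [h2]
      _ = _ := by group
  have hn8 : S.index ≤ 8 := by
    have := Nat.card_le_card_of_injective G hG
    rwa [hW] at this
  have hdvd : S.index ∣ 168 := by
    have := index_dvd_of_le hKS
    rwa [show K.index = 168 from hT.card] at this
  have hcore : S.normalCore = K := (hT.normal_cases S.normalCore (normal_le_normalCore.2 hKS)).resolve_right
    fun e => htop (top_le_iff.1 (e ▸ normalCore_le S))
  have hfact : 168 ∣ S.index.factorial := by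
    haveI := Fintype.ofFinite (X ⧸ S)
    have h1 := card_subgroup_dvd_card (MulAction.toPermHom X (X ⧸ S)).range
    rw [← index_ker, ← normalCore_eq_ker, hcore, show K.index = 168 from hT.card, Nat.card_perm] at h1
    exact h1
  have hn : S.index = 7 ∨ S.index = 8 := by
    have h1 : ∀ n : Fin 9, 168 ∣ (n : ℕ).factorial → (n : ℕ) = 0 ∨ (n : ℕ) = 7 ∨ (n : ℕ) = 8 := by decide
    rcases h1 ⟨S.index, by omega⟩ hfact with h | h | h
    · exact absurd h (index_ne_zero_of_finite)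
    · exact Or.inl h
    · exact Or.inr h
  rcases hn with h7 | h8
  · obtain ⟨w0, hw0⟩ : ∃ w0 : W, ∀ q, G q ≠ w0 := by
      by_contra hcon
      push Not at hcon
      have := Nat.card_le_card_of_surjective G hcon
      rw [hW, show Nat.card (X ⧸ S) = 7 from h7] at this
      omega
    refine ⟨w0, w0.2, fun x => ?_⟩
    by_contra hne
    set w' : W := ⟨o⁻¹ * (x * (o * w0) * x⁻¹), by
      rw [show o⁻¹ * (x * (o * w0) * x⁻¹) = o⁻¹ * (x * o * x⁻¹) * (x * w0 * x⁻¹) by group]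
      exact mul_mem (hcos x) (hWn.conj_mem _ w0.2 x)⟩ with hw'
    by_cases hwe : w' = w0
    · refine hne ?_
      have h1 : o⁻¹ * (x * (o * w0) * x⁻¹) = w0 := congrArg Subtype.val hwe
      calc x * (o * w0) = o * (o⁻¹ * (x * (o * w0) * x⁻¹)) * x := by group
        _ = _ := by rw [h1]
    · obtain ⟨q, hq⟩ : ∃ q, G q = w' := by
        by_contra hcon
        push Not at hcon
        have h2 : Function.Injective (fun p : Option (X ⧸ S) => p.elim w' G) := by
          rintro (_ | p) (_ | q) h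
          · rfl
          · exact absurd h.symm (hcon q)
          · exact absurd h (hcon p)
          · exact congrArg some (hG h)
        have h3 : Function.Injective (fun p : Option (Option (X ⧸ S)) => p.elim w0
            (fun p => p.elim w' G)) := by
          rintro (_ | p) (_ | q) h
          · rfl
          · rcases q with _ | q
            · exact absurd h.symm hwe
            · exact absurd h.symm (hw0 q)
          · rcases p with _ | p
            · exact absurd h hwe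
            · exact absurd h (hw0 p)
          · exact congrArg some (h2 h)
        have := Nat.card_le_card_of_injective _ h3
        rw [Finite.card_option, Finite.card_option, hW, show Nat.card (X ⧸ S) = 7 from h7] at this
        omega
      obtain ⟨y, rfl⟩ := QuotientGroup.mk_surjective q
      have h1 : o⁻¹ * (y * o * y⁻¹) = o⁻¹ * (x * (o * w0) * x⁻¹) := congrArg Subtype.val hq
      refine hw0 (QuotientGroup.mk (x⁻¹ * y)) (Subtype.ext ?_)
      show o⁻¹ * (x⁻¹ * y * o * (x⁻¹ * y)⁻¹) = w0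
      calc o⁻¹ * (x⁻¹ * y * o * (x⁻¹ * y)⁻¹) = o⁻¹ * (x⁻¹ * (o * (o⁻¹ * (y * o * y⁻¹))) * x) := by group
        _ = o⁻¹ * (x⁻¹ * (o * (o⁻¹ * (x * (o * w0) * x⁻¹))) * x) := by rw [h1]
        _ = w0 := by group
  · exfalso
    have h1 : orderOf (QuotientGroup.mk a : X ⧸ K) = 2 := by
      haveI : Fact (Nat.Prime 2) := ⟨Nat.prime_two⟩
      refine orderOf_eq_prime ?_ fun e => haK ((QuotientGroup.eq_one_iff a).1 e)
      rw [pow_two, ← QuotientGroup.mk_mul, QuotientGroup.eq_one_iff]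
      exact ha2
    have h2 : orderOf (QuotientGroup.mk' K a) ∣ Nat.card (S.map (QuotientGroup.mk' K)) :=
      orderOf_dvd_natCard _ (mem_map_of_mem _ ((hmem a).2 ha))
    have h3 : Nat.card (S.map (QuotientGroup.mk' K)) = 21 := by
      have h4 := (S.map (QuotientGroup.mk' K)).index_mul_card
      rw [index_map_eq _ (QuotientGroup.mk'_surjective K) (by rw [QuotientGroup.ker_mk']; exact hKS),
        h8, hT.card] at h4
      omega
    rw [h3, QuotientGroup.mk'_apply, h1] at h2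
    omega

theorem Frame.card_eq [Finite X] {K A B : Subgroup X} (f : Frame K A B) (hBA : B ≤ A) :
    Nat.card A = 8 * Nat.card B := by
  let e : A ≃ V3 × B :=
    { toFun := fun a => (f.co a, ⟨(f.lift (f.co a))⁻¹ * a,
        (f.co_eq (f.lift_mem _) a.2).1 (f.co_lift _)⟩)
      invFun := fun p => ⟨f.lift p.1 * p.2, mul_mem (f.lift_mem _) (hBA p.2.2)⟩
      left_inv := fun a => Subtype.ext (mul_inv_cancel_left _ _)
      right_inv := fun p => by
        have h1 : f.co (f.lift p.1 * p.2) = p.1 := by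
          rw [f.co_mul _ (f.lift_mem _) _ (hBA p.2.2), f.co_lift, (f.co_ker _ (hBA p.2.2)).2 p.2.2, add_zero]
        refine Prod.ext h1 (Subtype.ext ?_)
        show (f.lift (f.co (f.lift p.1 * p.2)))⁻¹ * (f.lift p.1 * p.2) = p.2
        rw [h1, inv_mul_cancel_left] }
  rw [Nat.card_congr e, Nat.card_prod, Nat.card_eq_fintype_card (α := V3)]
  simp

theorem card_elementary_le [Finite X] (hr : Cfsg.SectionalPRankLE 2 4 X) (W : Subgroup X)
    (hc : ∀ a ∈ W, ∀ b ∈ W, a * b = b * a) (he : ∀ a ∈ W, a * a = 1) : Nat.card W ≤ 16 := by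
  have h1 := hr W ⊥ ⊤ ⟨⟨fun a b => ?_⟩⟩ fun a _ => ?_
  · rw [card_top, Nat.card_congr QuotientGroup.quotientBot.toEquiv] at h1
    exact h1
  · obtain ⟨a', ha⟩ := QuotientGroup.mk_surjective (a : W ⧸ (⊥ : Subgroup W))
    obtain ⟨b', hb⟩ := QuotientGroup.mk_surjective (b : W ⧸ (⊥ : Subgroup W))
    apply Subtype.ext
    push_cast
    rw [← ha, ← hb, ← QuotientGroup.mk_mul, ← QuotientGroup.mk_mul]
    exact congrArg _ (Subtype.ext (hc _ a'.2 _ b'.2))
  · obtain ⟨a', rfl⟩ := QuotientGroup.mk_surjective a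
    rw [← QuotientGroup.mk_pow, show a' ^ 2 = 1 from Subtype.ext (by push_cast; rw [pow_two]; exact he _ a'.2),
      QuotientGroup.mk_one]

namespace Layer

variable {K W : Subgroup X} [hKn : K.Normal]

/-- A fixed point is divided out. -/
theorem not_rank_quotient [Finite X] (h : Layer K W) (hW : Nat.card W = 8) {A B : Subgroup X}
    [A.Normal] (f : Frame K A B) (hAK : A ≤ K) (hWB : W ≤ B) (hBA : B ≤ A)
    (hab : ∀ a ∈ A, ∀ b ∈ A, a * b = b * a) {ω : X} (hωK : ω ∈ K) (hω : ∀ x, x * ω = ω * x)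
    (hω2 : ω * ω = 1) (hωW : ω ∉ W) (hdec : ∀ k ∈ K, k ∈ A ∨ ω * k ∈ A)
    (hωB : ω ∈ A → ω ∈ B) (hBW : ∀ b ∈ B, b ∈ W ∨ ω * b ∈ W)
    (hker : ∀ a ∈ A, a * a = 1 → a ∈ B) : ¬ Cfsg.SectionalPRankLE 2 4 X := by
  classical
  intro hr
  haveI := h.normal
  set N := zpowers ω with hN
  haveI hNn : N.Normal := ⟨fun w hw x => by
    obtain ⟨i, rfl⟩ := mem_zpowers_iff.1 hw
    rw [(Commute.zpow_right (hω x : Commute x ω) i).eq, mul_inv_cancel_right]
    exact zpow_mem (mem_zpowers ω) i⟩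
  have hNmem : ∀ a ∈ N, a = 1 ∨ a = ω := by
    intro a ha
    let S : Subgroup X :=
      { carrier := {a | a = 1 ∨ a = ω}
        one_mem' := Or.inl rfl
        mul_mem' := by
          rintro a b (rfl | rfl) (rfl | rfl)
          · exact Or.inl (one_mul 1)
          · exact Or.inr (one_mul _)
          · exact Or.inr (mul_one _)
          · exact Or.inl hω2
        inv_mem' := by
          rintro a (rfl | rfl)
          · exact Or.inl inv_one
          · exact Or.inr (inv_eq_of_mul_eq_one_right hω2) }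
    exact zpowers_le.2 (show ω ∈ S from Or.inr rfl) ha
  have hNK : N ≤ K := zpowers_le.2 hωK
  let π := QuotientGroup.mk' N
  have hπeq : ∀ a b : X, π a = π b → a⁻¹ * b = 1 ∨ a⁻¹ * b = ω := fun a b e =>
    hNmem _ (QuotientGroup.eq.1 e)
  have hrep : ∀ q ∈ K.map π, ∃ a ∈ A, π a = q := by
    rintro _ ⟨k, hk, rfl⟩
    rcases hdec k hk with ha | ha
    · exact ⟨k, ha, rfl⟩
    · refine ⟨ω * k, ha, ?_⟩
      rw [map_mul, show π ω = 1 from (QuotientGroup.eq_one_iff ω).2 (mem_zpowers ω), one_mul]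
  have hwd : ∀ a ∈ A, ∀ b ∈ A, π a = π b → f.co a = f.co b := fun a ha b hb e => by
    rw [f.co_eq ha hb]
    rcases hπeq a b e with h1 | h1
    · rw [h1]; exact one_mem _
    · rw [h1]; exact hωB (h1 ▸ mul_mem (inv_mem ha) hb)
  let co' : X ⧸ N → V3 := fun q => if hq : q ∈ K.map π then f.co (hrep q hq).choose else 0
  have hco : ∀ a ∈ A, co' (π a) = f.co a := by
    intro a ha
    have hq : π a ∈ K.map π := mem_map_of_mem _ (hAK ha)
    show dite _ _ _ = _
    rw [dif_pos hq]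
    exact hwd _ (hrep _ hq).choose_spec.1 a ha (hrep _ hq).choose_spec.2
  have hρN : N ≤ (MonoidHom.toHomUnits f.ρ).ker := fun a ha => Units.ext (f.ker a |>.2 (hNK ha))
  let ρ' : X ⧸ N →* M3 := (Units.coeHom M3).comp (QuotientGroup.lift N (MonoidHom.toHomUnits f.ρ) hρN)
  have hρ' : ∀ x, ρ' (π x) = f.ρ x := fun x => rfl
  haveI hKn' : (K.map π).Normal := hKn.map _ (QuotientGroup.mk'_surjective N)
  have hback : ∀ x, π x ∈ K.map π → x ∈ K := by
    rintro x ⟨k, hk, e⟩
    rcases hπeq k x e with h1 | h1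
    · rwa [← inv_mul_eq_one.1 h1]
    · rw [show x = k * ω by rw [← h1, mul_inv_cancel_left]]; exact mul_mem hk hωK
  let f' : Frame (K.map π) (K.map π) (W.map π) :=
    { ρ := ρ'
      co := co'
      det := fun q => by
        obtain ⟨x, rfl⟩ := QuotientGroup.mk'_surjective N q
        rw [hρ']; exact f.det x
      surj := fun M hM => by
        obtain ⟨x, hx⟩ := f.surj M hM
        exact ⟨π x, hx⟩
      ker := fun q => by
        obtain ⟨x, rfl⟩ := QuotientGroup.mk'_surjective N q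
        rw [hρ', f.ker]
        exact ⟨mem_map_of_mem _, hback x⟩
      co_mul := fun p hp q hq => by
        obtain ⟨a, ha, rfl⟩ := hrep p hp
        obtain ⟨b, hb, rfl⟩ := hrep q hq
        rw [← map_mul, hco _ (mul_mem ha hb), hco a ha, hco b hb, f.co_mul a ha b hb]
      co_surj := fun v => ⟨π (f.lift v), mem_map_of_mem _ (hAK (f.lift_mem v)), by
        rw [hco _ (f.lift_mem v), f.co_lift]⟩
      co_ker := fun q hq => by
        obtain ⟨a, ha, rfl⟩ := hrep q hq
        rw [hco a ha, f.co_ker a ha]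
        constructor
        · intro hb
          rcases hBW a hb with h1 | h1
          · exact mem_map_of_mem _ h1
          · exact ⟨ω * a, h1, by
              rw [map_mul, show π ω = 1 from (QuotientGroup.eq_one_iff ω).2 (mem_zpowers ω), one_mul]⟩
        · rintro ⟨w, hw, e⟩
          exact (f.co_ker a ha).1 ((hwd w (hBA (hWB hw)) a ha e).symm.trans
            ((f.co_ker w (hBA (hWB hw))).2 (hWB hw)))
      co_conj := fun p q hq => by
        obtain ⟨x, rfl⟩ := QuotientGroup.mk'_surjective N p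
        obtain ⟨a, ha, rfl⟩ := hrep q hq
        rw [← map_inv, ← map_mul, ← map_mul, hco _ ((inferInstance : A.Normal).conj_mem a ha x),
          hco a ha, hρ', f.co_conj x a ha] }
  have hT' : Top (K.map π) := h.top.of_hom (QuotientGroup.map N K (MonoidHom.id X) hNK)
    (fun q => by obtain ⟨x, rfl⟩ := QuotientGroup.mk_surjective q; exact ⟨π x, rfl⟩) (by
      ext q
      obtain ⟨x, rfl⟩ := QuotientGroup.mk'_surjective N q
      rw [MonoidHom.mem_ker]
      show (QuotientGroup.mk x : X ⧸ K) = 1 ↔ _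
      rw [QuotientGroup.eq_one_iff]
      exact ⟨mem_map_of_mem _, hback x⟩)
  refine not_sectional_four hT' f' ?_ (map_mono h.le) ?_ ?_ ?_ ?_
    (sectional_of_surjective hr ⊤ (π.comp (topEquiv : (⊤ : Subgroup X) ≃* X).toMonoidHom)
      ((QuotientGroup.mk'_surjective N).comp topEquiv.surjective))
  · intro p hp q hq
    obtain ⟨a, ha, rfl⟩ := hrep p hp
    obtain ⟨b, hb, rfl⟩ := hrep q hq
    rw [← map_mul, ← map_mul, hab a ha b hb]
  · let e : W → W.map π := fun w => ⟨π w, mem_map_of_mem _ w.2⟩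
    have he : Function.Bijective e := by
      refine ⟨fun a b e' => ?_, ?_⟩
      · rcases hπeq a b (congrArg Subtype.val e') with h1 | h1
        · exact Subtype.ext (inv_mul_eq_one.1 h1)
        · exact absurd (h1 ▸ mul_mem (inv_mem a.2) b.2) hωW
      · rintro ⟨_, w, hw, rfl⟩
        exact ⟨⟨w, hw⟩, rfl⟩
    rw [← hW]
    exact (Nat.card_congr (Equiv.ofBijective e he)).symm
  · rintro _ ⟨k, hk, rfl⟩
    exact ⟨k * k, h.sq k hk, map_mul _ _ _⟩
  · intro q hq e
    obtain ⟨a, ha, rfl⟩ := hrep q hq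
    rw [← map_mul] at e
    have hb : a ∈ B := by
      rcases hNmem _ ((QuotientGroup.eq_one_iff _).1 e) with h1 | h1
      · exact hker a ha h1
      · exact absurd (h1 ▸ h.sq a (hAK ha)) hωW
    rcases hBW a hb with h1 | h1
    · exact mem_map_of_mem _ h1
    · exact ⟨ω * a, h1, by
        rw [map_mul, show π ω = 1 from (QuotientGroup.eq_one_iff ω).2 (mem_zpowers ω), one_mul]⟩
  · rintro _ ⟨w, hw, rfl⟩
    rw [← map_mul, h.exp w hw, map_one]

/-- Squares on a frame: trivial or injective. -/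
theorem sq_frame [Finite X] (h : Layer K W) (hW : Nat.card W = 8) {A B : Subgroup X} [A.Normal]
    (f : Frame K A B) (hBA : B ≤ A) (hAK : A ≤ K) (hB : ∀ b ∈ B, b * b = 1)
    (hBc : ∀ b ∈ B, ∀ a ∈ A, cm a b = 1) :
    (∀ a ∈ A, a * a = 1) ∨ ((∀ a ∈ A, ∀ b ∈ A, a * b = b * a) ∧ (∀ a ∈ A, a * a = 1 → a ∈ B) ∧
      ∀ w ∈ W, ∃ a ∈ A, a * a = w) := by
  haveI := h.normal
  have hg : ∀ a ∈ A, ∀ b ∈ B, a * b * (a * b) = a * a := fun a ha b hb => by
    rw [h.sq_mul (hAK ha) (hAK (hBA hb)), hB b hb, hBc b hb a ha, mul_one, mul_one]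
  obtain ⟨h1, h2⟩ := f.map_lift (g := fun a => a * a) hg fun x a ha => by group
  have hF0 : f.lift 0 * f.lift 0 = 1 := hB _ ((f.co_ker _ (f.lift_mem 0)).1 (f.co_lift 0))
  rcases f.equivariant (fun v => f.lift v * f.lift v) (fun v => h.sq _ (hAK (f.lift_mem v))) hF0
    h.wcomm h.exp h2 with ⟨c, hcfix, hc⟩ | ⟨hinj, hlin⟩
  · left
    have hcW : c ∈ W := (hc ![1, 0, 0] (by decide)) ▸ h.sq _ (hAK (f.lift_mem _))
    have hc1 := h.fixed_eq_one (by rw [hW]; norm_num) hcW hcfix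
    intro a ha
    by_cases h0 : f.co a = 0
    · exact hB a ((f.co_ker a ha).1 h0)
    · rw [← h1 a ha, hc _ h0, hc1]
  · right
    obtain ⟨hadd, hsurj⟩ := hlin inferInstance hW.le
    refine ⟨fun a ha b hb => cm_eq_one_iff.1 ?_, fun a ha e => (f.co_ker a ha).1 (hinj ?_),
      fun w hw => ?_⟩
    · have e := h.sq_mul (hAK ha) (hAK hb)
      rw [← h1 _ (mul_mem ha hb), f.co_mul a ha b hb, hadd, h1 a ha, h1 b hb] at e
      exact mul_left_cancel (e.symm.trans (mul_one _).symm)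
    · show f.lift (f.co a) * f.lift (f.co a) = f.lift 0 * f.lift 0
      rw [h1 a ha, hF0, e]
    · obtain ⟨v, hv⟩ := hsurj w hw
      exact ⟨_, f.lift_mem v, hv⟩

/-- An invariant hyperplane. -/
theorem not_rank_hyperplane [Finite X] (h : Layer K W) (hW : Nat.card W = 8) {U : Subgroup X}
    [hUn : U.Normal] (hWU : W ≤ U) (hUK : U ≤ K) (f : Frame K U W) {d : X} (hd : d ∈ K) (hdU : d ∉ U)
    (hcos : ∀ k ∈ K, k ∈ U ∨ d⁻¹ * k ∈ U) : ¬ Cfsg.SectionalPRankLE 2 4 X := by
  classical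
  haveI := h.normal
  obtain ⟨haa, hane, hUdet, hU4, hae2, hUfix, hA, hU0, hne⟩ := eight_facts
  intro hr
  rcases h.sq_frame hW f hWU hUK h.exp (fun b hb a ha => (h.cm_central hb (hUK ha)).2) with
    hall | ⟨hab, hker, hsurj⟩
  · have hc : ∀ a ∈ U, ∀ b ∈ U, a * b = b * a := fun a ha b hb => cm_eq_one_iff.1 (by
      have e := h.sq_mul (hUK ha) (hUK hb)
      rw [hall a ha, hall b hb, hall _ (mul_mem ha hb), one_mul, one_mul] at e
      exact e.symm)
    have := card_elementary_le hr U hc hall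
    rw [f.card_eq hWU, hW] at this
    omega
  set R := commutator X ⊔ U with hR
  have hRK : R ⊔ K = ⊤ := top_le_iff.1 (h.top.commutator_sup.ge.trans
    (sup_le_sup_right le_sup_left K))
  by_cases hsplit : ∀ k ∈ K, k ∈ R → k ∈ U
  · -- a complement modulo `U`
    let φ : R →* X ⧸ K := (QuotientGroup.mk' K).comp R.subtype
    have hRx : ∀ x : X, ∃ r ∈ R, ∃ k ∈ K, r * k = x := fun x =>
      (mem_sup_of_normal_right).1 (hRK ▸ mem_top x)
    have hφ : Function.Surjective φ := fun q => by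
      obtain ⟨x, rfl⟩ := QuotientGroup.mk_surjective q
      obtain ⟨r, hr', k, hk, rfl⟩ := hRx x
      exact ⟨⟨r, hr'⟩, QuotientGroup.eq.2 (by simpa using hk)⟩
    have hmem : ∀ r : R, (r ∈ U.subgroupOf R ↔ (r : X) ∈ K) := fun r => by
      rw [mem_subgroupOf]; exact ⟨fun e => hUK e, fun e => hsplit _ e r.2⟩
    haveI : (U.subgroupOf R).Normal := hUn.subgroupOf R
    have hT' : Top (U.subgroupOf R) := h.top.of_hom φ hφ (by
      ext r; rw [MonoidHom.mem_ker, hmem r]; exact QuotientGroup.eq_one_iff _)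
    let f' : Frame (U.subgroupOf R) (U.subgroupOf R) (W.subgroupOf R) :=
      { ρ := f.ρ.comp R.subtype
        co := fun r => f.co r
        det := fun r => f.det r
        surj := fun M hM => by
          obtain ⟨x, hx⟩ := f.surj M hM
          obtain ⟨r, hr', k, hk, rfl⟩ := hRx x
          exact ⟨⟨r, hr'⟩, by
            show f.ρ r = M
            rw [← hx, map_mul, (f.ker k).2 hk, mul_one]⟩
        ker := fun r => by rw [hmem r]; exact f.ker r
        co_mul := fun a ha b hb => f.co_mul a ha b hb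
        co_surj := fun v => ⟨⟨f.lift v, mem_sup_right (f.lift_mem v)⟩, f.lift_mem v, f.co_lift v⟩
        co_ker := fun a ha => f.co_ker a ha
        co_conj := fun x a ha => f.co_conj x a ha }
    refine not_sectional_four hT' f' (fun a ha b hb => Subtype.ext (hab a ha b hb)) (fun r hr' => hWU hr')
      ?_ (fun a ha => h.sq (a : X) (hUK ha)) (fun a ha e => hker a ha (congrArg Subtype.val e))
      (fun a ha => Subtype.ext (h.exp a ha)) (sectional_of_surjective hr R (MonoidHom.id R) fun r => ⟨r, rfl⟩)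
    rw [Nat.card_congr (subgroupOfEquivOfLe (hWU.trans le_sup_right)).toEquiv, hW]
  -- a perfect double cover modulo `U`
  push Not at hsplit
  obtain ⟨k0, hk0, hk0R, hk0U⟩ := hsplit
  have hdR : d ∈ R := by
    have h1 := (hcos k0 hk0).resolve_left hk0U
    rw [show d = k0 * (d⁻¹ * k0)⁻¹ by group]
    exact mul_mem hk0R (inv_mem (mem_sup_right h1))
  have hKR : K ≤ R := fun k hk => by
    rcases hcos k hk with hu | hu
    · exact mem_sup_right hu
    · rw [← mul_inv_cancel_left d k]; exact mul_mem hdR (mem_sup_right hu)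
  have hRtop : R = ⊤ := by rwa [sup_eq_left.2 hKR] at hRK
  have hdconj : ∀ x, d⁻¹ * (x * d * x⁻¹) ∈ U := fun x => (hcos _ (hKn.conj_mem d hd x)).resolve_left fun hm =>
    hdU (by have := hUn.conj_mem _ hm x⁻¹; rwa [show x⁻¹ * (x * d * x⁻¹) * x⁻¹⁻¹ = d by group] at this)
  have hcover : ∀ a, f.ρ a * f.ρ a = 1 → f.ρ a ≠ 1 → a * a ∉ U := by
    intro a ha2 ha1 haU
    have hρU : U ≤ (MonoidHom.toHomUnits f.ρ).ker := fun u hu => Units.ext ((f.ker u).2 (hUK hu))
    let ρ' : X ⧸ U →* M3 := (Units.coeHom M3).comp (QuotientGroup.lift U (MonoidHom.toHomUnits f.ρ) hρU)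
    refine not_perfect_cover (ζ := (QuotientGroup.mk d : X ⧸ U)) ρ' ?_ ?_ ?_ ?_ ?_ ?_ ?_ ?_
      (t := QuotientGroup.mk a) ha1 ?_
    · intro M hM
      obtain ⟨x, hx⟩ := f.surj M hM
      exact ⟨QuotientGroup.mk x, hx⟩
    · intro q
      obtain ⟨x, rfl⟩ := QuotientGroup.mk_surjective q
      rw [← QuotientGroup.mk_mul, ← QuotientGroup.mk_mul, eq_comm, QuotientGroup.eq,
        show (d * x)⁻¹ * (x * d) = x⁻¹ * (d⁻¹ * (x * d * x⁻¹)) * x⁻¹⁻¹ by group]
      exact hUn.conj_mem _ (hdconj x) _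
    · exact fun e => hdU ((QuotientGroup.eq_one_iff d).1 e)
    · rw [← QuotientGroup.mk_mul, QuotientGroup.eq_one_iff]
      exact hWU (h.sq d hd)
    · intro q hq
      obtain ⟨x, rfl⟩ := QuotientGroup.mk_surjective q
      rcases hcos x ((f.ker x).1 hq) with hu | hu
      · exact Or.inl ((QuotientGroup.eq_one_iff x).2 hu)
      · exact Or.inr (QuotientGroup.eq.2 hu).symm
    · exact (f.ker d).2 hd
    · rw [show Nat.card (X ⧸ U) = U.index from rfl, ← relIndex_mul_index hUK,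
        show K.index = 168 from h.top.card]
      have h2 : U.relIndex K = 2 := by
        rw [relIndex, index_eq_two_iff]
        refine ⟨⟨d, hd⟩⁻¹, fun b => ?_⟩
        rw [mem_subgroupOf, mem_subgroupOf]
        push_cast
        by_cases hb : (b : X) ∈ U
        · refine Or.inr ⟨hb, fun e => hdU ?_⟩
          have := mul_mem (inv_mem hb) e
          rw [inv_mul_cancel_left] at this
          simpa using inv_mem this
        · refine Or.inl ⟨?_, hb⟩
          rcases hcos (b : X) b.2 with hu | hu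
          · exact absurd hu hb
          · have : (b : X) * d⁻¹ = d * (d⁻¹ * b) * d⁻¹ := by group
            rw [this]
            exact hUn.conj_mem _ hu d
      rw [h2]
    · have h1 : (commutator X).map (QuotientGroup.mk' U) = commutator (X ⧸ U) := by
        rw [_root_.commutator_def, map_commutator, map_top_of_surjective _ (QuotientGroup.mk'_surjective U),
          ← _root_.commutator_def]
      rw [← h1]
      refine top_le_iff.1 fun q _ => ?_
      obtain ⟨x, rfl⟩ := QuotientGroup.mk'_surjective U q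
      obtain ⟨c, hc, u, hu, rfl⟩ := (mem_sup_of_normal_right).1 (hRtop ▸ mem_top x)
      rw [map_mul, show QuotientGroup.mk' U u = 1 from (QuotientGroup.eq_one_iff u).2 hu, mul_one]
      exact mem_map_of_mem _ hc
    · rw [← QuotientGroup.mk_mul, QuotientGroup.eq_one_iff]
      exact haU
  obtain ⟨z, hz⟩ := f.surj _ hUdet
  set a := z * z with had
  have hρa : f.ρ a = aMat := by rw [had, map_mul, hz]; rfl
  have haK : a * a ∈ K := (f.ker _).1 (by rw [map_mul, hρa, haa])
  have haU : a * a ∉ U := hcover a (by rw [hρa, haa]) (by rw [hρa]; exact hane)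
  obtain ⟨u1, hu1, haa'⟩ : ∃ u1 ∈ U, a * a = d * u1 :=
    ⟨_, (hcos _ haK).resolve_left haU, by rw [mul_inv_cancel_left]⟩
  -- the commutator with `d`
  have hgW : ∀ u ∈ U, ∀ w ∈ W, cm d (u * w) = cm d u := fun u hu w hw => by
    rw [h.cm_mul_right hd (hUK hu) (h.le hw), (h.cm_central hw hd).2, mul_one]
  obtain ⟨hF1, hF2⟩ := f.map_lift (g := fun u => cm d u) hgW fun x u hu => by
    have hux : x * u * x⁻¹ ∈ U := hUn.conj_mem u hu x
    rw [conj_cm, ← mul_inv_cancel_left d (x * d * x⁻¹), h.cm_mul_left hd (hUK (hdconj x)) (hUK hux),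
      cm_eq_one_iff.2 (hab _ (hdconj x) _ hux), mul_one]
  have hF0 : cm d (f.lift 0) = 1 :=
    (h.cm_central ((f.co_ker _ (f.lift_mem 0)).1 (f.co_lift 0)) hd).2
  obtain ⟨hS1, hS2⟩ := f.map_lift (g := fun u => u * u)
    (fun u hu w hw => by rw [h.sq_mul (hUK hu) (h.le hw), h.exp w hw, (h.cm_central hw (hUK hu)).2, mul_one, mul_one])
    fun x u hu => by group
  -- the conjugates of a point
  set u := f.lift ![0, 0, 1] with hud
  have hu : u ∈ U := f.lift_mem _
  obtain ⟨r, hrd⟩ : ∃ r, r = u⁻¹ * (a * u * a⁻¹) := ⟨_, rfl⟩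
  have haru : a * u * a⁻¹ = u * r := by rw [hrd, mul_inv_cancel_left]
  have hrU : r ∈ U := hrd ▸ mul_mem (inv_mem hu) (hUn.conj_mem u hu a)
  have hcor : f.co r = ![1, 0, 0] := by
    rw [hrd, f.co_mul _ (inv_mem hu) _ (hUn.conj_mem u hu a), f.co_inv hu, f.co_conj a u hu, hρa,
      hud, f.co_lift, add_comm, hae2]
  have hw1 : r⁻¹ * (z * r * z⁻¹) ∈ W := (f.co_eq hrU (hUn.conj_mem r hrU z)).1 (by
    rw [f.co_conj z r hrU, hcor, hz, hU0])
  obtain ⟨s, hs, hss⟩ := hsurj _ hw1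
  obtain ⟨m, hmd⟩ : ∃ m, m = s * (z * s * z⁻¹) := ⟨_, rfl⟩
  have hszU : z * s * z⁻¹ ∈ U := hUn.conj_mem s hs z
  have hmU : m ∈ U := hmd ▸ mul_mem hs hszU
  have hcom : f.co m = f.co s + uniMat *ᵥ f.co s := by
    rw [hmd, f.co_mul s hs _ hszU, f.co_conj z s hs, hz]
  have hzr : z * r * z⁻¹ = r * (s * s) := by rw [hss, mul_inv_cancel_left]
  have har : a * r * a⁻¹ = r * (m * m) := by
    rw [had, show z * z * r * (z * z)⁻¹ = z * (z * r * z⁻¹) * z⁻¹ by group, hzr,
      show z * (r * (s * s)) * z⁻¹ = (z * r * z⁻¹) * ((z * s * z⁻¹) * (z * s * z⁻¹)) by group, hzr,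
      hmd, h.sq_mul (hUK hs) (hUK hszU), cm_eq_one_iff.2 (hab s hs _ hszU), mul_one, mul_assoc]
  have hsq2 : ∀ p ∈ U, ∀ q ∈ U, p * p * (q * q) = p * q * (p * q) := fun p hp q hq => by
    rw [h.sq_mul (hUK hp) (hUK hq), cm_eq_one_iff.2 (hab p hp q hq), mul_one]
  have hsqinj : ∀ p ∈ U, ∀ q ∈ U, p * p = q * q → f.co p = f.co q := fun p hp q hq e =>
    (f.co_eq hp hq).2 (hker _ (mul_mem (inv_mem hp) hq) (by
      rw [← hsq2 _ (inv_mem hp) q hq, ← mul_inv_rev, ← e, inv_mul_cancel]))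
  have hsquare : a * a * u * (a * a)⁻¹ = u * (r * r * (m * m)) := by
    rw [show a * a * u * (a * a)⁻¹ = a * (a * u * a⁻¹) * a⁻¹ by group, haru,
      show a * (u * r) * a⁻¹ = (a * u * a⁻¹) * (a * r * a⁻¹) by group, haru, har,
      mul_assoc u r, ← mul_assoc r r]
  have hconjd : a * a * u * (a * a)⁻¹ = cm d u * u := by
    rw [haa', show d * u1 * u * (d * u1)⁻¹ = d * (u1 * u * u1⁻¹) * d⁻¹ by group, hab u1 hu1 u hu,
      mul_inv_cancel_right]
    simp only [cm]; group
  rcases f.equivariant (fun v => cm d (f.lift v)) (fun v => h.comm_mem hd (hUK (f.lift_mem v))) hF0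
    h.wcomm h.exp hF2 with ⟨c, hcfix, hc⟩ | ⟨hinj, -⟩
  swap
  · -- `d` inverts `U`
    have hθ : ∀ v, cm d (f.lift v) = f.lift v * f.lift v := by
      intro v
      have hbij : ∀ v, ∃ w, cm d (f.lift v) = f.lift w * f.lift w := fun v => by
        obtain ⟨p, hp, e⟩ := hsurj _ (h.comm_mem hd (hUK (f.lift_mem v)))
        exact ⟨f.co p, e.symm.trans (hS1 p hp).symm⟩
      have hinjS : ∀ v w, f.lift v * f.lift v = f.lift w * f.lift w → v = w := fun v w e => by
        rw [← f.co_lift v, ← f.co_lift w]; exact hsqinj _ (f.lift_mem v) _ (f.lift_mem w) e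
      obtain ⟨w, hw⟩ := hbij v
      rw [hw]
      suffices hwv : w = v by rw [hwv]
      by_contra hwv
      by_cases hw0 : w = 0
      · subst hw0
        refine hwv (hinj (?_ : cm d (f.lift 0) = cm d (f.lift v)))
        rw [hw, hF0]
        exact (h.exp _ ((f.co_ker _ (f.lift_mem 0)).1 (f.co_lift 0))).symm
      obtain ⟨φ, c, hφ, hfv, hmv⟩ := point_moves v w hw0 hwv
      obtain ⟨x, hx⟩ := f.exists_tv hφ
      refine hmv (hinjS _ _ ?_)
      rw [← hw, ← hx, hS2, ← hw, ← hF2, hx, hfv]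
    have h1 := hsquare.symm.trans hconjd
    rw [← h.central u (hUK hu) _ (h.comm_mem hd (hUK hu)), ← hF1 u hu, hθ, hS1 u hu] at h1
    have h2 := hsqinj _ (mul_mem hrU hmU) u hu (by rw [← hsq2 r hrU m hmU]; exact mul_left_cancel h1)
    rw [f.co_mul r hrU m hmU, hcor, hcom, hud, f.co_lift] at h2
    exact hne _ h2
  -- `d` centralizes `U`
  have hc1 : c = 1 := h.fixed_eq_one (by rw [hW]; norm_num)
    ((hc ![1, 0, 0] (by decide)) ▸ h.comm_mem hd (hUK (f.lift_mem _))) hcfix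
  have hdu : ∀ p ∈ U, cm d p = 1 := fun p hp => by
    by_cases h0 : f.co p = 0
    · exact (h.cm_central ((f.co_ker p hp).1 h0) hd).2
    · rw [← hF1 p hp, hc _ h0, hc1]
  have hmm : a * r * a⁻¹ = r * (r * r) := by
    have h1 := hsquare.symm.trans hconjd
    rw [hdu u hu, one_mul] at h1
    have h2 : r * r * (m * m) = 1 := mul_left_cancel (h1.trans (mul_one u).symm)
    have h3 : m * m = r * r := by
      calc m * m = (r * r) * (r * r * (m * m)) := by rw [← mul_assoc, h.exp _ (h.sq r (hUK hrU)), one_mul]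
        _ = r * r := by rw [h2, mul_one]
    rw [har, h3]
  -- the involution
  obtain ⟨p0, hp0, hp0d⟩ := hsurj _ (h.sq d hd)
  obtain ⟨ω, hωd⟩ : ∃ ω, ω = d * p0⁻¹ := ⟨_, rfl⟩
  have hωK : ω ∈ K := hωd ▸ mul_mem hd (inv_mem (hUK hp0))
  have hω2 : ω * ω = 1 := by
    rw [hωd, h.sq_mul hd (inv_mem (hUK hp0)), cm_eq_one_iff.2 (cm_eq_one_iff.1 (hdu _ (inv_mem hp0))),
      mul_one, ← mul_inv_rev, hp0d, mul_inv_cancel]
  have hωU : ω ∉ U := fun e => hdU (by
    rw [show d = ω * p0 by rw [hωd, inv_mul_cancel_right]]; exact mul_mem e hp0)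
  have hωu : ∀ p ∈ U, ω * p = p * ω := fun p hp => by
    rw [hωd, mul_assoc, hab _ (inv_mem hp0) p hp, ← mul_assoc, cm_eq_one_iff.1 (hdu p hp), mul_assoc]
  have hdecω : ∀ k ∈ K, k ∈ U ∨ ω * k ∈ U := fun k hk => by
    rcases hcos k hk with hu' | hu'
    · exact Or.inl hu'
    · refine Or.inr ?_
      rw [← inv_eq_of_mul_eq_one_right hω2, hωd, mul_inv_rev, inv_inv, mul_assoc]
      exact mul_mem hp0 hu'
  have hωcos : ∀ x, ω⁻¹ * (x * ω * x⁻¹) ∈ W := fun x => by
    have hxK := hKn.conj_mem ω hωK x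
    have hxU : x * ω * x⁻¹ ∉ U := fun hm => hωU (by
      have := hUn.conj_mem _ hm x⁻¹; rwa [show x⁻¹ * (x * ω * x⁻¹) * x⁻¹⁻¹ = ω by group] at this)
    rw [inv_eq_of_mul_eq_one_right hω2]
    have hU' := (hdecω _ hxK).resolve_left hxU
    refine hker _ hU' ?_
    rw [h.sq_mul hωK hxK, hω2, show x * ω * x⁻¹ * (x * ω * x⁻¹) = x * (ω * ω) * x⁻¹ by group, hω2]
    rw [mul_one, mul_inv_cancel, one_mul, one_mul]
    have hxeq : x * ω * x⁻¹ = ω * (ω * (x * ω * x⁻¹)) := by rw [← mul_assoc ω ω, hω2, one_mul]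
    rw [hxeq, h.cm_mul_right hωK hωK (hUK hU'), cm_self, one_mul]
    exact cm_eq_one_iff.2 (hωu _ hU')
  obtain ⟨u', hu', haωu⟩ : ∃ u' ∈ U, a * a = ω * u' :=
    ⟨p0 * u1, mul_mem hp0 hu1, by rw [haa', ← mul_assoc, hωd, inv_mul_cancel_right]⟩
  have hcu' : f.co u' = 0 ∨ f.co u' = ![1, 0, 0] := by
    refine hUfix _ ?_
    rw [← hz, ← f.co_conj z u' hu']
    have hze : z * (ω * u') * z⁻¹ = ω * u' := by calc z * (ω * u') * z⁻¹ = z * (z * z * (z * z)) * z⁻¹ := by rw [← haωu, had]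
        _ = (z * z) * (z * z) := by group
        _ = ω * u' := by rw [← had, haωu]
    have h1 : (ω⁻¹ * (z * ω * z⁻¹)) * (z * u' * z⁻¹) = u' := by
      calc (ω⁻¹ * (z * ω * z⁻¹)) * (z * u' * z⁻¹) = ω⁻¹ * (z * (ω * u') * z⁻¹) := by group
        _ = u' := by rw [hze, inv_mul_cancel_left]
    conv_rhs => rw [← h1, f.co_mul _ (hWU (hωcos z)) _ (hUn.conj_mem u' hu' z),
      (f.co_ker _ (hWU (hωcos z))).2 (hωcos z), zero_add]
  obtain ⟨w0, hw0, haω⟩ : ∃ w0 ∈ W, a * (ω * w0) = ω * w0 * a := by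
    rcases hcu' with h0 | h0
    · exact ⟨u', (f.co_ker u' hu').1 h0, by
        rw [← haωu, ← mul_assoc]⟩
    have hrw : r⁻¹ * u' ∈ W := (f.co_eq hrU hu').1 (hcor.trans h0.symm)
    obtain ⟨p, hp, hpw⟩ := hsurj _ hrw
    have hap : a * p * a⁻¹ ∈ U := hUn.conj_mem p hp a
    have hrr : r * r * (r * r) = 1 := h.exp _ (h.sq r (hUK hrU))
    have hc2 : a * u' * a⁻¹ = u' ∨ a * u' * a⁻¹ = u' * (r * r) := by
      have hu'e : u' = r * (p * p) := by rw [hpw, mul_inv_cancel_left]
      have h2 : a * u' * a⁻¹ = r * (r * r) * ((a * p * a⁻¹) * (a * p * a⁻¹)) := by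
        rw [hu'e, ← hmm]; group
      rcases hA (f.co p) with h3 | h3
      · right
        have h4 : (a * p * a⁻¹)⁻¹ * p ∈ W := (f.co_eq hap hp).1 (by
          rw [f.co_conj a p hp, hρa]
          calc aMat *ᵥ f.co p = aMat *ᵥ f.co p + (f.co p + f.co p) := by rw [vec_add_self, add_zero]
            _ = f.co p := by rw [← add_assoc, h3, zero_add])
        have h5 : p * p = (a * p * a⁻¹) * (a * p * a⁻¹) := by
          conv_lhs => rw [← mul_inv_cancel_left (a * p * a⁻¹) p]
          rw [h.sq_mul (hUK hap) (h.le h4), h.exp _ h4, (h.cm_central h4 (hUK hap)).2, mul_one, mul_one]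
        rw [h2, ← h5, hu'e, mul_assoc r (r * r), mul_assoc r (p * p),
          h.wcomm _ (h.sq r (hUK hrU)) _ (h.sq p (hUK hp))]
      · left
        have h4 : (a * p * a⁻¹)⁻¹ * (r * p) ∈ W := (f.co_eq hap (mul_mem hrU hp)).1 (by
          rw [f.co_mul r hrU p hp, f.co_conj a p hp, hρa, hcor, ← h3, add_assoc, vec_add_self, add_zero])
        have h5 : r * r * (p * p) = (a * p * a⁻¹) * (a * p * a⁻¹) := by
          rw [hsq2 r hrU p hp]
          conv_lhs => rw [← mul_inv_cancel_left (a * p * a⁻¹) (r * p)]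
          rw [h.sq_mul (hUK hap) (h.le h4), h.exp _ h4, (h.cm_central h4 (hUK hap)).2, mul_one, mul_one]
        rw [h2, ← h5, hu'e, mul_assoc r, ← mul_assoc (r * r) (r * r), hrr, one_mul]
    have hfixωu : a * (ω * u') * a⁻¹ = ω * u' := by rw [← haωu]; group
    rcases hc2 with h2 | h2
    · refine ⟨1, one_mem _, ?_⟩
      rw [mul_one]
      have h3 : a * ω * a⁻¹ = ω := by
        refine mul_right_cancel (b := u') ?_
        nth_rw 1 [← h2]
        rw [← hfixωu]; group
      calc a * ω = (a * ω * a⁻¹) * a := by group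
        _ = ω * a := by rw [h3]
    · have h3 : a * ω * a⁻¹ = ω * (r * r) := by
        refine mul_right_cancel (b := u' * (r * r)) ?_
        nth_rw 1 [← h2]
        rw [show a * ω * a⁻¹ * (a * u' * a⁻¹) = a * (ω * u') * a⁻¹ by group, hfixωu,
          hab u' hu' _ (hWU (h.sq r (hUK hrU))), mul_assoc ω, ← mul_assoc (r * r) (r * r), hrr, one_mul]
      refine ⟨u * u, h.sq u (hUK hu), ?_⟩
      calc a * (ω * (u * u)) = (a * ω * a⁻¹) * ((a * u * a⁻¹) * (a * u * a⁻¹)) * a := by group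
        _ = ω * (r * r) * ((u * r) * (u * r)) * a := by rw [h3, haru]
        _ = ω * (u * u) * a := by
          rw [← hsq2 u hu r hrU, h.wcomm _ (h.sq u (hUK hu)) _ (h.sq r (hUK hrU)), mul_assoc ω,
            ← mul_assoc (r * r) (r * r), hrr, one_mul]
  set o := ω * w0 with hod
  have hoK : o ∈ K := mul_mem hωK (h.le hw0)
  have hoC : ∀ k ∈ K, k * o = o * k := by
    intro k hk
    have hKω : k * ω = ω * k := by
      rcases hdecω k hk with hk' | hk'
      · exact (hωu k hk').symm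
      · have h1 := (hωu _ hk').symm
        rw [← mul_assoc ω ω, hω2, one_mul, mul_assoc] at h1
        exact (eq_inv_mul_iff_mul_eq.1 (by rw [inv_eq_of_mul_eq_one_right hω2]; exact h1.symm)).symm
    rw [hod, ← mul_assoc, hKω, mul_assoc, h.central k hk w0 hw0, ← mul_assoc]
  have hocos : ∀ x, o⁻¹ * (x * o * x⁻¹) ∈ W := fun x => by
    rw [hod, show (ω * w0)⁻¹ * (x * (ω * w0) * x⁻¹) = w0⁻¹ * (ω⁻¹ * (x * ω * x⁻¹)) * (x * w0 * x⁻¹) by group]
    exact mul_mem (mul_mem (inv_mem hw0) (hωcos x)) (h.normal.conj_mem w0 hw0 x)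
  obtain ⟨w, hw, hfix⟩ := exists_fixed h.top hW hoC hocos h.normal haω
    (fun e => hane (hρa ▸ (f.ker a).2 e)) haK
  set ω' := o * w with hω'
  have hω'K : ω' ∈ K := mul_mem hoK (h.le hw)
  have hω'U : ω' ∉ U := fun e => hωU (by
    have h1 := mul_mem e (inv_mem (hWU (mul_mem hw0 hw)))
    rwa [hω', hod, mul_assoc ω, mul_inv_cancel_right] at h1)
  refine not_rank_quotient h hW f hUK le_rfl hWU hab hω'K hfix ?_ (fun e => hω'U (hWU e)) ?_
    (fun e => absurd e hω'U) (fun b hb => Or.inl hb) hker hr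
  · rw [hω', hod, mul_assoc ω, h.sq_mul hωK (h.le (mul_mem hw0 hw)), hω2, h.exp _ (mul_mem hw0 hw),
      (h.cm_central (mul_mem hw0 hw) hωK).2, mul_one, mul_one]
  · intro k hk
    rcases hdecω k hk with hk' | hk'
    · exact Or.inl hk'
    · refine Or.inr ?_
      rw [hω', hod, show ω * w0 * w * k = ω * ((w0 * w) * k) by group,
        ← h.central k hk _ (mul_mem hw0 hw), ← mul_assoc]
      exact mul_mem hk' (hWU (mul_mem hw0 hw))

end Layer

end CfsgLib.RankFourQuotient.LThree
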