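import Mathlib

/-!
Owner: helper12. Layers that are natural modules for `L₃(2)`.
-/

set_option autoImplicit false
set_option maxHeartbeats 800000
set_option linter.style.haveILetI false

namespace CfsgLib.RankFourQuotient.LThree

open Matrix Subgroup

abbrev M3 := Matrix (Fin 3) (Fin 3) (ZMod 2)
abbrev V3 := Fin 3 → ZMod 2

/-- A transvection. -/
def tv (φ c : V3) : M3 := 1 + vecMulVec c φ

def sevenMat : M3 := !![0, 0, 1; 1, 0, 1; 0, 1, 0]
def uniMat : M3 := !![1, 1, 0; 0, 1, 1; 0, 0, 1]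
def threeMat : M3 := !![1, 0, 0; 0, 0, 1; 0, 1, 1]
def aMat : M3 := uniMat * uniMat
def bMat : M3 := threeMat * aMat * (threeMat * threeMat)

theorem tv_det : ∀ φ c : V3, φ ⬝ᵥ c = 0 → (tv φ c).det = 1 := by decide +kernel

theorem sevenMat_det : sevenMat.det = 1 := by decide +kernel
theorem sevenMat_pow : sevenMat ^ 7 = 1 := by decide +kernel
theorem sevenMat_transitive :
    ∀ v : V3, v ≠ 0 → ∃ i : Fin 7, (sevenMat ^ (i : ℕ)) *ᵥ ![1, 0, 0] = v := by decide +kernel
theorem sevenMat_fixed : ∀ v : V3, sevenMat *ᵥ v = v → v = 0 := by decide +kernel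

/-- The setwise stabiliser of a line fixes no point. -/
theorem line_moves (u v : V3) (hu : u ≠ 0) (hv : v ≠ 0) (huv : u ≠ v) (w : V3) (hw : w ≠ 0) :
    ∃ φ c : V3, φ ⬝ᵥ c = 0 ∧ tv φ c *ᵥ w ≠ w ∧
      (tv φ c *ᵥ u = u ∨ tv φ c *ᵥ u = v ∨ tv φ c *ᵥ u = u + v) ∧
      (tv φ c *ᵥ v = u ∨ tv φ c *ᵥ v = v ∨ tv φ c *ᵥ v = u + v) := by
  have key : ∀ u : V3, u = 0 ∨ ∀ v : V3, v = 0 ∨ u = v ∨ ∀ w : V3, w = 0 ∨
      ∃ φ : V3, ∃ c : V3, φ ⬝ᵥ c = 0 ∧ tv φ c *ᵥ w ≠ w ∧
        (tv φ c *ᵥ u = u ∨ tv φ c *ᵥ u = v ∨ tv φ c *ᵥ u = u + v) ∧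
        (tv φ c *ᵥ v = u ∨ tv φ c *ᵥ v = v ∨ tv φ c *ᵥ v = u + v) := by
    set_option synthInstance.maxHeartbeats 100000 in
    set_option synthInstance.maxSize 1024 in decide +kernel
  exact ((((key u).resolve_left hu) v).resolve_left hv).resolve_left huv w |>.resolve_left hw

/-- The stabiliser of a point moves every other nonzero point. -/
theorem point_moves : ∀ u w : V3, w ≠ 0 → w ≠ u →
    ∃ φ c : V3, φ ⬝ᵥ c = 0 ∧ tv φ c *ᵥ u = u ∧ tv φ c *ᵥ w ≠ w := by decide +kernel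

theorem vec_add_self : ∀ v : V3, v + v = 0 := by decide

theorem card_det_one : Nat.card {M : M3 // M.det = 1} = 168 := by
  rw [Nat.card_eq_fintype_card]
  decide +kernel

/-- A layer `A / B` on which `X / K` acts as the natural module. -/
structure Frame {X : Type*} [Group X] (K A B : Subgroup X) where
  ρ : X →* M3
  co : X → V3
  det : ∀ x, (ρ x).det = 1
  surj : ∀ M : M3, M.det = 1 → ∃ x, ρ x = M
  ker : ∀ x, ρ x = 1 ↔ x ∈ K
  co_mul : ∀ a ∈ A, ∀ b ∈ A, co (a * b) = co a + co b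
  co_surj : ∀ v, ∃ a ∈ A, co a = v
  co_ker : ∀ a ∈ A, (co a = 0 ↔ a ∈ B)
  co_conj : ∀ x, ∀ a ∈ A, co (x * a * x⁻¹) = ρ x *ᵥ co a

namespace Frame

variable {X : Type*} [Group X] {K A B : Subgroup X} (f : Frame K A B)
include f

theorem exists_tv {φ c : V3} (h : φ ⬝ᵥ c = 0) : ∃ x, f.ρ x = tv φ c :=
  f.surj _ (tv_det φ c h)

theorem co_one : f.co 1 = 0 := (f.co_ker 1 (one_mem _)).2 (one_mem _)

theorem co_inv {a : X} (ha : a ∈ A) : f.co a⁻¹ = f.co a := by
  have h := f.co_mul a ha a⁻¹ (inv_mem ha)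
  rw [mul_inv_cancel, f.co_one] at h
  calc f.co a⁻¹ = (f.co a + f.co a) + f.co a⁻¹ := by rw [vec_add_self, zero_add]
    _ = f.co a + (f.co a + f.co a⁻¹) := add_assoc _ _ _
    _ = f.co a := by rw [← h, add_zero]

theorem co_eq {a b : X} (ha : a ∈ A) (hb : b ∈ A) : f.co a = f.co b ↔ a⁻¹ * b ∈ B := by
  rw [← f.co_ker _ (mul_mem (inv_mem ha) hb), f.co_mul _ (inv_mem ha) _ hb, f.co_inv ha]
  exact ⟨fun h => by rw [h, vec_add_self], fun h => by
    calc f.co a = f.co a + (f.co a + f.co b) := by rw [h, add_zero]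
      _ = f.co b := by rw [← add_assoc, vec_add_self, zero_add]⟩

/-- An equivariant map from the layer into a commutative elementary normal subgroup `W`. -/
theorem equivariant {W : Subgroup X} (F : V3 → X) (hF : ∀ v, F v ∈ W)
    (hF0 : F 0 = 1) (hc : ∀ a ∈ W, ∀ b ∈ W, a * b = b * a) (he : ∀ a ∈ W, a * a = 1)
    (hFx : ∀ x v, F (f.ρ x *ᵥ v) = x * F v * x⁻¹) :
    (∃ c : X, (∀ x, x * c * x⁻¹ = c) ∧ ∀ v, v ≠ 0 → F v = c) ∨
      (Function.Injective F ∧ (Finite W → Nat.card W ≤ 8 →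
        (∀ u v, F (u + v) = F u * F v) ∧ ∀ w ∈ W, ∃ v, F v = w)) := by
  obtain ⟨s, hs⟩ := f.surj _ sevenMat_det
  have hsp : ∀ (i : ℕ) v, F ((sevenMat ^ i) *ᵥ v) = s ^ i * F v * (s ^ i)⁻¹ := fun i v => by
    rw [← hs, ← map_pow, hFx]
  by_cases hconst : ∀ v, v ≠ 0 → F v = F ![1, 0, 0]
  · refine Or.inl ⟨F ![1, 0, 0], fun x => ?_, hconst⟩
    have h0 : f.ρ x *ᵥ ![1, 0, 0] ≠ 0 := by
      intro h
      have h1 : f.ρ x⁻¹ *ᵥ (f.ρ x *ᵥ ![1, 0, 0]) = ![1, 0, 0] := by
        rw [mulVec_mulVec, ← map_mul, inv_mul_cancel, map_one, one_mulVec]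
      rw [h, mulVec_zero] at h1
      exact absurd h1 (by decide)
    rw [← hFx, hconst _ h0]
  refine Or.inr ?_
  have hinj0 : ∀ v, v ≠ 0 → F v ≠ 1 := by
    intro v hv h1
    refine hconst fun u hu => ?_
    obtain ⟨i, rfl⟩ := sevenMat_transitive v hv
    obtain ⟨j, rfl⟩ := sevenMat_transitive u hu
    rw [hsp] at h1
    have : F ![1, 0, 0] = 1 := by
      calc F ![1, 0, 0] = (s ^ (i:ℕ))⁻¹ * (s ^ (i:ℕ) * F ![1, 0, 0] * (s ^ (i:ℕ))⁻¹) * s ^ (i:ℕ) := by
            group
        _ = 1 := by rw [h1]; group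
    rw [hsp, this]; group
  have hinj : Function.Injective F := by
    have key : ∀ (i j : Fin 7), i ≠ j → F ((sevenMat ^ (i : ℕ)) *ᵥ ![1, 0, 0]) ≠
        F ((sevenMat ^ (j : ℕ)) *ᵥ ![1, 0, 0]) := by
      intro i j hij h
      refine hconst fun v hv => ?_
      obtain ⟨k, rfl⟩ := sevenMat_transitive v hv
      -- the difference generates the group of order seven
      obtain ⟨n, hn⟩ : ∃ n : ℕ, (k : ℕ) % 7 = (n * ((i : ℕ) + 7 - (j : ℕ))) % 7 := by
        have : ∀ i j k : Fin 7, i ≠ j → ∃ n : Fin 7,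
            (k : ℕ) % 7 = ((n : ℕ) * ((i : ℕ) + 7 - (j : ℕ))) % 7 := by decide
        obtain ⟨n, hn⟩ := this i j k hij
        exact ⟨n, hn⟩
      have hfix : F ((sevenMat ^ ((i : ℕ) + 7 - (j : ℕ))) *ᵥ ![1, 0, 0]) = F ![1, 0, 0] := by
        have e : sevenMat ^ ((i : ℕ) + 7 - (j : ℕ)) = sevenMat ^ (7 - (j : ℕ)) * sevenMat ^ (i : ℕ) := by
          rw [← pow_add]; congr 1; omega
        have e' : sevenMat ^ (7 - (j : ℕ)) * sevenMat ^ (j : ℕ) = 1 := by
          rw [← pow_add, show 7 - (j : ℕ) + (j : ℕ) = 7 by omega, sevenMat_pow]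
        rw [e, ← mulVec_mulVec, hsp, h, ← hsp, mulVec_mulVec, e', one_mulVec]
      have hm : ∀ n : ℕ, F ((sevenMat ^ (n * ((i : ℕ) + 7 - (j : ℕ)))) *ᵥ ![1, 0, 0]) = F ![1, 0, 0] := by
        intro n
        induction n with
        | zero => simp
        | succ n ih =>
          rw [Nat.succ_mul, pow_add, ← mulVec_mulVec, hsp, hfix, ← hsp, ih]
      rw [← hm n, pow_eq_pow_mod (k : ℕ) sevenMat_pow,
        pow_eq_pow_mod (n * _) sevenMat_pow, hn]
    intro u v huv
    by_contra hne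
    by_cases hu : u = 0
    · subst hu
      exact hinj0 v (Ne.symm hne) (huv.symm.trans hF0)
    by_cases hv : v = 0
    · subst hv
      exact hinj0 u hu (huv.trans hF0)
    obtain ⟨i, rfl⟩ := sevenMat_transitive u hu
    obtain ⟨j, rfl⟩ := sevenMat_transitive v hv
    exact key i j (fun e => hne (by rw [e])) huv
  refine ⟨hinj, fun hfin hW => ?_⟩
  have hsurj : ∀ w ∈ W, ∃ v, F v = w := by
    intro w hw
    let G : V3 → W := fun v => ⟨F v, hF v⟩
    have hG : Function.Injective G := fun a b h => hinj (congrArg Subtype.val h)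
    have hb : Function.Bijective G := hG.bijective_of_nat_card_le (by
      rw [show Nat.card V3 = 8 by simp [Nat.card_eq_fintype_card]]; exact hW)
    obtain ⟨v, hv⟩ := hb.2 ⟨w, hw⟩
    exact ⟨v, congrArg Subtype.val hv⟩
  refine ⟨fun u v => ?_, hsurj⟩
  by_cases hu : u = 0
  · rw [hu, hF0, zero_add, one_mul]
  by_cases hv : v = 0
  · rw [hv, hF0, add_zero, mul_one]
  by_cases huv : u = v
  · rw [huv, vec_add_self, hF0, he _ (hF v)]
  have hprod : ∀ a b c, a ∈ W → b ∈ W → c ∈ W → a * b * c = b * a * c ∧ a * b * c = a * c * b :=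
    fun a b c ha hb hc' => ⟨by rw [hc a ha b hb], by rw [mul_assoc, hc b hb c hc', mul_assoc]⟩
  obtain ⟨w, hw⟩ := hsurj (F u * F v * F (u + v)) (mul_mem (mul_mem (hF u) (hF v)) (hF _))
  suffices hw0 : w = 0 by
    rw [hw0, hF0] at hw
    calc F (u + v) = (F u * F v * F (u + v)) * F (u + v) := by rw [← hw, one_mul]
      _ = F u * F v := by rw [mul_assoc, he _ (hF _), mul_one]
  by_contra hw0
  obtain ⟨φ, c, hφ, hmove, hu', hv'⟩ := line_moves u v hu hv huv w hw0
  obtain ⟨x, hx⟩ := f.exists_tv hφ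
  refine hmove (hinj ?_)
  rw [← hx, hFx, hw]
  rw [show x * (F u * F v * F (u + v)) * x⁻¹ =
    (x * F u * x⁻¹) * (x * F v * x⁻¹) * (x * F (u + v) * x⁻¹) by group, ← hFx, ← hFx, ← hFx, hx,
    mulVec_add]
  have hne : tv φ c *ᵥ u ≠ tv φ c *ᵥ v := by
    intro h
    refine huv ?_
    have h1 := congrArg (f.ρ x⁻¹ *ᵥ ·) h
    simp only [mulVec_mulVec, ← hx, ← map_mul, inv_mul_cancel, map_one, one_mulVec] at h1
    exact h1
  have e1 : u + (u + v) = v := by rw [← add_assoc, vec_add_self, zero_add]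
  have e2 : v + (u + v) = u := by rw [add_comm u v, ← add_assoc, vec_add_self, zero_add]
  have e3 : u + v + u = v := by rw [add_comm, e1]
  have e4 : u + v + v = u := by rw [add_assoc, vec_add_self, add_zero]
  have e5 : v + u = u + v := add_comm v u
  have hperm : ∀ a b c, a ∈ W → b ∈ W → c ∈ W →
      a * c * b = a * b * c ∧ b * a * c = a * b * c ∧ b * c * a = a * b * c ∧
      c * a * b = a * b * c ∧ c * b * a = a * b * c := fun a b c ha hb hc' =>
    ⟨(hprod a c b ha hc' hb).2, (hprod b a c hb ha hc').1,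
      by rw [(hprod b c a hb hc' ha).2, (hprod b a c hb ha hc').1],
      by rw [(hprod c a b hc' ha hb).1, (hprod a c b ha hc' hb).2],
      by rw [(hprod c b a hc' hb ha).1, (hprod b c a hb hc' ha).2, (hprod b a c hb ha hc').1]⟩
  obtain ⟨p1, p2, p3, p4, p5⟩ := hperm (F u) (F v) (F (u + v)) (hF _) (hF _) (hF _)
  rcases hu' with h1 | h1 | h1 <;> rcases hv' with h2 | h2 | h2 <;> rw [h1, h2] at hne ⊢ <;>
    first
      | exact absurd rfl hne
      | (rw [e1]; exact p1)
      | (rw [e2]; exact p3)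
      | (rw [e3]; exact p4)
      | (rw [e4]; exact p5)
      | (rw [e5]; exact p2)

end Frame

end CfsgLib.RankFourQuotient.LThree

namespace CfsgLib.RankFourQuotient.LThree

open Matrix Subgroup
open scoped commutatorElement

/-- `K` is the kernel of a map onto a simple group of order 168. -/
structure Top {X : Type*} [Group X] (K : Subgroup X) [K.Normal] : Prop where
  card : Nat.card (X ⧸ K) = 168
  simple : IsSimpleGroup (X ⧸ K)

theorem mulVec_eq_matrix (M : M3) (h : ∀ v, M *ᵥ v = v) : M = 1 :=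
  Matrix.toLin'.injective (LinearMap.ext fun v => by
    rw [toLin'_apply, toLin'_one, LinearMap.id_apply]; exact h v)

theorem zmod_two_unit : ∀ a b : ZMod 2, a * b = 1 → a = 1 := by decide

variable {X : Type*} [Group X]

theorem Top.normal_cases {K : Subgroup X} [K.Normal] (h : Top K) (N : Subgroup X) [N.Normal]
    (hKN : K ≤ N) : N = K ∨ N = ⊤ := by
  haveI := h.simple
  have hn : (N.map (QuotientGroup.mk' K)).Normal :=
    (inferInstance : N.Normal).map _ (QuotientGroup.mk'_surjective K)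
  have hback : (N.map (QuotientGroup.mk' K)).comap (QuotientGroup.mk' K) = N := by
    rw [comap_map_eq, QuotientGroup.ker_mk', sup_eq_left.2 hKN]
  rcases hn.eq_bot_or_eq_top with e | e
  · left; rw [← hback, e, MonoidHom.comap_bot, QuotientGroup.ker_mk']
  · right; rw [← hback, e, comap_top]

theorem Top.commutator_sup {K : Subgroup X} [K.Normal] (h : Top K) : commutator X ⊔ K = ⊤ := by
  rcases h.normal_cases (commutator X ⊔ K) le_sup_right with e | e
  · haveI := h.simple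
    have hcomm : ∀ a b : X ⧸ K, a * b = b * a := by
      intro a b
      obtain ⟨a, rfl⟩ := QuotientGroup.mk_surjective a
      obtain ⟨b, rfl⟩ := QuotientGroup.mk_surjective b
      rw [← QuotientGroup.mk_mul, ← QuotientGroup.mk_mul, QuotientGroup.eq, ← e]
      refine mem_sup_left ?_
      rw [show (a * b)⁻¹ * (b * a) = ⁅b⁻¹, a⁻¹⁆ by group]
      exact commutator_mem_commutator (mem_top _) (mem_top _)
    letI : CommGroup (X ⧸ K) := { (inferInstance : Group (X ⧸ K)) with mul_comm := hcomm }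
    haveI : Finite (X ⧸ K) := Nat.finite_of_card_ne_zero (by rw [h.card]; norm_num)
    have h2 := IsSimpleGroup.prime_card (α := X ⧸ K)
    rw [h.card] at h2
    norm_num at h2
  · exact e

/-- A layer of order eight moved by `X` is a natural module. -/
theorem nonempty_frame {K A B : Subgroup X} [K.Normal] [A.Normal] [B.Normal] (hT : Top K)
    (hBA : B ≤ A) (hcard : (B.subgroupOf A).index = 8) (hsq : ∀ a ∈ A, a * a ∈ B)
    (htriv : ∀ k ∈ K, ∀ a ∈ A, a⁻¹ * (k * a * k⁻¹) ∈ B)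
    (hmove : ∃ x, ∃ a ∈ A, a⁻¹ * (x * a * x⁻¹) ∉ B) : Nonempty (Frame K A B) := by
  classical
  haveI : Fact (Nat.Prime 2) := ⟨Nat.prime_two⟩
  haveI hn : (B.subgroupOf A).Normal := inferInstance
  let Q := A ⧸ B.subgroupOf A
  have hsq' : ∀ q : Q, q * q = 1 := by
    intro q
    obtain ⟨a, rfl⟩ := QuotientGroup.mk_surjective q
    rw [← QuotientGroup.mk_mul, QuotientGroup.eq_one_iff]
    exact hsq a a.2
  have hqc : ∀ p q : Q, p * q = q * p := by
    have h1 : ∀ r : Q, r⁻¹ = r := fun r => inv_eq_of_mul_eq_one_right (hsq' r)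
    intro p q
    calc p * q = (p * q)⁻¹ := (h1 _).symm
      _ = q * p := by rw [_root_.mul_inv_rev, h1, h1]
  letI : CommGroup Q := { (inferInstance : Group Q) with mul_comm := hqc }
  letI : Module (ZMod 2) (Additive Q) := AddCommGroup.zmodModule fun q => by
    rw [two_nsmul]; exact congrArg Additive.ofMul (hsq' q.toMul)
  haveI : Finite (Additive Q) := Nat.finite_of_card_ne_zero (by
    rw [Nat.card_congr (Additive.toMul (α := Q)), show Nat.card Q = (B.subgroupOf A).index from rfl,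
      hcard]; norm_num)
  have hrank : Module.finrank (ZMod 2) (Additive Q) = 3 := by
    have h := Module.natCard_eq_pow_finrank (K := ZMod 2) (V := Additive Q)
    rw [Nat.card_congr (Additive.toMul (α := Q)), show Nat.card Q = (B.subgroupOf A).index from rfl,
      hcard, Nat.card_zmod, show 8 = 2 ^ 3 from rfl] at h
    exact (Nat.pow_right_injective le_rfl h).symm
  let e : V3 ≃ₗ[ZMod 2] Additive Q :=
    ((Module.finBasisOfFinrankEq (ZMod 2) (Additive Q) hrank).equivFun).symm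
  have hconj : ∀ x : X, ∀ a : A, x * a * x⁻¹ ∈ A := fun x a =>
    (inferInstance : A.Normal).conj_mem _ a.2 x
  have hwd : ∀ (x : X) (a b : A), (a : Q) = b →
      ((⟨x * a * x⁻¹, hconj x a⟩ : A) : Q) = ((⟨x * b * x⁻¹, hconj x b⟩ : A) : Q) := by
    intro x a b h
    rw [QuotientGroup.eq, mem_subgroupOf] at h ⊢
    push_cast at h ⊢
    rw [show (x * a * x⁻¹)⁻¹ * (x * b * x⁻¹) = x * ((a : X)⁻¹ * b) * x⁻¹ by group]
    exact (inferInstance : B.Normal).conj_mem _ h x
  let act : X → Q → Q := fun x => Quotient.lift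
    (fun a : A => ((⟨x * a * x⁻¹, hconj x a⟩ : A) : Q)) (fun a b h => hwd x a b (Quotient.sound h))
  have hact : ∀ x (a : A), act x (a : Q) = ((⟨x * a * x⁻¹, hconj x a⟩ : A) : Q) := fun _ _ => rfl
  have hactmul : ∀ x (p q : Q), act x (p * q) = act x p * act x q := by
    intro x p q
    obtain ⟨a, rfl⟩ := QuotientGroup.mk_surjective p
    obtain ⟨b, rfl⟩ := QuotientGroup.mk_surjective q
    rw [← QuotientGroup.mk_mul, hact, hact, hact, ← QuotientGroup.mk_mul]
    congr 1
    exact Subtype.ext (by push_cast; group)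
  let L : X → (V3 →ₗ[ZMod 2] V3) := fun x => e.symm.toLinearMap ∘ₗ
    ((AddMonoidHom.mk' (fun q : Additive Q => Additive.ofMul (act x q.toMul))
      (fun p q => congrArg Additive.ofMul (hactmul x p.toMul q.toMul))).toZModLinearMap 2) ∘ₗ
    e.toLinearMap
  have hL : ∀ x v, L x v = e.symm (Additive.ofMul (act x (e v).toMul)) := fun _ _ => rfl
  let ρ : X →* M3 :=
    { toFun := fun x => LinearMap.toMatrix' (L x)
      map_one' := by
        rw [← LinearMap.toMatrix'_one]
        congr 1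
        refine LinearMap.ext fun v => ?_
        rw [hL]
        obtain ⟨a, ha⟩ := QuotientGroup.mk_surjective (e v).toMul
        rw [← ha, hact, show (⟨1 * a * 1⁻¹, hconj 1 a⟩ : A) = a from Subtype.ext (by group), ha]
        exact e.symm_apply_apply v
      map_mul' := fun x y => by
        rw [← LinearMap.toMatrix'_mul]
        congr 1
        refine LinearMap.ext fun v => ?_
        rw [Module.End.mul_apply, hL, hL, hL, e.apply_symm_apply, toMul_ofMul]
        obtain ⟨a, ha⟩ := QuotientGroup.mk_surjective (e v).toMul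
        rw [← ha, hact, hact, hact]
        congr 3
        exact Subtype.ext (by push_cast; group) }
  let co : X → V3 := fun a => if h : a ∈ A then e.symm (Additive.ofMul ((⟨a, h⟩ : A) : Q)) else 0
  have hco : ∀ a (h : a ∈ A), co a = e.symm (Additive.ofMul ((⟨a, h⟩ : A) : Q)) := fun a h => dif_pos h
  have hconjco : ∀ x, ∀ a ∈ A, co (x * a * x⁻¹) = ρ x *ᵥ co a := by
    intro x a ha
    show _ = LinearMap.toMatrix' (L x) *ᵥ _
    rw [← Matrix.toLin'_apply, Matrix.toLin'_toMatrix', hL, hco _ (hconj x ⟨a, ha⟩), hco a ha,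
      e.apply_symm_apply, toMul_ofMul, hact]
  have hker0 : ∀ a ∈ A, (co a = 0 ↔ a ∈ B) := by
    intro a ha
    rw [hco a ha, LinearEquiv.map_eq_zero_iff]
    exact (ofMul_eq_zero.trans (QuotientGroup.eq_one_iff _)).trans mem_subgroupOf
  have hdet : ∀ x, (ρ x).det = 1 := fun x => zmod_two_unit _ (ρ x⁻¹).det (by
    rw [← det_mul, ← map_mul, mul_inv_cancel, map_one, det_one])
  have hsurjco : ∀ v, ∃ a ∈ A, co a = v := by
    intro v
    obtain ⟨a, ha⟩ := QuotientGroup.mk_surjective (e v).toMul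
    exact ⟨a, a.2, by rw [hco _ a.2, ha, ofMul_toMul, e.symm_apply_apply]⟩
  have heq : ∀ a b, a ∈ A → b ∈ A → (co a = co b ↔ a⁻¹ * b ∈ B) := by
    intro a b ha hb
    rw [hco a ha, hco b hb, e.symm.injective.eq_iff, Additive.ofMul.injective.eq_iff, QuotientGroup.eq,
      mem_subgroupOf]
    rfl
  have hkerK : ∀ x, ρ x = 1 ↔ x ∈ K := by
    let N : Subgroup X :=
      { carrier := {x | ρ x = 1}
        one_mem' := map_one ρ
        mul_mem' := fun {a b} (ha : ρ a = 1) (hb : ρ b = 1) => show ρ (a * b) = 1 by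
          rw [map_mul, ha, hb, one_mul]
        inv_mem' := fun {a} (ha : ρ a = 1) => show ρ a⁻¹ = 1 by
          rw [← mul_one (ρ a⁻¹), ← ha, ← map_mul, inv_mul_cancel, map_one, ha] }
    have hN : N.Normal := ⟨fun a (ha : ρ a = 1) g => show ρ (g * a * g⁻¹) = 1 by
      rw [map_mul, map_mul, ha, mul_one, ← map_mul, mul_inv_cancel, map_one]⟩
    have hKN : K ≤ N := fun k hk => mulVec_eq_matrix _ fun v => by
      obtain ⟨a, ha, rfl⟩ := hsurjco v
      rw [← hconjco k a ha]
      exact ((heq a _ ha (hconj k ⟨a, ha⟩)).2 (htriv k hk a ha)).symm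
    intro x
    rcases hT.normal_cases N hKN with h | h
    · rw [← h]; rfl
    · exfalso
      obtain ⟨y, a, ha, hy⟩ := hmove
      have h1 : ρ y = 1 := (h ▸ mem_top y : y ∈ N)
      refine hy ((heq a _ ha (hconj y ⟨a, ha⟩)).1 ?_)
      rw [hconjco y a ha, h1, one_mulVec]
  refine ⟨⟨ρ, co, hdet, fun M hM => ?_, hkerK, fun a ha b hb => ?_, hsurjco, hker0, hconjco⟩⟩
  · haveI : Finite (X ⧸ K) := Nat.finite_of_card_ne_zero (by rw [hT.card]; norm_num)
    let G : X ⧸ K → {M : M3 // M.det = 1} := Quotient.lift (fun x => ⟨ρ x, hdet x⟩) fun a b h =>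
      Subtype.ext (by
        have hab := (hkerK _).2 (QuotientGroup.leftRel_apply.1 h)
        show ρ a = ρ b
        calc ρ a = ρ a * ρ (a⁻¹ * b) := by rw [hab, mul_one]
          _ = ρ b := by rw [← map_mul, mul_inv_cancel_left])
    have hG : Function.Injective G := by
      rintro ⟨a⟩ ⟨b⟩ h
      have h' : ρ a = ρ b := congrArg Subtype.val h
      exact QuotientGroup.eq.2 ((hkerK _).1 (by
        rw [map_mul, ← h', ← map_mul, inv_mul_cancel, map_one]))
    obtain ⟨q, hq⟩ := (hG.bijective_of_nat_card_le (by rw [card_det_one, hT.card])).2 ⟨M, hM⟩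
    obtain ⟨x, rfl⟩ := QuotientGroup.mk_surjective q
    exact ⟨x, congrArg Subtype.val hq⟩
  · rw [hco a ha, hco b hb, hco _ (mul_mem ha hb), ← map_add, ← ofMul_mul, ← QuotientGroup.mk_mul]
    rfl

end CfsgLib.RankFourQuotient.LThree
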