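import Cfsg.Agent.Lib.TwoGroups.RankFourQuotient.LinearThreeTwoTypes

/-!
Owner: helper12. The layer below the top layer.
-/

set_option autoImplicit false
set_option maxHeartbeats 800000
set_option linter.style.haveILetI false

namespace CfsgLib.RankFourQuotient.LThree

open Subgroup
open scoped Matrix

variable {X : Type*} [Group X]

/-- The commutator `a b a⁻¹ b⁻¹`. -/
def cm (a b : X) : X := a * b * a⁻¹ * b⁻¹

theorem conj_cm (x a b : X) : x * cm a b * x⁻¹ = cm (x * a * x⁻¹) (x * b * x⁻¹) := by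
  simp only [cm]; group

theorem cm_self (a : X) : cm a a = 1 := by simp only [cm]; group

theorem cm_eq_one_iff {a b : X} : cm a b = 1 ↔ a * b = b * a := by
  simp only [cm]
  rw [mul_inv_eq_one, mul_inv_eq_iff_eq_mul]

theorem closure_normal_of_conj {S : Set X} (h : ∀ x, ∀ s ∈ S, x * s * x⁻¹ ∈ S) :
    (closure S).Normal := by
  refine ⟨fun w hw x => ?_⟩
  refine closure_induction (p := fun w _ => x * w * x⁻¹ ∈ closure S)
    (fun s hs => subset_closure (h x s hs)) (by simp) (fun a b _ _ ha hb => ?_) (fun a _ ha => ?_) hw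
  · rw [show x * (a * b) * x⁻¹ = (x * a * x⁻¹) * (x * b * x⁻¹) by group]; exact mul_mem ha hb
  · rw [show x * a⁻¹ * x⁻¹ = (x * a * x⁻¹)⁻¹ by group]; exact inv_mem ha

/-- A layer `K / W` above an elementary chief factor `W`. -/
structure Layer (K W : Subgroup X) [K.Normal] : Prop where
  top : Top K
  normal : W.Normal
  le : W ≤ K
  ne : W ≠ ⊥
  central : ∀ k ∈ K, ∀ w ∈ W, k * w = w * k
  exp : ∀ w ∈ W, w * w = 1
  sq : ∀ k ∈ K, k * k ∈ W
  gen : W ≤ closure {w | ∃ k ∈ K, k * k = w}
  chief : ∀ N : Subgroup X, N.Normal → N ≤ W → N = ⊥ ∨ N = W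
  idx : (W.subgroupOf K).index = 8 ∨ (W.subgroupOf K).index = 16
  moved : ∃ x, ∃ k ∈ K, k⁻¹ * (x * k * x⁻¹) ∉ W

/-- Three elements generate at most eight. -/
theorem card_le_three [Finite X] {W G : Subgroup X} (hc : ∀ a ∈ W, ∀ b ∈ W, a * b = b * a)
    (he : ∀ w ∈ W, w * w = 1) {a b c : X} (ha : a ∈ W) (hb : b ∈ W) (hc' : c ∈ W)
    (hG : G ≤ closure {a, b, c}) : Nat.card G ≤ 8 := by
  letI : CommGroup W := { (inferInstance : Group W) with
    mul_comm := fun p q => Subtype.ext (hc p p.2 q q.2) }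
  let e : Fin 3 → W := ![⟨a, ha⟩, ⟨b, hb⟩, ⟨c, hc'⟩]
  have h2 : ∀ w : W, w ^ 2 = 1 := fun w => Subtype.ext (by push_cast; rw [pow_two]; exact he w w.2)
  let ψ : Multiplicative V3 →* W :=
    { toFun := fun v => ∏ i, e i ^ (v.toAdd i).val
      map_one' := by simp
      map_mul' := fun u v => by
        simp only [← Finset.prod_mul_distrib]
        refine Finset.prod_congr rfl fun i _ => ?_
        rw [← pow_add, toAdd_mul, Pi.add_apply, ZMod.val_add, ← pow_eq_pow_mod _ (h2 _)] }
  have hle : closure {a, b, c} ≤ (ψ.range).map W.subtype := by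
    rw [closure_le]
    rintro w (rfl | rfl | rfl)
    · exact ⟨e 0, ⟨Multiplicative.ofAdd ![1, 0, 0], by
        show ∏ i, e i ^ (![(1 : ZMod 2), 0, 0] i).val = e 0
        simp [Fin.prod_univ_three, ZMod.val_one]⟩, rfl⟩
    · exact ⟨e 1, ⟨Multiplicative.ofAdd ![0, 1, 0], by
        show ∏ i, e i ^ (![(0 : ZMod 2), 1, 0] i).val = e 1
        simp [Fin.prod_univ_three, ZMod.val_one]⟩, rfl⟩
    · exact ⟨e 2, ⟨Multiplicative.ofAdd ![0, 0, 1], by
        show ∏ i, e i ^ (![(0 : ZMod 2), 0, 1] i).val = e 2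
        simp [Fin.prod_univ_three, ZMod.val_one]⟩, rfl⟩
  calc Nat.card G ≤ Nat.card ((ψ.range).map W.subtype) := card_le_of_le (hG.trans hle)
    _ = Nat.card ψ.range := card_map_of_injective W.subtype_injective
    _ ≤ Nat.card (Multiplicative V3) := Nat.card_le_card_of_surjective ψ.rangeRestrict
        ψ.rangeRestrict_surjective
    _ = 8 := by rw [Nat.card_congr Multiplicative.toAdd]; simp [Nat.card_eq_fintype_card]

namespace Frame

variable {K A B : Subgroup X} (f : Frame K A B)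
include f

/-- A lift of a vector. -/
noncomputable def lift (v : V3) : X := (f.co_surj v).choose

theorem lift_mem (v : V3) : f.lift v ∈ A := (f.co_surj v).choose_spec.1
theorem co_lift (v : V3) : f.co (f.lift v) = v := (f.co_surj v).choose_spec.2

theorem le_closure : A ≤ closure (({f.lift ![1, 0, 0], f.lift ![0, 1, 0], f.lift ![0, 0, 1]} : Set X) ∪ B) := by
  intro a ha
  set S := ({f.lift ![1, 0, 0], f.lift ![0, 1, 0], f.lift ![0, 0, 1]} : Set X) ∪ B with hS
  have hg : ∀ v ∈ ({![1, 0, 0], ![0, 1, 0], ![0, 0, 1]} : Set V3),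
      ∃ g ∈ closure S, g ∈ A ∧ f.co g = v := by
    intro v hv
    refine ⟨f.lift v, subset_closure (Or.inl ?_), f.lift_mem v, f.co_lift v⟩
    rcases hv with rfl | rfl | rfl <;> simp
  have hall : ∀ v : V3, ∃ g ∈ closure S, g ∈ A ∧ f.co g = v := by
    have hadd : ∀ u v : V3, (∃ g ∈ closure S, g ∈ A ∧ f.co g = u) →
        (∃ g ∈ closure S, g ∈ A ∧ f.co g = v) → ∃ g ∈ closure S, g ∈ A ∧ f.co g = u + v :=
      fun u v ⟨g, hg1, hg2, hg3⟩ ⟨h, hh1, hh2, hh3⟩ =>
        ⟨g * h, mul_mem hg1 hh1, mul_mem hg2 hh2, by rw [f.co_mul g hg2 h hh2, hg3, hh3]⟩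
    intro v
    have hz : ∀ v : V3, v = 0 ∨ v = ![1, 0, 0] ∨ v = ![0, 1, 0] ∨ v = ![0, 0, 1] ∨
        v = ![1, 0, 0] + ![0, 1, 0] ∨ v = ![1, 0, 0] + ![0, 0, 1] ∨ v = ![0, 1, 0] + ![0, 0, 1] ∨
        v = ![1, 0, 0] + ![0, 1, 0] + ![0, 0, 1] := by decide
    rcases hz v with rfl | rfl | rfl | rfl | rfl | rfl | rfl | rfl
    · exact ⟨1, one_mem _, one_mem _, f.co_one⟩
    · exact hg _ (by simp)
    · exact hg _ (by simp)
    · exact hg _ (by simp)
    · exact hadd _ _ (hg _ (by simp)) (hg _ (by simp))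
    · exact hadd _ _ (hg _ (by simp)) (hg _ (by simp))
    · exact hadd _ _ (hg _ (by simp)) (hg _ (by simp))
    · exact hadd _ _ (hadd _ _ (hg _ (by simp)) (hg _ (by simp))) (hg _ (by simp))
  obtain ⟨g, hg1, hg2, hg3⟩ := hall (f.co a)
  rw [← mul_inv_cancel_left g a]
  exact mul_mem hg1 (subset_closure (Or.inr ((f.co_eq hg2 ha).1 hg3)))

/-- A function of the class, read on vectors. -/
theorem map_lift {g : X → X} (hg : ∀ a ∈ A, ∀ b ∈ B, g (a * b) = g a)
    (hx : ∀ x, ∀ a ∈ A, g (x * a * x⁻¹) = x * g a * x⁻¹) [A.Normal] :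
    (∀ a ∈ A, g (f.lift (f.co a)) = g a) ∧
      ∀ x v, g (f.lift (f.ρ x *ᵥ v)) = x * g (f.lift v) * x⁻¹ := by
  have h1 : ∀ a ∈ A, g (f.lift (f.co a)) = g a := by
    intro a ha
    have := (f.co_eq ha (f.lift_mem _)).1 (f.co_lift (f.co a)).symm
    rw [← hg a ha _ this, mul_inv_cancel_left]
  refine ⟨h1, fun x v => ?_⟩
  have h2 : x * f.lift v * x⁻¹ ∈ A := (inferInstance : A.Normal).conj_mem _ (f.lift_mem v) x
  rw [← hx x _ (f.lift_mem v), ← h1 _ h2, f.co_conj x _ (f.lift_mem v), f.co_lift]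

end Frame

namespace Layer

variable {K W : Subgroup X} [hKn : K.Normal]

theorem comm_mem (h : Layer K W) {a b : X} (ha : a ∈ K) (hb : b ∈ K) : cm a b ∈ W := by
  rw [show cm a b = (a * a) * ((a⁻¹ * b) * (a⁻¹ * b)) * (b⁻¹ * b⁻¹) by simp only [cm]; group]
  exact mul_mem (mul_mem (h.sq a ha) (h.sq _ (mul_mem (inv_mem ha) hb))) (h.sq _ (inv_mem hb))

theorem inner (h : Layer K W) {k a : X} (hk : k ∈ K) (ha : a ∈ K) : a⁻¹ * (k * a * k⁻¹) ∈ W := by
  rw [show a⁻¹ * (k * a * k⁻¹) = cm a⁻¹ k by simp only [cm]; group]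
  exact h.comm_mem (inv_mem ha) hk

theorem wcomm (h : Layer K W) : ∀ a ∈ W, ∀ b ∈ W, a * b = b * a :=
  fun a ha b hb => h.central a (h.le ha) b hb

theorem cm_mul_left (h : Layer K W) {a b c : X} (ha : a ∈ K) (hb : b ∈ K) (hc : c ∈ K) :
    cm (a * b) c = cm a c * cm b c := by
  have h1 := h.comm_mem hb hc
  have h2 := h.central a ha _ h1
  rw [show cm (a * b) c = a * cm b c * a⁻¹ * cm a c by simp only [cm]; group, h2, mul_inv_cancel_right,
    h.wcomm _ h1 _ (h.comm_mem ha hc)]

theorem cm_symm (h : Layer K W) {a b : X} (ha : a ∈ K) (hb : b ∈ K) : cm b a = cm a b := by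
  rw [show cm b a = (cm a b)⁻¹ by simp only [cm]; group]
  exact inv_eq_of_mul_eq_one_right (h.exp _ (h.comm_mem ha hb))

theorem cm_mul_right (h : Layer K W) {a b c : X} (ha : a ∈ K) (hb : b ∈ K) (hc : c ∈ K) :
    cm a (b * c) = cm a b * cm a c := by
  rw [h.cm_symm (mul_mem hb hc) ha, h.cm_mul_left hb hc ha, h.cm_symm ha hb, h.cm_symm ha hc]

theorem cm_central (h : Layer K W) {w a : X} (hw : w ∈ W) (ha : a ∈ K) : cm w a = 1 ∧ cm a w = 1 := by
  exact ⟨cm_eq_one_iff.2 (h.central a ha w hw).symm, cm_eq_one_iff.2 (h.central a ha w hw)⟩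

theorem sq_mul (h : Layer K W) {a b : X} (ha : a ∈ K) (hb : b ∈ K) :
    a * b * (a * b) = a * a * (b * b) * cm a b := by
  have h1 : a * b * (a * b) = a * cm b a * a * (b * b) := by simp only [cm]; group
  rw [h1, h.cm_symm ha hb, h.central a ha _ (h.comm_mem ha hb),
    mul_assoc (cm a b), ← h.wcomm _ (mul_mem (h.sq a ha) (h.sq b hb)) _ (h.comm_mem ha hb)
      |> fun e => (show cm a b * (a * a) * (b * b) = a * a * (b * b) * cm a b by rw [mul_assoc, e])]

theorem cm_gen (h : Layer K W) {S T : Set X} (hS : S ⊆ K) (hT : T ⊆ K) {G : Subgroup X}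
    (hST : ∀ s ∈ S, ∀ t ∈ T, cm s t ∈ G) {a b : X} (ha : a ∈ closure S) (hb : b ∈ closure T) :
    cm a b ∈ G := by
  have hSK : closure S ≤ K := (closure_le _).2 hS
  have hTK : closure T ≤ K := (closure_le _).2 hT
  have h1 : ∀ s ∈ S, cm s b ∈ G := by
    intro s hs
    refine closure_induction (p := fun b _ => cm s b ∈ G) (fun t ht => hST s hs t ht)
      (by rw [(h.cm_central (one_mem W) (hS hs)).2]; exact one_mem _)
      (fun p q hp hq i j => by rw [h.cm_mul_right (hS hs) (hTK hp) (hTK hq)]; exact mul_mem i j)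
      (fun p hp i => ?_) hb
    have h2 := h.cm_mul_right (hS hs) (hTK hp) (inv_mem (hTK hp))
    rw [mul_inv_cancel, (h.cm_central (one_mem W) (hS hs)).2] at h2
    rw [eq_inv_of_mul_eq_one_right h2.symm]
    exact inv_mem i
  refine closure_induction (p := fun a _ => cm a b ∈ G) (fun s hs => h1 s hs)
    (by rw [(h.cm_central (one_mem W) (hTK hb)).1]; exact one_mem _)
    (fun p q hp hq i j => by rw [h.cm_mul_left (hSK hp) (hSK hq) (hTK hb)]; exact mul_mem i j)
    (fun p hp i => ?_) ha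
  have h2 := h.cm_mul_left (hSK hp) (inv_mem (hSK hp)) (hTK hb)
  rw [mul_inv_cancel, (h.cm_central (one_mem W) (hTK hb)).1] at h2
  rw [eq_inv_of_mul_eq_one_right h2.symm]
  exact inv_mem i

theorem cm_closure_cases (h : Layer K W) {A C : Subgroup X} [A.Normal] [C.Normal] (hA : A ≤ K)
    (hC : C ≤ K) :
    (∀ a ∈ A, ∀ c ∈ C, a * c = c * a) ∨ closure {w | ∃ a ∈ A, ∃ c ∈ C, cm a c = w} = W := by
  have hn : (closure {w | ∃ a ∈ A, ∃ c ∈ C, cm a c = w}).Normal := closure_normal_of_conj (by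
    rintro x _ ⟨a, ha, c, hc, rfl⟩
    exact ⟨_, (inferInstance : A.Normal).conj_mem a ha x, _, (inferInstance : C.Normal).conj_mem c hc x,
      (conj_cm x a c).symm⟩)
  rcases h.chief _ hn ((closure_le _).2 (by
    rintro _ ⟨a, ha, c, hc, rfl⟩; exact h.comm_mem (hA ha) (hC hc))) with e | e
  · exact Or.inl fun a ha c hc => cm_eq_one_iff.1 ((eq_bot_iff_forall _).1 e _
      (subset_closure ⟨a, ha, c, hc, rfl⟩))
  · exact Or.inr e

theorem fixed_eq_one [Finite X] (h : Layer K W) (hW : 2 < Nat.card W) {c : X} (hc : c ∈ W)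
    (hfix : ∀ x, x * c * x⁻¹ = c) : c = 1 := by
  by_contra hne
  have hn : (zpowers c).Normal := ⟨fun w hw x => by
    obtain ⟨i, rfl⟩ := mem_zpowers_iff.1 hw
    rw [← conj_zpow, hfix]
    exact zpow_mem (mem_zpowers c) i⟩
  rcases h.chief _ hn (zpowers_le.2 hc) with e | e
  · exact hne (zpowers_eq_bot.1 e)
  · rw [← e, Nat.card_zpowers] at hW
    have := orderOf_le_of_pow_eq_one (G := X) (x := c) (by norm_num : 0 < 2) (by rw [pow_two]; exact h.exp c hc)
    omega

/-- The chief factor below has order at most eight. -/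
theorem card_le_eight [Finite X] (h : Layer K W) : Nat.card W ≤ 8 := by
  haveI := h.normal
  have hc := h.wcomm
  have hW : ∀ {a b c : X}, a ∈ W → b ∈ W → c ∈ W → W ≤ closure {a, b, c} → Nat.card W ≤ 8 :=
    fun ha hb hc' hle => card_le_three hc h.exp ha hb hc' hle
  -- commutators on a frame
  have hG3 : ∀ {A B : Subgroup X} (f : Frame K A B), A ≤ K → (∀ b ∈ B, ∀ a ∈ A, cm b a = 1) → B ≤ A →
      closure {w | ∃ a ∈ A, ∃ c ∈ A, cm a c = w} = W → Nat.card W ≤ 8 := by
    intro A B f hAK hBc hBA e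
    set p := f.lift ![1, 0, 0] with hp
    set q := f.lift ![0, 1, 0] with hq
    set r := f.lift ![0, 0, 1] with hr
    have hpK : p ∈ K := hAK (f.lift_mem _)
    have hqK : q ∈ K := hAK (f.lift_mem _)
    have hrK : r ∈ K := hAK (f.lift_mem _)
    refine hW (h.comm_mem hpK hqK) (h.comm_mem hpK hrK) (h.comm_mem hqK hrK) (e.ge.trans ((closure_le _).2 ?_))
    rintro _ ⟨a, ha, c, hc', rfl⟩
    have hsub : (({p, q, r} : Set X) ∪ B) ⊆ K := Set.union_subset
      (by rintro z (rfl | rfl | rfl) <;> assumption) (fun z hz => hAK (hBA hz))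
    refine h.cm_gen hsub hsub ?_ (f.le_closure ha) (f.le_closure hc')
    rintro s hs t ht
    have hBc' : ∀ b ∈ B, ∀ z ∈ A, cm z b = 1 := fun b hb z hz => by
      rw [← h.cm_symm (hAK hz) (hAK (hBA hb))]; exact hBc b hb z hz
    have hsA : ∀ z ∈ ({p, q, r} : Set X) ∪ B, z ∈ A := by
      rintro z ((rfl | rfl | rfl) | hz)
      · exact f.lift_mem _
      · exact f.lift_mem _
      · exact f.lift_mem _
      · exact hBA hz
    rcases ht with ht | ht
    · rcases hs with hs | hs
      · rcases hs with rfl | rfl | rfl <;> rcases ht with rfl | rfl | rfl <;>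
          first
            | (rw [cm_self]; exact one_mem _)
            | (rw [h.cm_symm hpK hqK]; exact subset_closure (by simp))
            | (rw [h.cm_symm hpK hrK]; exact subset_closure (by simp))
            | (rw [h.cm_symm hqK hrK]; exact subset_closure (by simp))
            | exact subset_closure (by simp)
      · rw [hBc s hs t (hsA t (Or.inl ht))]; exact one_mem _
    · rw [hBc' t ht s (hsA s hs)]; exact one_mem _
  -- squares on a frame
  have hS3 : ∀ {A B : Subgroup X} (f : Frame K A B), A ≤ K → B ≤ A →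
      (∀ a ∈ A, ∀ c ∈ A, a * c = c * a) → (∀ b ∈ B, b * b = 1) →
      W ≤ closure {w | ∃ a ∈ A, a * a = w} → Nat.card W ≤ 8 := by
    intro A B f hAK hBA hab hB e
    refine hW (h.sq _ (hAK (f.lift_mem ![1, 0, 0]))) (h.sq _ (hAK (f.lift_mem ![0, 1, 0])))
      (h.sq _ (hAK (f.lift_mem ![0, 0, 1]))) (e.trans ((closure_le _).2 ?_))
    rintro _ ⟨a, ha, rfl⟩
    refine (?_ : a ∈ A ∧ a * a ∈ Subgroup.closure
      ({f.lift ![1, 0, 0] * f.lift ![1, 0, 0], f.lift ![0, 1, 0] * f.lift ![0, 1, 0],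
        f.lift ![0, 0, 1] * f.lift ![0, 0, 1]} : Set X)).2
    refine closure_induction (p := fun a _ => a ∈ A ∧ a * a ∈ closure
      ({f.lift ![1, 0, 0] * f.lift ![1, 0, 0], f.lift ![0, 1, 0] * f.lift ![0, 1, 0],
        f.lift ![0, 0, 1] * f.lift ![0, 0, 1]} : Set X)) ?_ ⟨one_mem _, by rw [one_mul]; exact one_mem _⟩
      (fun p q _ _ hp hq => ⟨mul_mem hp.1 hq.1, ?_⟩) (fun p _ hp => ⟨inv_mem hp.1, ?_⟩)
      (f.le_closure ha)
    · rintro z ((rfl | rfl | rfl) | hz)
      · exact ⟨f.lift_mem _, subset_closure (by simp)⟩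
      · exact ⟨f.lift_mem _, subset_closure (by simp)⟩
      · exact ⟨f.lift_mem _, subset_closure (by simp)⟩
      · exact ⟨hBA hz, by rw [hB z hz]; exact one_mem _⟩
    · rw [h.sq_mul (hAK hp.1) (hAK hq.1), cm_eq_one_iff.2 (hab _ hp.1 _ hq.1), mul_one]
      exact mul_mem hp.2 hq.2
    · rw [← mul_inv_rev]; exact inv_mem hp.2
  rcases h.idx with h8 | h16
  · obtain ⟨f⟩ := nonempty_frame h.top h.le h8 h.sq (fun k hk a ha => h.inner hk ha) h.moved
    rcases h.cm_closure_cases le_rfl le_rfl with e | e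
    · exact hS3 f le_rfl h.le e h.exp h.gen
    · exact hG3 f le_rfl (fun b hb a ha => (h.cm_central hb ha).1) h.le e
  rcases layer_types h.top h.le h16 h.sq (fun k hk a ha => h.inner hk ha) h.moved with
    ⟨U, hUn, hWU, hUK, hU2, ⟨f⟩⟩ | ⟨T, hTn, hWT, hTK, hT2, ⟨f⟩⟩
  · haveI := hUn
    rcases h.cm_closure_cases hUK hUK with eU | eU
    swap
    · exact hG3 f hUK (fun b hb a ha => (h.cm_central hb (hUK ha)).1) hWU eU
    obtain ⟨d, hd, hdU⟩ : ∃ d ∈ K, d ∉ U := by
      by_contra hcon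
      push Not at hcon
      rw [subgroupOf_eq_top.2 hcon, index_top] at hU2
      omega
    have hcos : ∀ k ∈ K, k ∈ U ∨ d⁻¹ * k ∈ U := by
      intro k hk
      by_cases hku : k ∈ U
      · exact Or.inl hku
      · exact Or.inr ((mul_mem_iff_of_index_two hU2 (a := (⟨d, hd⟩ : K)⁻¹) (b := ⟨k, hk⟩)).2
          (iff_of_false (fun hm => hdU (by simpa using inv_mem (mem_subgroupOf.1 hm))) hku))
    rcases h.cm_closure_cases hUK le_rfl with eK | eK
    swap
    · refine hW (h.comm_mem (hUK (f.lift_mem ![1, 0, 0])) hd) (h.comm_mem (hUK (f.lift_mem ![0, 1, 0])) hd)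
        (h.comm_mem (hUK (f.lift_mem ![0, 0, 1])) hd) (eK.ge.trans ((closure_le _).2 ?_))
      rintro _ ⟨a, ha, c, hc', rfl⟩
      refine h.cm_gen (T := {d} ∪ U) ?_ ?_ ?_ (f.le_closure ha) ?_
      · exact Set.union_subset (by rintro z (rfl | rfl | rfl) <;> exact hUK (f.lift_mem _)) h.le
      · exact Set.union_subset (by rintro z rfl; exact hd) hUK
      · rintro s (hs | hs) t (ht | ht)
        · rw [Set.mem_singleton_iff.1 ht]
          rcases hs with rfl | rfl | rfl <;> exact subset_closure (by simp)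
        · rw [cm_eq_one_iff.2 (eU s (by rcases hs with rfl | rfl | rfl <;> exact f.lift_mem _) t ht)]
          exact one_mem _
        · rw [(h.cm_central hs (by rw [Set.mem_singleton_iff.1 ht]; exact hd)).1]; exact one_mem _
        · rw [(h.cm_central hs (hUK ht)).1]; exact one_mem _
      · rcases hcos c hc' with hcu | hcu
        · exact subset_closure (Or.inr hcu)
        · rw [← mul_inv_cancel_left d c]
          exact mul_mem (subset_closure (Or.inl rfl)) (subset_closure (Or.inr hcu))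
    set S := closure {w | ∃ a ∈ U, a * a = w} with hS
    have hSn : S.Normal := closure_normal_of_conj (by
      rintro x _ ⟨a, ha, rfl⟩
      exact ⟨x * a * x⁻¹, hUn.conj_mem a ha x, by group⟩)
    have hSW : S ≤ W := (closure_le _).2 (by rintro _ ⟨a, ha, rfl⟩; exact h.sq a (hUK ha))
    rcases h.chief S hSn hSW with e | e
    · have hU1 : ∀ a ∈ U, a * a = 1 := fun a ha =>
        (eq_bot_iff_forall _).1 e _ (subset_closure ⟨a, ha, rfl⟩)
      refine hW (h.sq d hd) (h.sq d hd) (h.sq d hd) (h.gen.trans ((closure_le _).2 ?_))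
      rintro _ ⟨k, hk, rfl⟩
      rcases hcos k hk with hku | hku
      · rw [hU1 k hku]; exact one_mem _
      · have h1 := h.sq_mul hd (hUK hku)
        rw [mul_inv_cancel_left, hU1 _ hku, mul_one,
          cm_eq_one_iff.2 (eK _ hku d hd).symm, mul_one] at h1
        rw [h1]
        exact subset_closure (by simp)
    · exact hS3 f hUK hWU eU h.exp e.ge
  · haveI := hTn
    obtain ⟨t, ht, htW⟩ : ∃ t ∈ T, t ∉ W := by
      by_contra hcon
      push Not at hcon
      rw [subgroupOf_eq_top.2 hcon, index_top] at hT2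
      omega
    have hcos : ∀ k ∈ T, k ∈ W ∨ t⁻¹ * k ∈ W := by
      intro k hk
      by_cases hkw : k ∈ W
      · exact Or.inl hkw
      · exact Or.inr ((mul_mem_iff_of_index_two hT2 (a := (⟨t, ht⟩ : T)⁻¹) (b := ⟨k, hk⟩)).2
          (iff_of_false (fun hm => htW (by simpa using inv_mem (mem_subgroupOf.1 hm))) hkw))
    rcases h.cm_closure_cases hTK le_rfl with eT | eT
    swap
    · refine hW (h.comm_mem (hTK ht) (f.lift_mem ![1, 0, 0])) (h.comm_mem (hTK ht) (f.lift_mem ![0, 1, 0]))
        (h.comm_mem (hTK ht) (f.lift_mem ![0, 0, 1])) (eT.ge.trans ((closure_le _).2 ?_))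
      rintro _ ⟨a, ha, c, hc', rfl⟩
      refine h.cm_gen (S := {t} ∪ W) ?_ ?_ ?_ ?_ (f.le_closure hc')
      · exact Set.union_subset (by rintro z rfl; exact hTK ht) h.le
      · exact Set.union_subset (by rintro z (rfl | rfl | rfl) <;> exact f.lift_mem _) hTK
      · rintro s (hs | hs) u (hu | hu)
        · rw [Set.mem_singleton_iff.1 hs]
          rcases hu with rfl | rfl | rfl <;> exact subset_closure (by simp)
        · rw [Set.mem_singleton_iff.1 hs]
          rcases hcos u hu with hw | hw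
          · rw [(h.cm_central hw (hTK ht)).2]; exact one_mem _
          · rw [← mul_inv_cancel_left t u, h.cm_mul_right (hTK ht) (hTK ht) (h.le hw), cm_self,
              (h.cm_central hw (hTK ht)).2, one_mul]
            exact one_mem _
        · rw [(h.cm_central hs (by rcases hu with rfl | rfl | rfl <;> exact f.lift_mem _)).1]
          exact one_mem _
        · rw [(h.cm_central hs (hTK hu)).1]; exact one_mem _
      · rcases hcos a ha with hw | hw
        · exact subset_closure (Or.inr hw)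
        · rw [← mul_inv_cancel_left t a]
          exact mul_mem (subset_closure (Or.inl rfl)) (subset_closure (Or.inr hw))
    rcases h.cm_closure_cases le_rfl le_rfl with eK | eK
    swap
    · exact hG3 f le_rfl (fun b hb a ha => cm_eq_one_iff.2 (eT b hb a ha)) hTK eK
    by_cases ht1 : t * t = 1
    · refine hS3 f le_rfl hTK eK (fun b hb => ?_) h.gen
      rcases hcos b hb with hw | hw
      · exact h.exp b hw
      · have h1 := h.sq_mul (hTK ht) (h.le hw)
        rw [mul_inv_cancel_left, ht1, h.exp _ hw, (h.cm_central hw (hTK ht)).2, one_mul, one_mul] at h1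
        exact h1
    · have hfix : ∀ x, x * (t * t) * x⁻¹ = t * t := by
        intro x
        rcases hcos _ (hTn.conj_mem t ht x) with hw | hw
        · refine absurd ?_ htW
          have := h.normal.conj_mem _ hw x⁻¹
          rwa [show x⁻¹ * (x * t * x⁻¹) * x⁻¹⁻¹ = t by group] at this
        · have h1 := h.sq_mul (hTK ht) (h.le hw)
          rw [mul_inv_cancel_left, h.exp _ hw, (h.cm_central hw (hTK ht)).2, mul_one, mul_one] at h1
          calc x * (t * t) * x⁻¹ = x * t * x⁻¹ * (x * t * x⁻¹) := by group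
            _ = t * t := h1
      by_contra hbig
      exact ht1 (h.fixed_eq_one (by omega) (h.sq t (hTK ht)) hfix)

/-- The chief factor below is central of order two or moved of order eight. -/
theorem card_cases [Finite X] (h : Layer K W) : Nat.card W = 2 ∨ Nat.card W = 8 := by
  haveI := h.normal
  haveI : Fact (Nat.Prime 2) := ⟨Nat.prime_two⟩
  have hp : IsPGroup 2 W := fun w => ⟨1, Subtype.ext (by
    push_cast; simp only [pow_one, pow_two]; exact h.exp w w.2)⟩
  obtain ⟨n, hn⟩ := hp.exists_card_eq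
  have hn1 : n ≠ 0 := fun e => h.ne (card_eq_one.1 (by rw [hn, e, pow_zero]))
  by_cases hfix : ∀ x : X, ∀ w ∈ W, x * w * x⁻¹ = w
  · left
    obtain ⟨w, hw, hw1⟩ := (bot_or_exists_ne_one W).resolve_left h.ne
    by_contra hne
    refine hw1 (h.fixed_eq_one ?_ hw (fun x => hfix x w hw))
    rw [hn] at hne ⊢
    rcases n with _ | _ | n
    · exact absurd rfl hn1
    · exact absurd rfl hne
    · calc 2 < 2 ^ 2 := by norm_num
        _ ≤ 2 ^ (n + 1 + 1) := Nat.pow_le_pow_right (by norm_num) (by omega)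
  · right
    have hle := h.card_le_eight
    let σ : X →* Equiv.Perm W :=
      { toFun := fun x => (MulAut.conjNormal x : MulAut W).toEquiv
        map_one' := by rw [map_one]; rfl
        map_mul' := fun a b => by rw [map_mul]; rfl }
    have hK : K ≤ σ.ker := fun k hk => MonoidHom.mem_ker.2 (Equiv.ext fun w => Subtype.ext (by
      show ((MulAut.conjNormal k w : W) : X) = w
      rw [MulAut.conjNormal_apply, h.central k hk w w.2, mul_inv_cancel_right]))
    have hker : σ.ker = K := (h.top.normal_cases σ.ker hK).resolve_right fun e => hfix fun x w hw => by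
      have h1 := congrArg (fun g : Equiv.Perm W => ((g ⟨w, hw⟩ : W) : X))
        (MonoidHom.mem_ker.1 (e ▸ mem_top x))
      exact h1
    have h168 : 168 ∣ (Nat.card W).factorial := by
      have h1 := card_subgroup_dvd_card σ.range
      rw [← index_ker, hker, show K.index = 168 from h.top.card, Nat.card_perm] at h1
      exact h1
    rw [hn] at hle h168 ⊢
    rcases n with _ | _ | _ | _ | n
    · exact absurd rfl hn1
    · norm_num [Nat.factorial] at h168
    · norm_num [Nat.factorial] at h168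
    · rfl
    · have : 2 ^ 4 ≤ 2 ^ (n + 1 + 1 + 1 + 1) := Nat.pow_le_pow_right (by norm_num) (by omega)
      omega

end Layer

end CfsgLib.RankFourQuotient.LThree
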