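import Cfsg.Agent.Lib.TwoGroups.RankFourQuotient.LinearThreeTwoPoint
import Cfsg.Agent.Lib.TwoGroups.RankFourQuotient.LinearThreeTwoCentral
import Cfsg.Agent.Lib.TwoGroups.RankFourQuotient.LayerAction
import Cfsg.Agent.S0249

/-!
Owner: helper12. `O₂` below `L₃(2)` in sectional 2-rank four.
-/

set_option autoImplicit false
set_option maxHeartbeats 800000
set_option linter.style.haveILetI false

namespace CfsgLib.RankFourQuotient.LThree

open Subgroup
open scoped Matrix

theorem base_ne : (![1, 0, 0] : V3) ≠ 0 := by decide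

theorem top_of_equiv {X : Type*} [Group X] {K : Subgroup X} [K.Normal] {F : Type*} [Field F]
    [Fintype F] (hF : Fintype.card F = 2)
    (e : X ⧸ K ≃* Matrix.ProjectiveSpecialLinearGroup (Fin 3) F) : Top K := by
  haveI hs : IsSimpleGroup (Matrix.ProjectiveSpecialLinearGroup (Fin 3) F) :=
    Cfsg.Agent.S0249.result 3 le_rfl
  classical
  haveI : Subsingleton Fˣ := by
    rw [← Fintype.card_le_one_iff_subsingleton, Fintype.card_units, hF]
  let toSL : GL (Fin 3) F ≃* Matrix.SpecialLinearGroup (Fin 3) F :=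
    { toFun := fun A => ⟨(A : Matrix (Fin 3) (Fin 3) F),
        (Matrix.GeneralLinearGroup.val_det_apply A).symm.trans
          (by rw [Subsingleton.elim (Matrix.GeneralLinearGroup.det A) 1, Units.val_one])⟩
      invFun := Matrix.SpecialLinearGroup.toGL
      left_inv := fun A => Units.ext rfl
      right_inv := fun A => Subtype.ext rfl
      map_mul' := fun A B => Subtype.ext (Units.val_mul A B) }
  have hcen : Subgroup.center (Matrix.SpecialLinearGroup (Fin 3) F) = ⊥ := by
    rw [eq_bot_iff]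
    intro A hA
    have h := Subsingleton.elim
      (Matrix.SpecialLinearGroup.center_equiv_rootsOfUnity ⟨A, hA⟩)
      (Matrix.SpecialLinearGroup.center_equiv_rootsOfUnity 1)
    exact congrArg Subtype.val ((MulEquiv.injective _) h)
  have e2 : GL (Fin 3) F ≃* Matrix.ProjectiveSpecialLinearGroup (Fin 3) F :=
    toSL.trans (QuotientGroup.quotientBot.symm.trans (QuotientGroup.quotientMulEquivOfEq hcen.symm))
  refine ⟨?_, e.isSimpleGroup⟩
  rw [Nat.card_congr e.toEquiv, ← Nat.card_congr e2.toEquiv, Matrix.card_GL_field, hF, Fin.prod_univ_three]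
  rfl

/-- A group `ℤ/4 × (ℤ/2)³`. -/
theorem nonempty_four_eight {A : Type*} [CommGroup A] [Finite A] (hA : Nat.card A = 32) (d : A)
    (e : Fin 3 → A) (he : ∀ i, e i * e i = 1) (hd4 : d * d * (d * d) = 1) (hd2 : d * d ≠ 1)
    (U : Subgroup A) (heU : ∀ i, e i ∈ U) (hdU : d ∉ U) (hddU : d * d ∈ U)
    (hind : ∀ v : V3, (∏ i, e i ^ (v i).val) ∈ zpowers (d * d) → v = 0) :
    Nonempty (A ≃* Multiplicative (ZMod 4) × (Fin 3 → Multiplicative (ZMod 2))) := by
  have h2 : ∀ i, e i ^ 2 = 1 := fun i => by rw [pow_two]; exact he i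
  have h4 : d ^ 4 = 1 := by rw [show d ^ 4 = d * d * (d * d) by simp [pow_succ, mul_assoc]]; exact hd4
  let ψ : Multiplicative (ZMod 4) × (Fin 3 → Multiplicative (ZMod 2)) →* A :=
    { toFun := fun p => d ^ (p.1.toAdd).val * ∏ i, e i ^ ((p.2 i).toAdd).val
      map_one' := by simp
      map_mul' := fun p q => by
        rw [mul_mul_mul_comm, ← Finset.prod_mul_distrib, ← pow_add, Prod.fst_mul, toAdd_mul,
          ZMod.val_add, ← pow_eq_pow_mod _ h4]
        congr 1
        refine Finset.prod_congr rfl fun i _ => ?_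
        rw [Prod.snd_mul, Pi.mul_apply, toAdd_mul, ← pow_add, ZMod.val_add, ← pow_eq_pow_mod _ (h2 i)] }
  have hU : ∀ v : Fin 3 → Multiplicative (ZMod 2), (∏ i, e i ^ ((v i).toAdd).val) ∈ U := fun v =>
    Subgroup.prod_mem _ fun i _ => pow_mem (heU i) _
  have hψ : Function.Injective ψ := by
    refine (injective_iff_map_eq_one ψ).2 fun ⟨i, v⟩ h => ?_
    have h' : d ^ (i.toAdd).val * ∏ j, e j ^ ((v j).toAdd).val = 1 := h
    have hdi : d ^ (i.toAdd).val ∈ U := by
      rw [eq_inv_of_mul_eq_one_left h']; exact inv_mem (hU v)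
    have hi : i.toAdd.val = 0 ∨ i.toAdd.val = 2 := by
      have hlt := ZMod.val_lt i.toAdd
      generalize i.toAdd.val = n at hdi hlt ⊢
      rcases n with _ | _ | _ | _ | n
      · exact Or.inl rfl
      · exact absurd (by simpa using hdi) hdU
      · exact Or.inr rfl
      · refine absurd ?_ hdU
        rw [show (0 + 1 + 1 + 1 : ℕ) = 2 + 1 from rfl, pow_succ, pow_two] at hdi
        exact (Subgroup.mul_mem_cancel_left U hddU).1 hdi
      · omega
    have hv : (fun j => (v j).toAdd) = 0 := hind _ (by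
      rw [eq_inv_of_mul_eq_one_right h']
      rcases hi with e | e <;> rw [e]
      · rw [pow_zero, inv_one]; exact one_mem _
      · rw [pow_two]; exact inv_mem (mem_zpowers _))
    have hv' : v = 1 := funext fun j => Multiplicative.toAdd.injective (congrFun hv j)
    subst hv'
    refine Prod.ext (Multiplicative.toAdd.injective ((ZMod.val_eq_zero _).1 ?_)) rfl
    rcases hi with e | e
    · exact e
    · exfalso
      rw [e] at h'
      simp at h'
      exact hd2 (by rw [← pow_two]; exact h')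
  have hb := hψ.bijective_of_nat_card_le (by
    rw [hA, Nat.card_prod, Nat.card_pi, Nat.card_congr Multiplicative.toAdd]
    simp [Nat.card_congr Multiplicative.toAdd])
  exact ⟨(MulEquiv.ofBijective ψ hb).symm⟩

variable {X : Type*} [Group X]

/-- An element fixed modulo a subgroup of order two is central. -/
theorem central_of_twist [Finite X] {K W : Subgroup X} [K.Normal] [W.Normal] (hT : Top K)
    (hWfix : ∀ x : X, ∀ w ∈ W, x * w * x⁻¹ = w) {e : X} (hK : ∀ k ∈ K, k * e = e * k)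
    (hcos : ∀ x, e⁻¹ * (x * e * x⁻¹) ∈ W) : ∀ x, x * e = e * x := by
  letI : CommGroup W := { (inferInstance : Group W) with
    mul_comm := fun a b => Subtype.ext (mul_inv_eq_iff_eq_mul.1 (hWfix a b b.2)) }
  let χ : X →* W :=
    { toFun := fun x => ⟨e⁻¹ * (x * e * x⁻¹), hcos x⟩
      map_one' := Subtype.ext (by push_cast; group)
      map_mul' := fun a b => Subtype.ext (by
        push_cast
        calc e⁻¹ * (a * b * e * (a * b)⁻¹) = e⁻¹ * (a * e * a⁻¹) * (a * (e⁻¹ * (b * e * b⁻¹)) * a⁻¹) := by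
              group
          _ = _ := by rw [hWfix a _ (hcos b)]) }
  have hle : (⊤ : Subgroup X) ≤ χ.ker := hT.commutator_sup.ge.trans (sup_le
    (Abelianization.commutator_subset_ker χ) fun k hk => Subtype.ext (by
      show e⁻¹ * (k * e * k⁻¹) = 1
      rw [hK k hk, mul_inv_cancel_right, inv_mul_cancel]))
  intro x
  have h1 : e⁻¹ * (x * e * x⁻¹) = 1 := congrArg Subtype.val (MonoidHom.mem_ker.1 (hle (mem_top x)))
  rw [inv_mul_eq_one] at h1
  calc x * e = (x * e * x⁻¹) * x := by group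
    _ = e * x := by rw [← h1]

namespace Layer

variable {K W : Subgroup X} [hKn : K.Normal]

/-- A central element outside the hyperplane. -/
theorem not_rank_twist [Finite X] (h : Layer K W) (hW : Nat.card W = 2) {U : Subgroup X} [U.Normal]
    (hWU : W ≤ U) (hUK : U ≤ K) (f : Frame K U W) (hab : ∀ a ∈ K, ∀ b ∈ K, a * b = b * a)
    (hUe : ∀ u ∈ U, u * u = 1) {e : X} (heK : e ∈ K) (heU : e ∉ U) (he2 : e * e ≠ 1)
    (hcos : ∀ x, e⁻¹ * (x * e * x⁻¹) ∈ W) (hdec : ∀ k ∈ K, k ∈ U ∨ e⁻¹ * k ∈ U) :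
    ¬ Cfsg.SectionalPRankLE 2 4 X := by
  haveI := h.normal
  exact not_sectional_central f hUK
    (central_of_twist h.top (fun x w hw => h.fix_two hW x hw) (fun k hk => hab k hk e heK) hcos)
    heK heU he2 (h.exp _ (h.sq e heK)) (h.sq e heK) hWU hW
    (fun a ha b hb => hab a (hUK ha) b (hUK hb)) hUe hdec

/-- An involution of the quotient squares into the hyperplane. -/
theorem sq_mem_hyperplane [Finite X] (h : Layer K W) (hW : Nat.card W = 2) {U : Subgroup X}
    [hUn : U.Normal] (hWU : W ≤ U) (hUK : U ≤ K) (f : Frame K U W)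
    (hab : ∀ a ∈ K, ∀ b ∈ K, a * b = b * a) (hUe : ∀ u ∈ U, u * u = 1) {d : X} (hd : d ∈ K)
    (hdU : d ∉ U) (hd2 : d * d ≠ 1) (hcos : ∀ k ∈ K, k ∈ U ∨ d⁻¹ * k ∈ U)
    (hr : Cfsg.SectionalPRankLE 2 4 X) {a : X} (ha : f.ρ a = aMat) : a * a ∈ U := by
  haveI := h.normal
  obtain ⟨haa, hane, -⟩ := eight_facts
  have hax : a * a ∈ K := (f.ker _).1 (by rw [map_mul, ha, haa])
  by_contra hcon
  let π := QuotientGroup.mk' W
  have hmk : ∀ p q : X, π p = π q ↔ p⁻¹ * q ∈ W := fun p q => QuotientGroup.eq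
  haveI : (K.map π).Normal := hKn.map _ (QuotientGroup.mk'_surjective W)
  have hback : ∀ x, π x ∈ K.map π → x ∈ K := by
    rintro x ⟨k, hk, e⟩
    rw [← mul_inv_cancel_left k x]
    exact mul_mem hk (h.le ((hmk k x).1 e))
  have hT' : Top (K.map π) := h.top.of_hom (QuotientGroup.map W K (MonoidHom.id X) h.le)
    (fun q => by obtain ⟨x, rfl⟩ := QuotientGroup.mk_surjective q; exact ⟨π x, rfl⟩) (by
      ext q
      obtain ⟨x, rfl⟩ := QuotientGroup.mk'_surjective W q
      rw [MonoidHom.mem_ker]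
      show (QuotientGroup.mk x : X ⧸ K) = 1 ↔ _
      rw [QuotientGroup.eq_one_iff]
      exact ⟨mem_map_of_mem _, hback x⟩)
  set o := a * a with ho
  have hoU : ∀ x, o⁻¹ * (x * o * x⁻¹) ∈ U := by
    intro x
    have h1 := (hcos o hax).resolve_left hcon
    have hxo : x * o * x⁻¹ ∉ U := fun hm => hcon (by
      have := hUn.conj_mem _ hm x⁻¹; rwa [show x⁻¹ * (x * o * x⁻¹) * x⁻¹⁻¹ = o by group] at this)
    have h2 := (hcos _ (hKn.conj_mem o hax x)).resolve_left hxo
    rw [show o⁻¹ * (x * o * x⁻¹) = (d⁻¹ * o)⁻¹ * (d⁻¹ * (x * o * x⁻¹)) by group]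
    exact mul_mem (inv_mem h1) h2
  have hcardU : Nat.card (U.map π) = 8 := by
    have h1 := f.card_eq hWU
    rw [hW] at h1
    have h2 : (W.subgroupOf U).index = Nat.card (U.map π) := by
      rw [← relIndex_bot_left, ← relIndex_comap, MonoidHom.comap_bot, QuotientGroup.ker_mk']
      rfl
    have h3 := (W.subgroupOf U).index_mul_card
    rw [Nat.card_congr (subgroupOfEquivOfLe hWU).toEquiv, hW, h2] at h3
    omega
  obtain ⟨w, hw, hfix⟩ := exists_fixed hT' hcardU (o := π o) (a := π a)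
    (by rintro _ ⟨k, hk, rfl⟩; rw [← map_mul, ← map_mul, hab k hk o hax])
    (fun q => by
      obtain ⟨x, rfl⟩ := QuotientGroup.mk'_surjective W q
      exact ⟨_, hoU x, by simp only [map_mul, map_inv]; rfl⟩)
    (hUn.map _ (QuotientGroup.mk'_surjective W))
    (by rw [← map_mul, ← map_mul, ho, mul_assoc]) (fun e => hane (ha ▸ (f.ker a).2 (hback a e)))
    (by rw [← map_mul]; exact mem_map_of_mem _ hax)
  obtain ⟨u, hu, rfl⟩ := hw
  set e := o * u with he
  have heK : e ∈ K := mul_mem hax (hUK hu)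
  have heU : e ∉ U := fun hm => hcon ((Subgroup.mul_mem_cancel_right U hu).1 hm)
  have hdec : ∀ k ∈ K, k ∈ U ∨ e⁻¹ * k ∈ U := fun k hk => by
    rcases hcos k hk with h1 | h1
    · exact Or.inl h1
    · refine Or.inr ?_
      have h2 := (hcos e heK).resolve_left heU
      rw [show e⁻¹ * k = (d⁻¹ * e)⁻¹ * (d⁻¹ * k) by group]
      exact mul_mem (inv_mem h2) h1
  have he2 : e * e ≠ 1 := by
    have h2 := (hcos e heK).resolve_left heU
    have h3 := h.sq_mul hd (hUK h2)
    rw [mul_inv_cancel_left, hUe _ h2, cm_eq_one_iff.2 (hab d hd _ (hUK h2)), mul_one, mul_one] at h3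
    rw [h3]; exact hd2
  refine h.not_rank_twist hW hWU hUK f hab hUe heK heU he2 (fun x => ?_) hdec hr
  rw [← hmk, eq_comm]
  have h1 := hfix (π x)
  rw [← map_mul π o u, ← map_mul, ← map_mul] at h1
  rw [map_mul, map_inv, h1, ← map_inv, ← map_mul, mul_inv_cancel_right]

end Layer

theorem maximal_below [Finite X] {W : Subgroup X} (hW : W ≠ ⊥) :
    ∃ N : Subgroup X, N.Normal ∧ N < W ∧ ∀ K : Subgroup X, K.Normal → N ≤ K → K ≤ W →
      K = N ∨ K = W := by
  classical
  haveI := Fintype.ofFinite (Subgroup X)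
  obtain ⟨N, hN, hmax⟩ := Finset.exists_max_image
    (Finset.univ.filter fun N : Subgroup X => N.Normal ∧ N < W) (fun N => Nat.card N)
    ⟨⊥, Finset.mem_filter.2 ⟨Finset.mem_univ _, inferInstance, bot_lt_iff_ne_bot.2 hW⟩⟩
  obtain ⟨-, hNn, hNlt⟩ := Finset.mem_filter.1 hN
  refine ⟨N, hNn, hNlt, fun K hK hNK hKW => ?_⟩
  rcases eq_or_lt_of_le hKW with h | h
  · exact Or.inr h
  · exact Or.inl (eq_of_le_of_card_ge hNK (hmax K (Finset.mem_filter.2 ⟨Finset.mem_univ _, hK, h⟩))).symm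

/-- A chief factor inside a normal 2-subgroup is central in it and elementary. -/
theorem minimal_facts [Finite X] {P W : Subgroup X} [P.Normal] (hWn : W.Normal)
    (hP : IsPGroup 2 P) (hW : W ≤ P) (hW1 : W ≠ ⊥)
    (hmin : ∀ K : Subgroup X, K.Normal → K ≤ W → K = ⊥ ∨ K = W) :
    (∀ p ∈ P, ∀ w ∈ W, p * w = w * p) ∧ ∀ w ∈ W, w * w = 1 := by
  haveI : Fact (Nat.Prime 2) := ⟨Nat.prime_two⟩
  haveI := hWn
  have hc : ∀ p ∈ P, ∀ w ∈ W, p * w = w * p := by
    set K := W ⊓ centralizer (P : Set X) with hK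
    have hne : K ≠ ⊥ := by
      intro he
      have h1 := CfsgLib.PGroups.inf_center_ne_bot hP (N := W.subgroupOf P) (by
        rw [Ne, subgroupOf_eq_bot, disjoint_iff, inf_eq_left.2 hW]
        exact hW1)
      obtain ⟨x, hx, hx1⟩ := (Subgroup.bot_or_exists_ne_one _).resolve_left h1
      refine hx1 (Subtype.ext ((eq_bot_iff_forall _).1 he x ⟨hx.1, ?_⟩))
      exact mem_centralizer_iff.2 fun p hp =>
        congrArg Subtype.val (mem_center_iff.1 hx.2 ⟨p, hp⟩)
    have hKn : K.Normal := ⟨fun x hx g => ⟨hWn.conj_mem x hx.1 g,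
      mem_centralizer_iff.2 fun p hp => by
        have h1 := mem_centralizer_iff.1 hx.2 (g⁻¹ * p * g)
          (by have := (inferInstance : P.Normal).conj_mem p hp g⁻¹; rwa [inv_inv] at this)
        calc p * (g * x * g⁻¹) = g * ((g⁻¹ * p * g) * x) * g⁻¹ := by group
          _ = g * (x * (g⁻¹ * p * g)) * g⁻¹ := by rw [h1]
          _ = g * x * g⁻¹ * p := by group⟩⟩
    have hKW := (hmin K hKn inf_le_left).resolve_left hne
    intro p hp w hw
    exact mem_centralizer_iff.1 (hKW.ge hw).2 p hp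
  refine ⟨hc, ?_⟩
  let K : Subgroup X :=
    { carrier := {w | w ∈ W ∧ w * w = 1}
      one_mem' := ⟨one_mem _, one_mul 1⟩
      mul_mem' := fun {a b} ha hb => ⟨mul_mem ha.1 hb.1, by
        rw [show a * b * (a * b) = a * (b * a) * b by group, hc b (hW hb.1) a ha.1,
          show a * (a * b) * b = (a * a) * (b * b) by group, ha.2, hb.2, one_mul]⟩
      inv_mem' := fun {a} ha => ⟨inv_mem ha.1, by rw [← mul_inv_rev, ha.2, inv_one]⟩ }
  have hKn : K.Normal := ⟨fun x hx g => ⟨hWn.conj_mem x hx.1 g, by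
    rw [show g * x * g⁻¹ * (g * x * g⁻¹) = g * (x * x) * g⁻¹ by group, hx.2, mul_one, mul_inv_cancel]⟩⟩
  have hne : K ≠ ⊥ := by
    intro he
    obtain ⟨n, hn⟩ := (hP.to_le hW).exists_card_eq
    have hn0 : n ≠ 0 := fun h0 => hW1 (card_eq_one.1 (by rw [hn, h0, pow_zero]))
    obtain ⟨x, hx⟩ := exists_prime_orderOf_dvd_card' (G := W) 2 (hn ▸ dvd_pow_self 2 hn0)
    have hx2 : (x : X) * x = 1 := by
      have := congrArg Subtype.val (pow_orderOf_eq_one x)
      rw [hx, pow_two] at this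
      exact this
    have hx1 := (eq_bot_iff_forall _).1 he (x : X) ⟨x.2, hx2⟩
    rw [show x = 1 from Subtype.ext hx1, orderOf_one] at hx
    omega
  exact fun w hw => (((hmin K hKn fun w hw => hw.1).resolve_left hne).ge hw).2

theorem minimal_map {N W : Subgroup X} [N.Normal] (hNW : N < W)
    (hmax : ∀ K : Subgroup X, K.Normal → N ≤ K → K ≤ W → K = N ∨ K = W) :
    W.map (QuotientGroup.mk' N) ≠ ⊥ ∧ ∀ K : Subgroup (X ⧸ N), K.Normal →
      K ≤ W.map (QuotientGroup.mk' N) → K = ⊥ ∨ K = W.map (QuotientGroup.mk' N) := by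
  have hback : (W.map (QuotientGroup.mk' N)).comap (QuotientGroup.mk' N) = W := by
    rw [comap_map_eq, QuotientGroup.ker_mk', sup_eq_left.2 hNW.le]
  refine ⟨fun h => hNW.not_ge ?_, fun K hK hKW => ?_⟩
  · rw [← hback, h, MonoidHom.comap_bot, QuotientGroup.ker_mk']
  have hKmap := map_comap_eq_self_of_surjective (QuotientGroup.mk'_surjective N) K
  rcases hmax (K.comap (QuotientGroup.mk' N)) (hK.comap _)
    (fun x hx => by
      rw [mem_comap, QuotientGroup.mk'_apply, (QuotientGroup.eq_one_iff x).2 hx]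
      exact one_mem K)
    (hback ▸ comap_mono hKW) with h | h
  · refine Or.inl ?_
    rw [← hKmap, h, Subgroup.map_eq_bot_iff, QuotientGroup.ker_mk']
  · exact Or.inr (by rw [← hKmap, h])

/-- `O₂` below `L₃(2)`. -/
theorem pCore_cases {X : Type*} [Group X] [Finite X] (hc : Cfsg.IsPConstrained 2 X)
    (hO : Cfsg.oddCore X = ⊥) (h4 : Cfsg.SectionalPRankLE 2 4 X) (hT : Top (Cfsg.pCore 2 X)) :
    (Cfsg.IsElementaryAbelian 2 (Cfsg.pCore 2 X) ∧
        (Nat.card ↥(Cfsg.pCore 2 X) = 8 ∨ Nat.card ↥(Cfsg.pCore 2 X) = 16)) ∨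
      Nonempty (↥(Cfsg.pCore 2 X) ≃* Multiplicative (ZMod 4) × (Fin 3 → Multiplicative (ZMod 2))) := by
  classical
  haveI : Fact (Nat.Prime 2) := ⟨Nat.prime_two⟩
  set P := Cfsg.pCore 2 X with hPd
  have hPp : IsPGroup 2 P := CfsgLib.Core.isPGroup_pCore 2 X
  set Φ := sqClosure P with hΦd
  haveI hΦn : Φ.Normal := sqClosure_normal P
  have hΦP : Φ ≤ P := sqClosure_le P
  have hmove : ∃ x, ∃ p ∈ P, p⁻¹ * (x * p * x⁻¹) ∉ Φ := by
    obtain ⟨y, hy⟩ : ∃ y, y ∉ P := by
      by_contra hcon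
      push Not at hcon
      have := hT.card
      rw [show Nat.card (X ⧸ P) = P.index from rfl, (eq_top_iff' P).2 hcon, index_top] at this
      omega
    by_contra hcon
    push Not at hcon
    refine hy ((ker_frattiniAction hc hO).le (MonoidHom.mem_ker.2 (MulEquiv.ext fun v => ?_)))
    obtain ⟨p, rfl⟩ := QuotientGroup.mk_surjective v
    show ((MulAut.conjNormal y p : P) : P ⧸ frattini P) = _
    rw [MulAut.one_apply, eq_comm, QuotientGroup.eq]
    have hle : Φ ≤ (frattini P).map P.subtype := (closure_le _).2 (by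
      rintro _ ⟨q, hq, rfl⟩
      refine ⟨⟨q, hq⟩ * ⟨q, hq⟩, ?_, rfl⟩
      rw [SetLike.mem_coe, ← pow_two]
      exact CfsgLib.PGroups.pow_mem_frattini hPp _)
    obtain ⟨r, hr, hre⟩ := hle (hcon y p p.2)
    have he : (p : P)⁻¹ * MulAut.conjNormal y p = r := Subtype.ext (by
      show ((p : X))⁻¹ * ((MulAut.conjNormal y p : P) : X) = P.subtype r
      rw [hre, MulAut.conjNormal_apply])
    rw [he]
    exact hr
  haveI : (Φ.subgroupOf P).Normal := hΦn.subgroupOf P
  obtain ⟨n, hn⟩ : ∃ n, (Φ.subgroupOf P).index = 2 ^ n := hPp.index _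
  have hPPsq : ∀ p ∈ P, p * p ∈ Φ := fun p hp => sq_mem_sqClosure hp
  have hidx : (Φ.subgroupOf P).index = 8 ∨ (Φ.subgroupOf P).index = 16 := by
    have hq : ∀ q : P ⧸ Φ.subgroupOf P, q ^ 2 = 1 := fun q => by
      obtain ⟨p, rfl⟩ := QuotientGroup.mk_surjective q
      rw [← QuotientGroup.mk_pow, QuotientGroup.eq_one_iff, mem_subgroupOf, pow_two]
      exact hPPsq p p.2
    have hle : (Φ.subgroupOf P).index ≤ 16 := by
      have := h4 P (Φ.subgroupOf P) ⊤ ⟨⟨fun a b => Subtype.ext (by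
        obtain ⟨a', ha'⟩ := QuotientGroup.mk_surjective (a : P ⧸ Φ.subgroupOf P)
        obtain ⟨b', hb'⟩ := QuotientGroup.mk_surjective (b : P ⧸ Φ.subgroupOf P)
        push_cast
        rw [← ha', ← hb', ← QuotientGroup.mk_mul, ← QuotientGroup.mk_mul, QuotientGroup.eq,
          mem_subgroupOf]
        push_cast
        rw [show ((a' : X) * b')⁻¹ * (b' * a') = (b' : X)⁻¹ * (a' : X)⁻¹ * b' * a' by group]
        exact comm_mem_sqClosure b'.2 a'.2)⟩⟩ fun a _ => hq a
      rw [card_top] at this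
      exact this
    obtain ⟨x, p, hp, hx⟩ := hmove
    have key : ∀ y : X, (Φ.subgroupOf P).map ((MulAut.conjNormal y : MulAut P) : P →* P) =
        Φ.subgroupOf P := by
      intro y
      refine le_antisymm ?_ fun v hv => ⟨MulAut.conjNormal y⁻¹ v, ?_, ?_⟩
      · rintro _ ⟨v, hv, rfl⟩
        rw [mem_subgroupOf]
        show ((MulAut.conjNormal y v : P) : X) ∈ _
        rw [MulAut.conjNormal_apply]
        exact hΦn.conj_mem _ hv y
      · rw [SetLike.mem_coe, mem_subgroupOf, MulAut.conjNormal_apply]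
        exact hΦn.conj_mem _ hv y⁻¹
      · show MulAut.conjNormal y (MulAut.conjNormal y⁻¹ v) = v
        rw [← MulAut.mul_apply, ← map_mul, mul_inv_cancel, map_one, MulAut.one_apply]
    let σ : X →* Equiv.Perm (P ⧸ Φ.subgroupOf P) :=
      { toFun := fun y => (QuotientGroup.congr _ _ (MulAut.conjNormal y) (key y)).toEquiv
        map_one' := Equiv.ext fun q => by
          induction q using QuotientGroup.induction_on with
          | _ v => show QuotientGroup.mk (MulAut.conjNormal (1 : X) v) = _; rw [map_one]; rfl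
        map_mul' := fun a b => Equiv.ext fun q => by
          induction q using QuotientGroup.induction_on with
          | _ v => show QuotientGroup.mk (MulAut.conjNormal (a * b) v) = _; rw [map_mul]; rfl }
    have hσ : ∀ y (q : P), σ y (q : P ⧸ Φ.subgroupOf P) = QuotientGroup.mk (MulAut.conjNormal y q) :=
      fun _ _ => rfl
    have hker : σ.ker = P := (hT.normal_cases σ.ker (fun k hk => MonoidHom.mem_ker.2 (Equiv.ext fun q => by
        obtain ⟨v, rfl⟩ := QuotientGroup.mk_surjective q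
        rw [hσ, Equiv.Perm.one_apply, eq_comm, QuotientGroup.eq, mem_subgroupOf]
        push_cast
        rw [MulAut.conjNormal_apply, show (v : X)⁻¹ * (k * v * k⁻¹) =
          (v : X)⁻¹ * (k⁻¹)⁻¹ * v * k⁻¹ by group]
        exact comm_mem_sqClosure v.2 (inv_mem hk)))).resolve_right fun e => by
      have h1 : σ x = 1 := MonoidHom.mem_ker.1 (e ▸ mem_top x)
      have h2 := hσ x ⟨p, hp⟩
      rw [h1, Equiv.Perm.one_apply, QuotientGroup.eq, mem_subgroupOf] at h2
      push_cast at h2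
      rw [MulAut.conjNormal_apply] at h2
      exact hx h2
    have h168 : 168 ∣ (Φ.subgroupOf P).index.factorial := by
      have h1 := card_subgroup_dvd_card σ.range
      rw [← index_ker, hker, show P.index = 168 from hT.card, Nat.card_perm] at h1
      exact h1
    rw [hn] at hle h168 ⊢
    rcases n with _ | _ | _ | _ | _ | n
    · norm_num [Nat.factorial] at h168
    · norm_num [Nat.factorial] at h168
    · norm_num [Nat.factorial] at h168
    · exact Or.inl rfl
    · exact Or.inr rfl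
    · have : 2 ^ 5 ≤ 2 ^ (n + 1 + 1 + 1 + 1 + 1) := Nat.pow_le_pow_right (by norm_num) (by omega)
      omega
  by_cases hΦ1 : Φ = ⊥
  · refine Or.inl ⟨⟨⟨⟨fun a b => Subtype.ext (sqClosure_eq_bot hΦ1 a.2 b.2).2⟩⟩, fun a ha => ?_⟩, ?_⟩
    · rw [pow_two]; exact (sqClosure_eq_bot hΦ1 ha ha).1
    · have e : Φ.subgroupOf P = ⊥ := by rw [hΦ1, bot_subgroupOf]
      rw [e, index_bot] at hidx
      exact hidx
  obtain ⟨N, hNn, hNlt, hNmax⟩ := maximal_below hΦ1
  haveI := hNn
  have hNP : N ≤ P := hNlt.le.trans hΦP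
  let π := QuotientGroup.mk' N
  haveI hPn' : (P.map π).Normal := (inferInstance : P.Normal).map _ (QuotientGroup.mk'_surjective N)
  have hWn' : (Φ.map π).Normal := hΦn.map _ (QuotientGroup.mk'_surjective N)
  obtain ⟨hW1, hmin⟩ := minimal_map hNlt hNmax
  have hPp' : IsPGroup 2 (P.map π) := hPp.map π
  obtain ⟨hcen, hexp⟩ := minimal_facts hWn' hPp' (map_mono hΦP) hW1 hmin
  have hback : ∀ x, π x ∈ P.map π → x ∈ P := by
    rintro x ⟨k, hk, e⟩
    rw [← mul_inv_cancel_left k x]
    exact mul_mem hk (hNP (QuotientGroup.eq.1 e))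
  have hbackΦ : ∀ x, π x ∈ Φ.map π → x ∈ Φ := by
    rintro x ⟨k, hk, e⟩
    rw [← mul_inv_cancel_left k x]
    exact mul_mem hk (hNlt.le (QuotientGroup.eq.1 e))
  have hT' : Top (P.map π) := hT.of_hom (QuotientGroup.map N P (MonoidHom.id X) hNP)
    (fun q => by obtain ⟨x, rfl⟩ := QuotientGroup.mk_surjective q; exact ⟨π x, rfl⟩) (by
      ext q
      obtain ⟨x, rfl⟩ := QuotientGroup.mk'_surjective N q
      rw [MonoidHom.mem_ker]
      show (QuotientGroup.mk x : X ⧸ P) = 1 ↔ _
      rw [QuotientGroup.eq_one_iff]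
      exact ⟨mem_map_of_mem _, hback x⟩)
  have hL : Layer (P.map π) (Φ.map π) :=
    { top := hT'
      normal := hWn'
      le := map_mono hΦP
      ne := hW1
      central := hcen
      exp := hexp
      sq := by rintro _ ⟨k, hk, rfl⟩; exact ⟨k * k, hPPsq k hk, map_mul _ _ _⟩
      gen := by rw [hΦd, map_sqClosure]; exact le_rfl
      chief := hmin
      idx := by
        have e : ((Φ.map π).subgroupOf (P.map π)).index = (Φ.subgroupOf P).index := by
          show (Φ.map π).relIndex (P.map π) = Φ.relIndex P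
          rw [← relIndex_comap, comap_map_eq, QuotientGroup.ker_mk', sup_eq_left.2 hNlt.le]
        rw [e]
        exact hidx
      moved := by
        obtain ⟨x, p, hp, hx⟩ := hmove
        exact ⟨π x, π p, mem_map_of_mem _ hp, fun hm => hx (hbackΦ _ (by simpa only [map_mul, map_inv] using hm))⟩ }
  have hr' : Cfsg.SectionalPRankLE 2 4 (X ⧸ N) :=
    sectional_of_surjective h4 ⊤ (π.comp (topEquiv : (⊤ : Subgroup X) ≃* X).toMonoidHom)
      ((QuotientGroup.mk'_surjective N).comp topEquiv.surjective)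
  have hW2 : Nat.card (Φ.map π) = 2 := hL.card_cases.resolve_right fun e => hL.not_rank e hr'
  obtain ⟨hab, U, hUn, hWU, hUK, ⟨f⟩, hUe, d, hd, hdU, hd2, hcos⟩ := hL.two hW2
  haveI := hUn
  by_cases hN1 : N = ⊥
  · -- two layers
    right
    letI : CommGroup (P.map π) := { (inferInstance : Group (P.map π)) with
      mul_comm := fun a b => Subtype.ext (hab a a.2 b b.2) }
    have hinj : Function.Injective π := by
      rw [← MonoidHom.ker_eq_bot_iff, QuotientGroup.ker_mk', hN1]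
    have hcard : Nat.card (P.map π) = 32 := by
      have hU16 : Nat.card U = 16 := by rw [f.card_eq hWU, hW2]
      have hidx2 : (U.subgroupOf (P.map π)).index = 2 := by
        rw [index_eq_two_iff]
        refine ⟨⟨d, hd⟩⁻¹, fun b => ?_⟩
        rw [mem_subgroupOf, mem_subgroupOf]
        push_cast
        by_cases hb : (b : X ⧸ N) ∈ U
        · refine Or.inr ⟨hb, fun e => hdU ?_⟩
          have := mul_mem (inv_mem hb) e
          rw [inv_mul_cancel_left] at this
          simpa using inv_mem this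
        · refine Or.inl ⟨?_, hb⟩
          rw [hab _ b.2 _ (inv_mem hd)]
          exact (hcos _ b.2).resolve_left hb
      have h1 := (U.subgroupOf (P.map π)).index_mul_card
      rw [hidx2, Nat.card_congr (subgroupOfEquivOfLe hUK).toEquiv, hU16] at h1
      omega
    let e : Fin 3 → P.map π := ![⟨f.lift ![1, 0, 0], hUK (f.lift_mem _)⟩,
      ⟨f.lift ![0, 1, 0], hUK (f.lift_mem _)⟩, ⟨f.lift ![0, 0, 1], hUK (f.lift_mem _)⟩]
    obtain ⟨ψ⟩ := nonempty_four_eight hcard ⟨d, hd⟩ e
      (fun i => Subtype.ext (by fin_cases i <;> exact hUe _ (f.lift_mem _)))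
      (Subtype.ext (hexp _ (hL.sq d hd))) (fun e' => hd2 (congrArg Subtype.val e'))
      (U.subgroupOf (P.map π)) (fun i => by rw [mem_subgroupOf]; fin_cases i <;> exact f.lift_mem _)
      (fun hm => hdU hm) (hWU (hL.sq d hd)) (fun v hv => by
        have hmem : ((∏ i, e i ^ (v i).val : P.map π) : X ⧸ N) ∈ Φ.map π := by
          refine (Subgroup.zpowers_le (H := (Φ.map π).subgroupOf (P.map π))).2 ?_ hv
          exact hL.sq d hd
        have hU' : ((∏ i, e i ^ (v i).val : P.map π) : X ⧸ N) =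
            f.lift ![1, 0, 0] ^ (v 0).val * f.lift ![0, 1, 0] ^ (v 1).val * f.lift ![0, 0, 1] ^ (v 2).val := by
          rw [Fin.prod_univ_three]; rfl
        rw [hU'] at hmem
        have h1 := f.lift_mem ![1, 0, 0]
        have h2 := f.lift_mem ![0, 1, 0]
        have h3 := f.lift_mem ![0, 0, 1]
        have hco := (f.co_ker _ (mul_mem (mul_mem (pow_mem h1 _) (pow_mem h2 _)) (pow_mem h3 _))).2 hmem
        have hpow : ∀ (a : X ⧸ N), a ∈ U → ∀ n : Fin 2, f.co (a ^ (n : ℕ)) = ((n : ℕ) : ZMod 2) • f.co a := by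
          intro a ha n
          fin_cases n <;> simp [f.co_one]
        have hval : ∀ x : ZMod 2, ∃ n : Fin 2, x.val = (n : ℕ) ∧ ((n : ℕ) : ZMod 2) = x := fun x =>
          ⟨⟨x.val, ZMod.val_lt x⟩, rfl, ZMod.natCast_zmod_val x⟩
        obtain ⟨n0, e0, e0'⟩ := hval (v 0)
        obtain ⟨n1, e1, e1'⟩ := hval (v 1)
        obtain ⟨n2, e2, e2'⟩ := hval (v 2)
        rw [f.co_mul _ (mul_mem (pow_mem h1 _) (pow_mem h2 _)) _ (pow_mem h3 _),
          f.co_mul _ (pow_mem h1 _) _ (pow_mem h2 _), e0, e1, e2, hpow _ h1, hpow _ h2, hpow _ h3,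
          f.co_lift, f.co_lift, f.co_lift, e0', e1', e2'] at hco
        rw [← hco]
        ext i
        fin_cases i <;> simp)
    exact ⟨(P.equivMapOfInjective π hinj).trans ψ⟩
  -- a third layer is impossible
  exfalso
  have haa := eight_facts.1
  obtain ⟨a, hfa⟩ := f.surj aMat (by decide +kernel)
  have haU := hL.sq_mem_hyperplane hW2 hWU hUK f hab hUe hd hdU hd2 hcos hr' hfa
  -- pull back to `X`
  set U0 := U.comap π with hU0d
  haveI hU0n : U0.Normal := hUn.comap π
  have hU0P : U0 ≤ P := fun x hx => hback x (hUK hx)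
  have hΦU0 : Φ ≤ U0 := fun x hx => hWU (mem_map_of_mem _ hx)
  obtain ⟨d0, hd0, hd0'⟩ := hd
  have hcos0 : ∀ k ∈ P, k ∈ U0 ∨ d0⁻¹ * k ∈ U0 := fun k hk => by
    rcases hcos (π k) (mem_map_of_mem _ hk) with h1 | h1
    · exact Or.inl h1
    · exact Or.inr (by show π (d0⁻¹ * k) ∈ U; rw [map_mul, map_inv, hd0']; exact h1)
  have hd0U : d0 ∉ U0 := fun e => hdU (hd0' ▸ e)
  set R := commutator X ⊔ U0 with hRd
  have hRP : R ⊔ P = ⊤ := top_le_iff.1 (hT.commutator_sup.ge.trans (sup_le_sup_right le_sup_left P))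
  have hsplit : ∀ k ∈ P, k ∈ R → k ∈ U0 := by
    intro k hk hkR
    by_contra hkU
    have hdR : d0 ∈ R := by
      have h1 := (hcos0 k hk).resolve_left hkU
      rw [show d0 = k * (d0⁻¹ * k)⁻¹ by group]
      exact mul_mem hkR (inv_mem (mem_sup_right h1))
    have hPR : P ≤ R := fun p hp => by
      rcases hcos0 p hp with hu | hu
      · exact mem_sup_right hu
      · rw [← mul_inv_cancel_left d0 p]; exact mul_mem hdR (mem_sup_right hu)
    have hRtop : R = ⊤ := by rwa [sup_eq_left.2 hPR] at hRP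
    obtain ⟨a0, rfl⟩ := QuotientGroup.mk'_surjective N a
    let ρ0 : X →* M3 := f.ρ.comp π
    have hρU : U0 ≤ (MonoidHom.toHomUnits ρ0).ker := fun u hu =>
      Units.ext ((f.ker (π u)).2 (hUK hu))
    let ρ' : X ⧸ U0 →* M3 := (Units.coeHom M3).comp (QuotientGroup.lift U0 (MonoidHom.toHomUnits ρ0) hρU)
    refine not_perfect_cover (ζ := (QuotientGroup.mk d0 : X ⧸ U0)) ρ' ?_ ?_ ?_ ?_ ?_ ?_ ?_ ?_
      (t := QuotientGroup.mk a0) ?_ ?_
    · intro M hM
      obtain ⟨x, hx⟩ := f.surj M hM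
      obtain ⟨x0, rfl⟩ := QuotientGroup.mk'_surjective N x
      exact ⟨QuotientGroup.mk x0, hx⟩
    · intro q
      obtain ⟨x, rfl⟩ := QuotientGroup.mk_surjective q
      have hdx : d0⁻¹ * (x * d0 * x⁻¹) ∈ U0 :=
        (hcos0 _ ((inferInstance : P.Normal).conj_mem d0 hd0 x)).resolve_left fun hm =>
          hd0U (by have := hU0n.conj_mem _ hm x⁻¹; rwa [show x⁻¹ * (x * d0 * x⁻¹) * x⁻¹⁻¹ = d0 by group] at this)
      rw [← QuotientGroup.mk_mul, ← QuotientGroup.mk_mul, eq_comm, QuotientGroup.eq,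
        show (d0 * x)⁻¹ * (x * d0) = x⁻¹ * (d0⁻¹ * (x * d0 * x⁻¹)) * x⁻¹⁻¹ by group]
      exact hU0n.conj_mem _ hdx _
    · exact fun e => hd0U ((QuotientGroup.eq_one_iff d0).1 e)
    · rw [← QuotientGroup.mk_mul, QuotientGroup.eq_one_iff]
      exact hΦU0 (hPPsq d0 hd0)
    · intro q hq
      obtain ⟨x, rfl⟩ := QuotientGroup.mk_surjective q
      rcases hcos0 x (hback x ((f.ker (π x)).1 hq)) with hu | hu
      · exact Or.inl ((QuotientGroup.eq_one_iff x).2 hu)
      · exact Or.inr (QuotientGroup.eq.2 hu).symm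
    · exact (f.ker (π d0)).2 (mem_map_of_mem _ hd0)
    · rw [show Nat.card (X ⧸ U0) = U0.index from rfl, ← relIndex_mul_index hU0P,
        show P.index = 168 from hT.card]
      have h2 : U0.relIndex P = 2 := by
        rw [relIndex, index_eq_two_iff]
        refine ⟨⟨d0, hd0⟩⁻¹, fun b => ?_⟩
        rw [mem_subgroupOf, mem_subgroupOf]
        push_cast
        by_cases hb : (b : X) ∈ U0
        · refine Or.inr ⟨hb, fun e => hd0U ?_⟩
          have := mul_mem (inv_mem hb) e
          rw [inv_mul_cancel_left] at this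
          simpa using inv_mem this
        · refine Or.inl ⟨?_, hb⟩
          rw [show (b : X) * d0⁻¹ = d0 * (d0⁻¹ * b) * d0⁻¹ by group]
          exact hU0n.conj_mem _ ((hcos0 _ b.2).resolve_left hb) d0
      rw [h2]
    · have h1 : (commutator X).map (QuotientGroup.mk' U0) = commutator (X ⧸ U0) := by
        rw [_root_.commutator_def, map_commutator, map_top_of_surjective _ (QuotientGroup.mk'_surjective U0),
          ← _root_.commutator_def]
      rw [← h1]
      refine top_le_iff.1 fun q _ => ?_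
      obtain ⟨x, rfl⟩ := QuotientGroup.mk'_surjective U0 q
      obtain ⟨c, hc', u, hu, rfl⟩ := (mem_sup_of_normal_right).1 (hRtop ▸ mem_top x)
      rw [map_mul, show QuotientGroup.mk' U0 u = 1 from (QuotientGroup.eq_one_iff u).2 hu, mul_one]
      exact mem_map_of_mem _ hc'
    · show f.ρ (π a0) ≠ 1
      rw [hfa]
      exact eight_facts.2.1
    · rw [← QuotientGroup.mk_mul, QuotientGroup.eq_one_iff]
      show π (a0 * a0) ∈ U
      rw [map_mul]
      exact haU
  -- the next layer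
  obtain ⟨M, hMn, hMlt, hMmax⟩ := maximal_below hN1
  haveI := hMn
  let π2 := QuotientGroup.mk' M
  have hMP : M ≤ P := hMlt.le.trans hNP
  have hNU0 : N ≤ U0 := hNlt.le.trans hΦU0
  have hMU0 : M ≤ U0 := hMlt.le.trans hNU0
  haveI : (P.map π2).Normal := (inferInstance : P.Normal).map _ (QuotientGroup.mk'_surjective M)
  haveI hK'n : (U0.map π2).Normal := hU0n.map _ (QuotientGroup.mk'_surjective M)
  have hN'n : (N.map π2).Normal := hNn.map _ (QuotientGroup.mk'_surjective M)
  obtain ⟨hN'1, hmin'⟩ := minimal_map hMlt hMmax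
  obtain ⟨hcen', hexp'⟩ := minimal_facts hN'n (hPp.map π2) (map_mono hNP) hN'1 hmin'
  set R' := R.map π2 with hR'd
  set K2 := (U0.map π2).subgroupOf R' with hK2d
  set W2 := (N.map π2).subgroupOf R' with hW2d
  haveI : K2.Normal := hK'n.subgroupOf R'
  have hU0R : U0 ≤ R := le_sup_right
  have hK'R : U0.map π2 ≤ R' := map_mono hU0R
  have hN'R : N.map π2 ≤ R' := map_mono (hNU0.trans hU0R)
  have hbackM : ∀ {S : Subgroup X}, M ≤ S → ∀ x, π2 x ∈ S.map π2 → x ∈ S := by
    rintro S hMS x ⟨k, hk, e⟩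
    rw [← mul_inv_cancel_left k x]
    exact mul_mem hk (hMS (QuotientGroup.eq.1 e))
  have hRx : ∀ x : X, ∃ r ∈ R, ∃ k ∈ P, r * k = x := fun x =>
    (mem_sup_of_normal_right).1 (hRP ▸ mem_top x)
  have hMR : M ≤ R := hMU0.trans hU0R
  have hT2 : Top K2 := by
    refine hT.of_hom ((QuotientGroup.map M P (MonoidHom.id X) hMP).comp R'.subtype) ?_ ?_
    · intro q
      obtain ⟨x, rfl⟩ := QuotientGroup.mk_surjective q
      obtain ⟨r, hr, k, hk, rfl⟩ := hRx x
      exact ⟨⟨π2 r, mem_map_of_mem _ hr⟩, QuotientGroup.eq.2 (by simpa using hk)⟩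
    · ext ⟨q, hq⟩
      obtain ⟨x, rfl⟩ := QuotientGroup.mk'_surjective M q
      rw [MonoidHom.mem_ker, hK2d, mem_subgroupOf]
      show (QuotientGroup.mk x : X ⧸ P) = 1 ↔ π2 x ∈ U0.map π2
      rw [QuotientGroup.eq_one_iff]
      exact ⟨fun hx => mem_map_of_mem _ (hsplit x hx (hbackM hMR x hq)),
        fun hx => hU0P (hbackM hMU0 x hx)⟩
  have hsq0 : ∀ k ∈ U0, k * k ∈ N := fun k hk => by
    rw [← QuotientGroup.eq_one_iff (N := N), QuotientGroup.mk_mul]
    exact hUe (π k) hk
  have hU016 : N.relIndex U0 = 16 := by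
    rw [show N.relIndex U0 = Nat.card (U0.map π) from by
      rw [← relIndex_bot_left, ← relIndex_comap, MonoidHom.comap_bot, QuotientGroup.ker_mk'],
      map_comap_eq_self_of_surjective (QuotientGroup.mk'_surjective N), f.card_eq hWU, hW2]
  have hK'idx : (N.map π2).relIndex (U0.map π2) = 16 := by
    rw [← relIndex_comap, comap_map_eq, QuotientGroup.ker_mk', sup_eq_left.2 hMlt.le, hU016]
  have hr2 : Cfsg.SectionalPRankLE 2 4 (X ⧸ M) :=
    sectional_of_surjective h4 ⊤ (π2.comp (topEquiv : (⊤ : Subgroup X) ≃* X).toMonoidHom)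
      ((QuotientGroup.mk'_surjective M).comp topEquiv.surjective)
  have hsqK' : ∀ k ∈ U0.map π2, k * k ∈ N.map π2 := by
    rintro _ ⟨k, hk, rfl⟩
    exact ⟨k * k, hsq0 k hk, map_mul _ _ _⟩
  have hgen' : N.map π2 ≤ sqClosure (U0.map π2) := by
    haveI := sqClosure_normal (U0.map π2)
    have hle : sqClosure (U0.map π2) ≤ N.map π2 := (closure_le _).2 (by
      rintro _ ⟨p, hp, rfl⟩; exact hsqK' p hp)
    rcases hmin' _ inferInstance hle with e | e
    · exfalso
      have h16 := card_elementary_le hr2 (U0.map π2) (fun p hp q hq => (sqClosure_eq_bot e hp hq).2)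
        (fun p hp => (sqClosure_eq_bot e hp hp).1)
      have h1 := ((N.map π2).subgroupOf (U0.map π2)).index_mul_card
      rw [show ((N.map π2).subgroupOf (U0.map π2)).index = 16 from hK'idx,
        Nat.card_congr (subgroupOfEquivOfLe (map_mono hNU0)).toEquiv] at h1
      have h2 : 1 < Nat.card (N.map π2) := (one_lt_card_iff_ne_bot _).2 hN'1
      omega
    · exact e.ge
  have hL2 : Layer K2 W2 :=
    { top := hT2
      normal := hN'n.subgroupOf R'
      le := fun r hr => map_mono hNU0 hr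
      ne := by rw [hW2d, Ne, subgroupOf_eq_bot, disjoint_iff, inf_eq_left.2 hN'R]; exact hN'1
      central := fun k hk w hw => Subtype.ext (hcen' _ (map_mono hU0P hk) _ hw)
      exp := fun w hw => Subtype.ext (hexp' _ hw)
      sq := fun k hk => hsqK' _ hk
      gen := by
        have hm : N.map π2 ≤ (closure {w | ∃ k ∈ K2, k * k = w}).map R'.subtype :=
          hgen'.trans ((closure_le _).2 (by
            rintro _ ⟨p, hp, rfl⟩
            exact ⟨⟨p, hK'R hp⟩ * ⟨p, hK'R hp⟩, subset_closure ⟨⟨p, hK'R hp⟩, hp, rfl⟩, rfl⟩))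
        intro w hw
        obtain ⟨v, hv, e⟩ := hm hw
        rwa [show w = v from Subtype.ext e.symm]
      chief := fun S hS hSW => by
        have hSn : (S.map R'.subtype).Normal := ⟨fun w hw y => by
          obtain ⟨v, hv, rfl⟩ := hw
          obtain ⟨x, rfl⟩ := QuotientGroup.mk'_surjective M y
          obtain ⟨r, hr, k, hk, rfl⟩ := hRx x
          have h1 : π2 k * (v : X ⧸ M) * (π2 k)⁻¹ = v := by
            rw [show π2 k * (v : X ⧸ M) = (v : X ⧸ M) * π2 k from hcen' _ (mem_map_of_mem _ hk) _ (hSW hv),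
              mul_inv_cancel_right]
          rw [map_mul]
          refine ⟨⟨π2 r, mem_map_of_mem _ hr⟩ * v * ⟨π2 r, mem_map_of_mem _ hr⟩⁻¹, hS.conj_mem v hv _, ?_⟩
          show π2 r * v * (π2 r)⁻¹ = π2 r * π2 k * v * (π2 r * π2 k)⁻¹
          conv_lhs => rw [← h1]
          group⟩
        rcases hmin' _ hSn (by rintro _ ⟨v, hv, rfl⟩; exact hSW hv) with e | e
        · exact Or.inl ((map_eq_bot_iff_of_injective _ R'.subtype_injective).1 e)
        · refine Or.inr (le_antisymm hSW fun w hw => ?_)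
          obtain ⟨v, hv, e'⟩ := e.ge hw
          rwa [show w = v from Subtype.ext e'.symm]
      idx := by
        right
        show W2.relIndex K2 = 16
        rw [hW2d, hK2d, relIndex_subgroupOf hK'R]
        exact hK'idx
      moved := by
        obtain ⟨u, hu, huW⟩ : ∃ u ∈ U, u ∉ Φ.map π :=
          ⟨f.lift ![1, 0, 0], f.lift_mem _, fun e => by
            have := (f.co_ker _ (f.lift_mem ![1, 0, 0])).2 e
            rw [f.co_lift] at this
            exact base_ne this⟩
        obtain ⟨u0, rfl⟩ := QuotientGroup.mk'_surjective N u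
        obtain ⟨y, hy, -⟩ : ∃ y, (π u0)⁻¹ * (y * π u0 * y⁻¹) ∉ Φ.map π ∧ f.ρ y = sevenMat := by
          obtain ⟨y, hy⟩ := f.surj _ sevenMat_det
          refine ⟨y, fun e => huW ((f.co_ker _ hu).1 (sevenMat_fixed _ ?_)), hy⟩
          rw [← hy, ← f.co_conj y _ hu]
          exact ((f.co_eq hu (hUn.conj_mem _ hu y)).2 e).symm
        obtain ⟨x, rfl⟩ := QuotientGroup.mk'_surjective N y
        obtain ⟨r, hr, k, hk, rfl⟩ := hRx x
        refine ⟨⟨π2 r, mem_map_of_mem _ hr⟩, ⟨π2 u0, hK'R (mem_map_of_mem _ hu)⟩, mem_map_of_mem _ hu,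
          fun e => hy ?_⟩
        have e1 : u0⁻¹ * (r * u0 * r⁻¹) ∈ N := hbackM hMlt.le _ (by
          simp only [map_mul, map_inv]; exact e)
        have e2 : π k * π u0 * (π k)⁻¹ = π u0 := by
          rw [hab _ (mem_map_of_mem _ hk) _ (hUK hu), mul_inv_cancel_right]
        have e3 : (π u0)⁻¹ * (π (r * k) * π u0 * (π (r * k))⁻¹) = π (u0⁻¹ * (r * u0 * r⁻¹)) := by
          calc (π u0)⁻¹ * (π (r * k) * π u0 * (π (r * k))⁻¹)
              = (π u0)⁻¹ * (π r * (π k * π u0 * (π k)⁻¹) * (π r)⁻¹) := by rw [map_mul]; group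
            _ = _ := by rw [e2]; simp only [map_mul, map_inv]
        show (π u0)⁻¹ * (π (r * k) * π u0 * (π (r * k))⁻¹) ∈ _
        rw [e3, show π (u0⁻¹ * (r * u0 * r⁻¹)) = 1 from (QuotientGroup.eq_one_iff _).2 e1]
        exact one_mem _ }
  have hrR : Cfsg.SectionalPRankLE 2 4 R' :=
    sectional_of_surjective hr2 R' (MonoidHom.id R') fun r => ⟨r, rfl⟩
  have hW22 : Nat.card W2 = 2 := hL2.card_cases.resolve_right fun e => hL2.not_rank e hrR
  obtain ⟨hab2, U2, hU2n, hWU2, hUK2, ⟨f2⟩, hUe2, d2, hd2K, hd2U, hd22, hcos2⟩ := hL2.two hW22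
  haveI := hU2n
  set q := d0 * d0 with hqd
  have hqΦ : q ∈ Φ := hPPsq d0 hd0
  have hqN : q ∉ N := fun e => hd2 (by
    rw [← hd0', ← map_mul]
    exact (QuotientGroup.eq_one_iff _).2 e)
  set e : R' := ⟨π2 q, mem_map_of_mem _ (hU0R (hΦU0 hqΦ))⟩ with hed
  have heK : e ∈ K2 := mem_map_of_mem _ (hΦU0 hqΦ)
  have hecos : ∀ r : R', e⁻¹ * (r * e * r⁻¹) ∈ W2 := by
    rintro ⟨y, hy⟩
    obtain ⟨x, rfl⟩ := QuotientGroup.mk'_surjective M y
    have h1 := hL.fix_two hW2 (π x) (mem_map_of_mem π hqΦ)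
    refine ⟨q⁻¹ * (x * q * x⁻¹), ?_, by simp only [map_mul, map_inv]; rfl⟩
    rw [SetLike.mem_coe, ← QuotientGroup.eq]
    calc π q = π x * π q * (π x)⁻¹ := h1.symm
      _ = π (x * q * x⁻¹) := by simp only [map_mul, map_inv]
  have heU2 : e ∉ U2 := by
    intro hm
    obtain ⟨s, hs⟩ := f2.surj _ sevenMat_det
    have h1 : f2.co e = 0 := sevenMat_fixed _ (by
      rw [← hs, ← f2.co_conj s e hm]
      exact ((f2.co_eq hm (hU2n.conj_mem e hm s)).2 (hecos s)).symm)
    exact hqN (hbackM hMlt.le q ((f2.co_ker e hm).1 h1))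
  have hdec2 : ∀ k ∈ K2, k ∈ U2 ∨ e⁻¹ * k ∈ U2 := fun k hk => by
    rcases hcos2 k hk with h1 | h1
    · exact Or.inl h1
    · refine Or.inr ?_
      have h2 := (hcos2 e heK).resolve_left heU2
      rw [show e⁻¹ * k = (d2⁻¹ * e)⁻¹ * (d2⁻¹ * k) by group]
      exact mul_mem (inv_mem h2) h1
  have he2 : e * e ≠ 1 := by
    have h2 := (hcos2 e heK).resolve_left heU2
    have h3 := hL2.sq_mul hd2K (hUK2 h2)
    rw [mul_inv_cancel_left, hUe2 _ h2, cm_eq_one_iff.2 (hab2 d2 hd2K _ (hUK2 h2)), mul_one, mul_one] at h3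
    rw [h3]; exact hd22
  exact hL2.not_rank_twist hW22 hWU2 hUK2 f2 hab2 hUe2 heK heU2 he2 hecos hdec2 hrR

end CfsgLib.RankFourQuotient.LThree
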