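import Cfsg.Agent.Lib.TwoGroups.RankFourQuotient.LinearThreeTwoEight

/-!
Owner: helper12. A natural chief factor below a layer forces sectional 2-rank at least five.
-/

set_option autoImplicit false
set_option maxHeartbeats 800000
set_option linter.style.haveILetI false

namespace CfsgLib.RankFourQuotient.LThree

open Subgroup
open scoped Matrix

theorem point_pairs : ∀ w : V3, w = 0 ∨ w = ![1, 0, 0] ∨ ∃ φ : V3, ∃ c : V3, φ ⬝ᵥ c = 0 ∧
    tv φ c *ᵥ ![1, 0, 0] = ![1, 0, 0] ∧ tv φ c *ᵥ w ≠ w ∧ tv φ c *ᵥ w ≠ w + ![1, 0, 0] := by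
  decide +kernel

theorem transitive_nonzero {X : Type*} [Group X] {K A B : Subgroup X} (f : Frame K A B) {v : V3}
    (hv : v ≠ 0) : ∃ x, f.ρ x *ᵥ ![1, 0, 0] = v := by
  obtain ⟨i, hi⟩ := sevenMat_transitive v hv
  obtain ⟨s, hs⟩ := f.surj _ sevenMat_det
  exact ⟨s ^ (i : ℕ), by rw [map_pow, hs]; exact hi⟩

variable {X : Type*} [Group X]

namespace Layer

variable {K W : Subgroup X} [hKn : K.Normal]

/-- An equivariant choice of lifts spans an invariant hyperplane. -/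
theorem hyperplane_of_fixed (h : Layer K W) {T : Subgroup X} [hTn : T.Normal] (hWT : W ≤ T)
    (hTK : T ≤ K) (f : Frame K K T) {t : X} (ht : t ∈ T) (htW : t ∉ W)
    (hcos : ∀ b ∈ T, b ∈ W ∨ t⁻¹ * b ∈ W) {l : X} (hl : l ∈ K) (hcl : f.co l = ![1, 0, 0])
    (hstab : ∀ x, f.ρ x *ᵥ ![1, 0, 0] = ![1, 0, 0] → l⁻¹ * (x * l * x⁻¹) ∈ W) :
    ∃ U : Subgroup X, U.Normal ∧ W ≤ U ∧ U ≤ K ∧ Nonempty (Frame K U W) ∧ t ∉ U ∧
      ∀ k ∈ K, k ∈ U ∨ t⁻¹ * k ∈ U := by
  classical
  haveI := h.normal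
  let π := QuotientGroup.mk' W
  have hmk : ∀ a b : X, π a = π b ↔ a⁻¹ * b ∈ W := fun a b => QuotientGroup.eq
  have h1 : ∀ a, π a = 1 ↔ a ∈ W := fun a => QuotientGroup.eq_one_iff a
  have hc : ∀ a ∈ K, ∀ b ∈ K, π a * π b = π b * π a := fun a ha b hb => by
    rw [← map_mul, ← map_mul, hmk, show (a * b)⁻¹ * (b * a) = cm b⁻¹ a⁻¹ by simp only [cm]; group]
    exact h.comm_mem (inv_mem hb) (inv_mem ha)
  have he : ∀ a ∈ K, π a * π a = 1 := fun a ha => by rw [← map_mul, h1]; exact h.sq a ha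
  have hinv : ∀ a ∈ K, π a⁻¹ = π a := fun a ha => by
    rw [map_inv]; exact inv_eq_of_mul_eq_one_right (he a ha)
  have htx : ∀ x, π (x * t * x⁻¹) = π t := fun x => by
    rw [eq_comm, hmk]
    exact (hcos _ (hTn.conj_mem t ht x)).resolve_left fun hm =>
      htW (by have := h.normal.conj_mem _ hm x⁻¹; rwa [show x⁻¹ * (x * t * x⁻¹) * x⁻¹⁻¹ = t by group] at this)
  have hcot : f.co t = 0 := (f.co_ker t (hTK ht)).2 ht
  have hx : ∀ v : V3, ∃ x, v ≠ 0 → f.ρ x *ᵥ ![1, 0, 0] = v := fun v => by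
    by_cases hv : v = 0
    · exact ⟨1, fun e => absurd hv e⟩
    · obtain ⟨x, hx⟩ := transitive_nonzero f hv
      exact ⟨x, fun _ => hx⟩
  choose xv hxv using hx
  let sc : X → V3 → X := fun l v => if v = 0 then 1 else xv v * l * (xv v)⁻¹
  have hsc0 : ∀ l, sc l 0 = 1 := fun l => if_pos rfl
  have hscK : ∀ l ∈ K, ∀ v, sc l v ∈ K := fun l hl v => by
    by_cases hv : v = 0
    · rw [hv, hsc0]; exact one_mem _
    · show ite _ _ _ ∈ K; rw [if_neg hv]; exact hKn.conj_mem l hl _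
  have hscco : ∀ l ∈ K, f.co l = ![1, 0, 0] → ∀ v, f.co (sc l v) = v := fun l hl e v => by
    by_cases hv : v = 0
    · rw [hv, hsc0, f.co_one]
    · show f.co (ite _ _ _) = v
      rw [if_neg hv, f.co_conj _ l hl, e, hxv v hv]
  have hequiv : ∀ l, (∀ x, f.ρ x *ᵥ ![1, 0, 0] = ![1, 0, 0] → π (x * l * x⁻¹) = π l) →
      ∀ x v, π (sc l (f.ρ x *ᵥ v)) = π (x * sc l v * x⁻¹) := by
    intro l hst x v
    by_cases hv : v = 0
    · rw [hv, Matrix.mulVec_zero, hsc0, mul_one, mul_inv_cancel]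
    have hv' : f.ρ x *ᵥ v ≠ 0 := fun e => hv (by
      have := congrArg (f.ρ x⁻¹ *ᵥ ·) e
      simpa only [Matrix.mulVec_mulVec, ← map_mul, inv_mul_cancel, map_one, Matrix.one_mulVec,
        Matrix.mulVec_zero] using this)
    show π (ite _ _ _) = π (x * (ite _ _ _) * x⁻¹)
    rw [if_neg hv, if_neg hv']
    generalize hp : xv (f.ρ x *ᵥ v) = p
    generalize hq : xv v = q
    have hy : f.ρ (p⁻¹ * x * q) *ᵥ ![1, 0, 0] = ![1, 0, 0] := by
      rw [map_mul, ← Matrix.mulVec_mulVec, ← hq, hxv v hv, map_mul, ← Matrix.mulVec_mulVec,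
        ← hxv _ hv', hp, Matrix.mulVec_mulVec, ← map_mul, inv_mul_cancel, map_one, Matrix.one_mulVec]
    rw [map_mul, map_mul, ← hst _ hy, ← map_mul, ← map_mul]
    congr 1
    group
  -- the correct choice
  obtain ⟨l', hl', hcl', hst', hδ⟩ : ∃ l' ∈ K, f.co l' = ![1, 0, 0] ∧
      (∀ x, f.ρ x *ᵥ ![1, 0, 0] = ![1, 0, 0] → π (x * l' * x⁻¹) = π l') ∧
      π (sc l' ![1, 0, 0]) * π (sc l' ![0, 1, 0]) = π (sc l' (![1, 0, 0] + ![0, 1, 0])) := by
    have hst : ∀ x, f.ρ x *ᵥ ![1, 0, 0] = ![1, 0, 0] → π (x * l * x⁻¹) = π l := fun x e => by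
      rw [eq_comm, hmk]; exact hstab x e
    set δ := sc l ![1, 0, 0] * sc l ![0, 1, 0] * sc l (![1, 0, 0] + ![0, 1, 0]) with hδd
    have hp := hscK l hl ![1, 0, 0]
    have hq := hscK l hl ![0, 1, 0]
    have hr := hscK l hl (![1, 0, 0] + ![0, 1, 0])
    have hδT : δ ∈ T := (f.co_ker _ (mul_mem (mul_mem hp hq) hr)).1 (by
      rw [f.co_mul _ (mul_mem hp hq) _ hr, f.co_mul _ hp _ hq, hscco l hl hcl, hscco l hl hcl,
        hscco l hl hcl, vec_add_self])
    rcases hcos δ hδT with hw | hw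
    · refine ⟨l, hl, hcl, hst, ?_⟩
      have e := (h1 δ).2 hw
      rw [hδd, map_mul, map_mul] at e
      rw [eq_inv_of_mul_eq_one_left e, ← map_inv]
      exact hinv _ hr
    · refine ⟨l * t, mul_mem hl (hTK ht), by rw [f.co_mul l hl t (hTK ht), hcl, hcot, add_zero],
        fun x e => ?_, ?_⟩
      · rw [show x * (l * t) * x⁻¹ = (x * l * x⁻¹) * (x * t * x⁻¹) by group, map_mul, hst x e, htx,
          ← map_mul]
      · have hs : ∀ v, v ≠ 0 → π (sc (l * t) v) = π (sc l v) * π t := fun v hv => by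
          show π (ite _ _ _) = π (ite _ _ _) * π t
          rw [if_neg hv, if_neg hv, ← htx (xv v), ← map_mul]
          congr 1
          group
        rw [hs _ (by decide), hs _ (by decide), hs _ (by decide)]
        have e : π t = π δ := (hmk t δ).2 hw
        rw [hδd, map_mul, map_mul] at e
        set P := π (sc l ![1, 0, 0])
        set Q := π (sc l ![0, 1, 0])
        set R := π (sc l (![1, 0, 0] + ![0, 1, 0]))
        have hPQ : P * Q * R = R * (P * Q) := by
          rw [← map_mul]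
          exact hc _ (mul_mem hp hq) _ hr
        have htQ : π t * Q = Q * π t := hc t (hTK ht) _ hq
        calc P * π t * (Q * π t) = P * (π t * Q) * π t := by group
          _ = P * Q * (π t * π t) := by rw [htQ]; group
          _ = P * Q := by rw [he t (hTK ht), mul_one]
          _ = R * (R * (P * Q)) := by rw [← mul_assoc R R, he _ hr, one_mul]
          _ = R * π t := by rw [e, hPQ]
  have hEq := hequiv l' hst'
  have hadd : ∀ u v, π (sc l' (u + v)) = π (sc l' u) * π (sc l' v) := by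
    intro u v
    by_cases hu : u = 0
    · rw [hu, zero_add, hsc0, map_one, one_mul]
    by_cases hv : v = 0
    · rw [hv, add_zero, hsc0, map_one, mul_one]
    by_cases huv : u = v
    · rw [huv, vec_add_self, hsc0, map_one, he _ (hscK l' hl' v)]
    obtain ⟨x, hxu, hxv'⟩ := f.pair_conj hu hv huv
    rw [← hxu, ← hxv', ← Matrix.mulVec_add, hEq, hEq, hEq, map_mul, map_mul, ← hδ, map_mul, map_mul,
      map_mul, map_mul, map_inv]
    group
  let U : Subgroup X :=
    { carrier := {k | k ∈ K ∧ π k = π (sc l' (f.co k))}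
      one_mem' := ⟨one_mem _, by rw [f.co_one, hsc0]⟩
      mul_mem' := fun {a b} ha hb => ⟨mul_mem ha.1 hb.1, by
        rw [f.co_mul a ha.1 b hb.1, hadd, map_mul, ha.2, hb.2]⟩
      inv_mem' := fun {a} ha => ⟨inv_mem ha.1, by rw [f.co_inv ha.1, hinv a ha.1, ha.2]⟩ }
  have hUn : U.Normal := ⟨fun a ha x => ⟨hKn.conj_mem a ha.1 x, by
    rw [f.co_conj x a ha.1, hEq, map_mul, map_mul, ha.2, ← map_mul, ← map_mul]⟩⟩
  haveI := hUn
  have hWU : W ≤ U := fun w hw => ⟨h.le hw, by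
    rw [(h1 w).2 hw, (f.co_ker w (h.le hw)).2 (hWT hw), hsc0, map_one]⟩
  refine ⟨U, hUn, hWU, fun k hk => hk.1, ⟨⟨f.ρ, f.co, f.det, f.surj, f.ker,
    fun a ha b hb => f.co_mul a ha.1 b hb.1, fun v => ⟨sc l' v, ⟨hscK l' hl' v, by
      rw [hscco l' hl' hcl']⟩, hscco l' hl' hcl' v⟩,
    fun a ha => ⟨fun e => (h1 a).1 (by rw [ha.2, e, hsc0, map_one]),
      fun hw => (f.co_ker a ha.1).2 (hWT hw)⟩, fun x a ha => f.co_conj x a ha.1⟩⟩,
    fun e => htW ((h1 t).1 (by rw [e.2, hcot, hsc0, map_one])), fun k hk => ?_⟩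
  have hK' := hscK l' hl' (f.co k)
  have hT' : (sc l' (f.co k))⁻¹ * k ∈ T :=
    (f.co_eq hK' hk).1 (hscco l' hl' hcl' _)
  rcases hcos _ hT' with hw | hw
  · exact Or.inl ⟨hk, ((hmk _ _).2 hw).symm⟩
  · refine Or.inr ⟨mul_mem (inv_mem (hTK ht)) hk, ?_⟩
    rw [f.co_mul _ (inv_mem (hTK ht)) k hk, f.co_inv (hTK ht), hcot, zero_add]
    have e := (hmk t _).2 hw
    rw [map_mul, map_inv] at e
    calc π (t⁻¹ * k) = π t * π k := by rw [map_mul, hinv t (hTK ht)]
      _ = (π (sc l' (f.co k)))⁻¹ * π k * π k := by rw [e]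
      _ = π (sc l' (f.co k)) := by rw [mul_assoc, he k hk, mul_one, ← map_inv, hinv _ hK']

theorem not_rank [Finite X] (h : Layer K W) (hW : Nat.card W = 8) :
    ¬ Cfsg.SectionalPRankLE 2 4 X := by
  classical
  haveI := h.normal
  intro hr
  have hbad : (∀ k ∈ K, k * k = 1) → False := fun e => h.ne ((eq_bot_iff_forall _).2 fun w hw =>
    mem_bot.1 ((closure_le (K := (⊥ : Subgroup X))).2 (by rintro _ ⟨k, hk, rfl⟩; exact mem_bot.2 (e k hk)) (h.gen hw)))
  rcases h.idx with h8 | h16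
  · obtain ⟨f⟩ := nonempty_frame h.top h.le h8 h.sq (fun k hk a ha => h.inner hk ha) h.moved
    rcases h.sq_frame hW f h.le le_rfl h.exp (fun b hb a ha => (h.cm_central hb ha).2) with
      hall | ⟨hab, hker, -⟩
    · exact hbad hall
    · exact not_sectional_four h.top f hab h.le hW h.sq hker h.exp hr
  rcases layer_types h.top h.le h16 h.sq (fun k hk a ha => h.inner hk ha) h.moved with
    ⟨U, hUn, hWU, hUK, hU2, ⟨f⟩⟩ | ⟨T, hTn, hWT, hTK, hT2, ⟨f⟩⟩
  · haveI := hUn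
    obtain ⟨d, hd, hdU⟩ : ∃ d ∈ K, d ∉ U := by
      by_contra hcon
      push Not at hcon
      rw [subgroupOf_eq_top.2 hcon, index_top] at hU2
      omega
    refine h.not_rank_hyperplane hW hWU hUK f hd hdU (fun k hk => ?_) hr
    by_cases hku : k ∈ U
    · exact Or.inl hku
    · exact Or.inr ((mul_mem_iff_of_index_two hU2 (a := (⟨d, hd⟩ : K)⁻¹) (b := ⟨k, hk⟩)).2
        (iff_of_false (fun hm => hdU (by simpa using inv_mem (mem_subgroupOf.1 hm))) hku))
  haveI := hTn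
  obtain ⟨t, ht, htW⟩ : ∃ t ∈ T, t ∉ W := by
    by_contra hcon
    push Not at hcon
    rw [subgroupOf_eq_top.2 hcon, index_top] at hT2
    omega
  have htK : t ∈ K := hTK ht
  have hcos : ∀ k ∈ T, k ∈ W ∨ t⁻¹ * k ∈ W := by
    intro k hk
    by_cases hkw : k ∈ W
    · exact Or.inl hkw
    · exact Or.inr ((mul_mem_iff_of_index_two hT2 (a := (⟨t, ht⟩ : T)⁻¹) (b := ⟨k, hk⟩)).2
        (iff_of_false (fun hm => htW (by simpa using inv_mem (mem_subgroupOf.1 hm))) hkw))
  have htx : ∀ x, t⁻¹ * (x * t * x⁻¹) ∈ W := fun x => (hcos _ (hTn.conj_mem t ht x)).resolve_left fun hm =>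
    htW (by have := h.normal.conj_mem _ hm x⁻¹; rwa [show x⁻¹ * (x * t * x⁻¹) * x⁻¹⁻¹ = t by group] at this)
  have hsqtw : ∀ w ∈ W, t * w * (t * w) = t * t := fun w hw => by
    rw [h.sq_mul htK (h.le hw), h.exp w hw, (h.cm_central hw htK).2, mul_one, mul_one]
  have htt : t * t = 1 := h.fixed_eq_one (by rw [hW]; norm_num) (h.sq t htK) fun x => by
    have h1 := hsqtw _ (htx x)
    rw [mul_inv_cancel_left] at h1
    calc x * (t * t) * x⁻¹ = x * t * x⁻¹ * (x * t * x⁻¹) := by group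
      _ = t * t := h1
  have hTe : ∀ b ∈ T, b * b = 1 := fun b hb => by
    rcases hcos b hb with hw | hw
    · exact h.exp b hw
    · have h1 := hsqtw _ hw
      rw [mul_inv_cancel_left] at h1
      rw [h1, htt]
  have hcmT : ∀ b ∈ T, cm t b = 1 := fun b hb => by
    rcases hcos b hb with hw | hw
    · exact (h.cm_central hw htK).2
    · rw [← mul_inv_cancel_left t b, h.cm_mul_right htK htK (h.le hw), cm_self,
        (h.cm_central hw htK).2, one_mul]
  obtain ⟨hF1, hF2⟩ := f.map_lift (g := fun k => cm t k)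
    (fun a ha b hb => by rw [h.cm_mul_right htK ha (hTK hb), hcmT b hb, mul_one])
    fun x a ha => by
      rw [conj_cm, ← mul_inv_cancel_left t (x * t * x⁻¹),
        h.cm_mul_left htK (h.le (htx x)) (hKn.conj_mem a ha x), (h.cm_central (htx x) (hKn.conj_mem a ha x)).1,
        mul_one]
  have hF0 : cm t (f.lift 0) = 1 := hcmT _ ((f.co_ker _ (f.lift_mem 0)).1 (f.co_lift 0))
  rcases f.equivariant (fun v => cm t (f.lift v)) (fun v => h.comm_mem htK (f.lift_mem v)) hF0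
    h.wcomm h.exp hF2 with ⟨c, hcfix, hc⟩ | ⟨hinj, hlin⟩
  · -- central point
    have hc1 : c = 1 := h.fixed_eq_one (by rw [hW]; norm_num)
      ((hc ![1, 0, 0] (by decide)) ▸ h.comm_mem htK (f.lift_mem _)) hcfix
    have htc : ∀ a ∈ K, cm t a = 1 := fun a ha => by
      by_cases h0 : f.co a = 0
      · exact hcmT a ((f.co_ker a ha).1 h0)
      · rw [← hF1 a ha, hc _ h0, hc1]
    have hTc : ∀ b ∈ T, ∀ a ∈ K, cm a b = 1 := fun b hb a ha => by
      rcases hcos b hb with hw | hw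
      · exact (h.cm_central hw ha).2
      · rw [← mul_inv_cancel_left t b, h.cm_mul_right ha htK (h.le hw), (h.cm_central hw ha).2, mul_one,
          h.cm_symm htK ha, htc a ha]
    rcases h.sq_frame hW f hTK le_rfl hTe hTc with hall | ⟨hab, hker, -⟩
    · exact hbad hall
    by_cases hex : ∃ w ∈ W, ∀ x, x * (t * w) = (t * w) * x
    · obtain ⟨w, hw, hfix⟩ := hex
      refine h.not_rank_quotient hW f le_rfl hWT hTK hab (mul_mem htK (h.le hw)) hfix
        ((hsqtw w hw).trans htt) (fun e => htW ?_) (fun k hk => Or.inl hk)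
        (fun _ => mul_mem ht (hWT hw)) (fun b hb => ?_) hker hr
      · have := mul_mem e (inv_mem hw)
        rwa [mul_inv_cancel_right] at this
      · rcases hcos b hb with h1 | h1
        · exact Or.inl h1
        · refine Or.inr ?_
          rw [← inv_eq_of_mul_eq_one_right ((hsqtw w hw).trans htt), mul_inv_rev, mul_assoc]
          exact mul_mem (inv_mem hw) h1
    -- no fixed point
    have hinvo : ∀ x, f.ρ x * f.ρ x = 1 → f.ρ x ≠ 1 → ∀ k ∈ K, f.ρ x *ᵥ f.co k = f.co k →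
        k⁻¹ * (x * k * x⁻¹) ∈ W := by
      intro x hx2 hx1 k hk hfix
      have hxk := hKn.conj_mem k hk x
      set r := k⁻¹ * (x * k * x⁻¹) with hr'
      have hrT : r ∈ T := (f.co_eq hk hxk).1 (by rw [f.co_conj x k hk, hfix])
      rcases hcos r hrT with hw | hw
      · exact hw
      exfalso
      have hxx : x * x ∈ K := (f.ker _).1 (by rw [map_mul, hx2])
      have hrfix : x * r = r * x := by
        have h1 : r * (x * r * x⁻¹) = 1 := by
          calc r * (x * r * x⁻¹) = k⁻¹ * ((x * x) * k) * (x * x)⁻¹ := by rw [hr']; group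
            _ = 1 := by rw [hab _ hxx k hk]; group
        have h2 : x * r * x⁻¹ = r := by
          rw [eq_inv_of_mul_eq_one_right h1, inv_eq_of_mul_eq_one_right (hTe r hrT)]
        calc x * r = x * r * x⁻¹ * x := by group
          _ = r * x := by rw [h2]
      have hyW : ∀ y, r⁻¹ * (y * r * y⁻¹) ∈ W := fun y => by
        rw [show r⁻¹ * (y * r * y⁻¹) = (t⁻¹ * r)⁻¹ * (t⁻¹ * (y * t * y⁻¹)) * (y * (t⁻¹ * r) * y⁻¹) by group]
        exact mul_mem (mul_mem (inv_mem hw) (htx y)) (h.normal.conj_mem _ hw y)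
      obtain ⟨w, hw', hfx⟩ := exists_fixed h.top hW (o := r) (fun p hp => hab p hp r (hTK hrT))
        hyW h.normal hrfix (fun e => hx1 ((f.ker x).2 e)) hxx
      refine hex ⟨t⁻¹ * r * w, mul_mem hw hw', fun y => ?_⟩
      rw [show t * (t⁻¹ * r * w) = r * w by group]
      exact hfx y
    set l := f.lift ![1, 0, 0] with hld
    have hl : l ∈ K := f.lift_mem _
    have hst : ∀ x, f.ρ x *ᵥ ![1, 0, 0] = ![1, 0, 0] → l⁻¹ * (x * l * x⁻¹) ∈ W := by
      intro x hx
      let π := QuotientGroup.mk' W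
      have hstep : ∀ y, f.ρ y *ᵥ ![1, 0, 0] = ![1, 0, 0] → f.ρ y * f.ρ y = 1 → π (y * l * y⁻¹) = π l := by
        intro y hy1 hy2
        rw [eq_comm]
        refine QuotientGroup.eq.2 ?_
        by_cases hy0 : f.ρ y = 1
        · exact h.inner ((f.ker y).1 hy0) hl
        · exact hinvo y hy2 hy0 l hl (by rw [f.co_lift]; exact hy1)
      obtain ⟨φ, hφ0, c', hφc, ψ, hψ0, d', hψd, hM⟩ := stab_gen _ (f.det x) hx
      obtain ⟨x1, hx1⟩ := f.exists_tv hφc
      obtain ⟨x2, hx2⟩ := f.exists_tv hψd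
      obtain ⟨k, hkK, rfl⟩ : ∃ k ∈ K, x = x1 * x2 * k := by
        refine ⟨(x1 * x2)⁻¹ * x, (f.ker _).1 ?_, by group⟩
        calc f.ρ ((x1 * x2)⁻¹ * x) = f.ρ (x1 * x2)⁻¹ * f.ρ (x1 * x2) := by
              rw [map_mul, hM, map_mul f.ρ x1 x2, hx1, hx2]
          _ = 1 := by rw [← map_mul, inv_mul_cancel, map_one]
      refine QuotientGroup.eq.1 (?_ : π l = π (x1 * x2 * k * l * (x1 * x2 * k)⁻¹))
      obtain ⟨hp1, hp2⟩ := tv_fix φ hφ0 c' hφc
      obtain ⟨hq1, hq2⟩ := tv_fix ψ hψ0 d' hψd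
      have hs1 := hstep x1 (by rw [hx1]; exact hp1) (by rw [hx1]; exact hp2)
      have hs2 := hstep x2 (by rw [hx2]; exact hq1) (by rw [hx2]; exact hq2)
      rw [show x1 * x2 * k * l * (x1 * x2 * k)⁻¹ = x1 * (x2 * (k * l * k⁻¹) * x2⁻¹) * x1⁻¹ by group,
        hab k hkK l hl, mul_inv_cancel_right, map_mul, map_mul, hs2, ← map_mul, ← map_mul, hs1]
    obtain ⟨U, hUn, hWU, hUK, ⟨fU⟩, htU, hcosU⟩ := h.hyperplane_of_fixed hWT hTK f ht htW hcos hl
      (f.co_lift _) hst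
    haveI := hUn
    exact h.not_rank_hyperplane hW hWU hUK fU htK htU hcosU hr
  · -- the point is moved by `K`
    obtain ⟨hadd, hsurj⟩ := hlin inferInstance hW.le
    set k := f.lift ![1, 0, 0] with hkd
    have hk : k ∈ K := f.lift_mem _
    have hFk : ∀ a ∈ K, f.co a = ![1, 0, 0] → ∀ b ∈ T, a * b * (a * b) = a * a ∨
        (b ∉ W ∧ a * b * (a * b) = a * a * cm t k) := by
      intro a ha hca b hb
      have h1 := h.sq_mul ha (hTK hb)
      rw [hTe b hb, mul_one] at h1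
      rcases hcos b hb with hw | hw
      · left; rw [h1, (h.cm_central hw ha).2, mul_one]
      · by_cases hbW : b ∈ W
        · left; rw [h1, (h.cm_central hbW ha).2, mul_one]
        refine Or.inr ⟨hbW, ?_⟩
        rw [h1]
        congr 1
        rw [← mul_inv_cancel_left t b, h.cm_mul_right ha htK (h.le hw), (h.cm_central hw ha).2, mul_one,
          h.cm_symm htK ha, ← hF1 a ha, hca]
    obtain ⟨w0, hw0⟩ := hsurj _ (h.sq k hk)
    have hw0' : w0 = 0 ∨ w0 = ![1, 0, 0] := by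
      rcases point_pairs w0 with e | e | ⟨φ, c, hφ, he0, hm1, hm2⟩
      · exact Or.inl e
      · exact Or.inr e
      exfalso
      obtain ⟨x, hx⟩ := f.exists_tv hφ
      have hxk := hKn.conj_mem k hk x
      have hb : k⁻¹ * (x * k * x⁻¹) ∈ T := (f.co_eq hk hxk).1 (by
        rw [f.co_conj x k hk, hkd, f.co_lift, hx, he0])
      have h1 : cm t (f.lift (tv φ c *ᵥ w0)) = x * k * x⁻¹ * (x * k * x⁻¹) := by
        rw [← hx, hF2, hw0]; group
      rcases hFk k hk (f.co_lift _) _ hb with h2 | ⟨-, h2⟩ <;> rw [mul_inv_cancel_left, ← h1, ← hw0] at h2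
      · exact hm1 (hinj h2)
      · refine hm2 (hinj ?_)
        show cm t (f.lift (tv φ c *ᵥ w0)) = cm t (f.lift (w0 + ![1, 0, 0]))
        rw [h2, hadd, hkd]
    obtain ⟨l, hl, hcl, hl2⟩ : ∃ l ∈ K, f.co l = ![1, 0, 0] ∧ l * l = 1 := by
      rcases hw0' with e | e
      · exact ⟨k, hk, f.co_lift _, by rw [← hw0, e]; exact hF0⟩
      · refine ⟨k * t, mul_mem hk htK, by
          rw [f.co_mul k hk t htK, (f.co_ker t htK).2 ht, add_zero, hkd, f.co_lift], ?_⟩
        rcases hFk k hk (f.co_lift _) t ht with h2 | ⟨-, h2⟩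
        · exfalso
          have h3 := h.sq_mul hk htK
          rw [htt, mul_one, h2, h.cm_symm htK hk] at h3
          have h4 : cm t k = 1 := mul_left_cancel (h3.symm.trans (mul_one _).symm)
          refine absurd (hinj (?_ : cm t (f.lift ![1, 0, 0]) = cm t (f.lift 0))) (by decide)
          rw [← hkd, h4, hF0]
        · rw [h2, ← hw0, e, ← hkd, h.exp _ (h.comm_mem htK hk)]
    have hst : ∀ x, f.ρ x *ᵥ ![1, 0, 0] = ![1, 0, 0] → l⁻¹ * (x * l * x⁻¹) ∈ W := by
      intro x hx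
      have hxl := hKn.conj_mem l hl x
      have hb : l⁻¹ * (x * l * x⁻¹) ∈ T := (f.co_eq hl hxl).1 (by rw [f.co_conj x l hl, hcl, hx])
      by_contra hbW
      rcases hcos _ hb with hw | hw
      · exact hbW hw
      have h1 := h.sq_mul hl (hTK hb)
      rw [mul_inv_cancel_left, hl2, hTe _ hb, mul_one, one_mul] at h1
      have h2 : cm l (l⁻¹ * (x * l * x⁻¹)) = cm t k := by
        conv_lhs => rw [← mul_inv_cancel_left t (l⁻¹ * (x * l * x⁻¹))]
        rw [h.cm_mul_right hl htK (h.le hw), (h.cm_central hw hl).2, mul_one, h.cm_symm htK hl, ← hF1 l hl,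
          hcl]
      rw [h2, show x * l * x⁻¹ * (x * l * x⁻¹) = x * (l * l) * x⁻¹ by group, hl2, mul_one,
        mul_inv_cancel] at h1
      refine absurd (hinj (?_ : cm t (f.lift ![1, 0, 0]) = cm t (f.lift 0))) (by decide)
      rw [← hkd, ← h1, hF0]
    obtain ⟨U, hUn, hWU, hUK, ⟨fU⟩, htU, hcosU⟩ := h.hyperplane_of_fixed hWT hTK f ht htW hcos hl hcl hst
    haveI := hUn
    exact h.not_rank_hyperplane hW hWU hUK fU htK htU hcosU hr

end Layer

end CfsgLib.RankFourQuotient.LThree
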