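import Cfsg.Agent.Lib.TwoGroups.RankFourQuotient.LinearThreeTwoLayers

/-!
Owner: helper12. A layer above a central chief factor of order two.
-/

set_option autoImplicit false
set_option maxHeartbeats 800000
set_option linter.style.haveILetI false

namespace CfsgLib.RankFourQuotient.LThree

open Subgroup
open scoped Matrix

/-- The matrix with the given columns. -/
def colMat (u v w : V3) : M3 := Matrix.of fun i j => ![u, v, w] j i

theorem colMat_facts : (∀ u v : V3, u ≠ 0 → v ≠ 0 → u ≠ v → ∃ w, (colMat u v w).det = 1) ∧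
    (∀ u v w : V3, colMat u v w *ᵥ ![1, 0, 0] = u ∧ colMat u v w *ᵥ ![0, 1, 0] = v) := by
  refine ⟨fun u v hu hv huv => ?_, fun u v w => ?_⟩
  · have key : ∀ u : V3, u = 0 ∨ ∀ v : V3, v = 0 ∨ u = v ∨ ∃ w : V3, (colMat u v w).det = 1 := by
      decide +kernel
    exact (((key u).resolve_left hu v).resolve_left hv).resolve_left huv
  · constructor <;> ext i <;> fin_cases i <;> simp [colMat, Matrix.mulVec, dotProduct, Fin.sum_univ_three]

variable {X : Type*} [Group X]

/-- Pairs of independent classes are conjugate. -/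
theorem Frame.pair_conj {K A B : Subgroup X} (f : Frame K A B) {u v : V3} (hu : u ≠ 0) (hv : v ≠ 0)
    (huv : u ≠ v) : ∃ x, f.ρ x *ᵥ ![1, 0, 0] = u ∧ f.ρ x *ᵥ ![0, 1, 0] = v := by
  obtain ⟨w, hw⟩ := colMat_facts.1 u v hu hv huv
  obtain ⟨x, hx⟩ := f.surj _ hw
  exact ⟨x, by rw [hx]; exact (colMat_facts.2 u v w).1, by rw [hx]; exact (colMat_facts.2 u v w).2⟩

namespace Layer

variable {K W : Subgroup X} [hKn : K.Normal]

theorem fix_two (h : Layer K W) (hW : Nat.card W = 2) (x : X) {w : X} (hw : w ∈ W) :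
    x * w * x⁻¹ = w := by
  obtain ⟨v, -, huniq⟩ := (Nat.card_eq_two_iff' (1 : W)).1 hW
  by_cases h1 : w = 1
  · rw [h1, mul_one, mul_inv_cancel]
  have h2 := huniq ⟨w, hw⟩ fun e => h1 (congrArg Subtype.val e)
  have h3 := huniq ⟨x * w * x⁻¹, h.normal.conj_mem w hw x⟩ fun e => h1 (conj_eq_one_iff.1 (congrArg Subtype.val e))
  exact congrArg Subtype.val (h3.trans h2.symm)

theorem not_injective_two [Finite X] (h : Layer K W) (hW : Nat.card W = 2) (F : V3 → X)
    (hF : ∀ v, F v ∈ W) : ¬ Function.Injective F := by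
  intro hinj
  have := Nat.card_le_card_of_injective (fun v => (⟨F v, hF v⟩ : W))
    (fun a b e => hinj (congrArg Subtype.val e))
  rw [hW, Nat.card_eq_fintype_card] at this
  simp at this

/-- A linear invariant function is trivial. -/
theorem hom_trivial [Finite X] (h : Layer K W) (hW : Nat.card W = 2) {A B : Subgroup X} [A.Normal]
    (f : Frame K A B) (hBA : B ≤ A) {g : X → X} (hgW : ∀ a ∈ A, g a ∈ W)
    (hmul : ∀ a ∈ A, ∀ b ∈ A, g (a * b) = g a * g b) (hB : ∀ b ∈ B, g b = 1)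
    (hinv : ∀ x, ∀ a ∈ A, g (x * a * x⁻¹) = g a) : ∀ a ∈ A, g a = 1 := by
  haveI := h.normal
  have hg : ∀ a ∈ A, ∀ b ∈ B, g (a * b) = g a := fun a ha b hb => by
    rw [hmul a ha b (hBA hb), hB b hb, mul_one]
  obtain ⟨h1, h2⟩ := f.map_lift hg fun x a ha => by rw [hinv x a ha, h.fix_two hW x (hgW a ha)]
  have hF0 : g (f.lift 0) = 1 := hB _ ((f.co_ker _ (f.lift_mem 0)).1 (f.co_lift 0))
  rcases f.equivariant (fun v => g (f.lift v)) (fun v => hgW _ (f.lift_mem v)) hF0 h.wcomm h.exp h2 with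
    ⟨c, -, hc⟩ | ⟨hinj, -⟩
  · intro a ha
    rw [← h1 a ha]
    by_cases hv : f.co a = 0
    · rw [hv]; exact hF0
    have hcc : c = c * c := by
      have hm := hmul _ (f.lift_mem ![1, 0, 0]) _ (f.lift_mem ![0, 1, 0])
      rw [← h1 _ (mul_mem (f.lift_mem _) (f.lift_mem _)), f.co_mul _ (f.lift_mem _) _ (f.lift_mem _),
        f.co_lift, f.co_lift, hc _ (by decide), hc _ (by decide), hc _ (by decide)] at hm
      exact hm
    rw [hc _ hv]
    exact mul_left_cancel (hcc.symm.trans (mul_one c).symm)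
  · exact absurd hinj (h.not_injective_two hW _ fun v => hgW _ (f.lift_mem v))

/-- Squares vanish on a frame over an elementary centre. -/
theorem sq_trivial [Finite X] (h : Layer K W) (hW : Nat.card W = 2) {A B : Subgroup X} [A.Normal]
    (f : Frame K A B) (hBA : B ≤ A) (hAK : A ≤ K) (hB : ∀ b ∈ B, b * b = 1)
    (hBc : ∀ b ∈ B, ∀ a ∈ A, cm a b = 1) :
    (∀ a ∈ A, a * a = 1) ∧ ∀ a ∈ A, ∀ b ∈ A, a * b = b * a := by
  haveI := h.normal
  have hg : ∀ a ∈ A, ∀ b ∈ B, a * b * (a * b) = a * a := fun a ha b hb => by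
    rw [h.sq_mul (hAK ha) (hAK (hBA hb)), hB b hb, hBc b hb a ha, mul_one, mul_one]
  obtain ⟨h1, h2⟩ := f.map_lift (g := fun a => a * a) hg fun x a ha => by group
  have hF0 : f.lift 0 * f.lift 0 = 1 := hB _ ((f.co_ker _ (f.lift_mem 0)).1 (f.co_lift 0))
  rcases f.equivariant (fun v => f.lift v * f.lift v) (fun v => h.sq _ (hAK (f.lift_mem v))) hF0
    h.wcomm h.exp h2 with ⟨c, -, hc⟩ | ⟨hinj, -⟩
  · set p := f.lift ![1, 0, 0]
    set q := f.lift ![0, 1, 0]
    set r := f.lift ![0, 0, 1]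
    have hp : p ∈ A := f.lift_mem _
    have hq : q ∈ A := f.lift_mem _
    have hr : r ∈ A := f.lift_mem _
    have hval : ∀ a ∈ A, f.co a ≠ 0 → a * a = c := fun a ha hne => (h1 a ha).symm.trans (hc _ hne)
    have hcW : c ∈ W := hval p hp (by rw [f.co_lift]; decide) ▸ h.sq p (hAK hp)
    have hcm : ∀ a ∈ A, ∀ b ∈ A, f.co a ≠ 0 → f.co b ≠ 0 → f.co a + f.co b ≠ 0 → cm a b = c := by
      intro a ha b hb ha0 hb0 hab
      have e := h.sq_mul (hAK ha) (hAK hb)
      rw [hval a ha ha0, hval b hb hb0, hval _ (mul_mem ha hb) (by rwa [f.co_mul a ha b hb]),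
        h.exp c hcW, one_mul] at e
      exact e.symm
    have hc1 : c = 1 := by
      have e := h.cm_mul_right (hAK hp) (hAK hq) (hAK hr)
      rw [hcm p hp q hq (by rw [f.co_lift]; decide) (by rw [f.co_lift]; decide)
          (by rw [f.co_lift, f.co_lift]; decide),
        hcm p hp r hr (by rw [f.co_lift]; decide) (by rw [f.co_lift]; decide)
          (by rw [f.co_lift, f.co_lift]; decide),
        hcm p hp (q * r) (mul_mem hq hr) (by rw [f.co_lift]; decide)
          (by rw [f.co_mul q hq r hr, f.co_lift, f.co_lift]; decide)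
          (by rw [f.co_mul q hq r hr, f.co_lift, f.co_lift, f.co_lift]; decide), h.exp c hcW] at e
      exact e
    have hsq : ∀ a ∈ A, a * a = 1 := fun a ha => by
      by_cases ha0 : f.co a = 0
      · exact hB a ((f.co_ker a ha).1 ha0)
      · rw [hval a ha ha0, hc1]
    refine ⟨hsq, fun a ha b hb => cm_eq_one_iff.1 ?_⟩
    have e := h.sq_mul (hAK ha) (hAK hb)
    rw [hsq a ha, hsq b hb, hsq _ (mul_mem ha hb), one_mul, one_mul] at e
    exact e.symm
  · exact absurd hinj (h.not_injective_two hW _ fun v => h.sq _ (hAK (f.lift_mem v)))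

theorem two [Finite X] (h : Layer K W) (hW : Nat.card W = 2) :
    (∀ a ∈ K, ∀ b ∈ K, a * b = b * a) ∧ ∃ U : Subgroup X, U.Normal ∧ W ≤ U ∧ U ≤ K ∧
      Nonempty (Frame K U W) ∧ (∀ u ∈ U, u * u = 1) ∧
      ∃ d ∈ K, d ∉ U ∧ d * d ≠ 1 ∧ ∀ k ∈ K, k ∈ U ∨ d⁻¹ * k ∈ U := by
  haveI := h.normal
  have hbad : (∀ k ∈ K, k * k = 1) → False := fun e => h.ne ((eq_bot_iff_forall _).2 fun w hw =>
    mem_bot.1 ((closure_le (K := (⊥ : Subgroup X))).2 (by rintro _ ⟨k, hk, rfl⟩; exact mem_bot.2 (e k hk)) (h.gen hw)))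
  rcases h.idx with h8 | h16
  · obtain ⟨f⟩ := nonempty_frame h.top h.le h8 h.sq (fun k hk a ha => h.inner hk ha) h.moved
    exact (hbad (h.sq_trivial hW f h.le le_rfl h.exp fun b hb a ha => (h.cm_central hb ha).2).1).elim
  rcases layer_types h.top h.le h16 h.sq (fun k hk a ha => h.inner hk ha) h.moved with
    ⟨U, hUn, hWU, hUK, hU2, ⟨f⟩⟩ | ⟨T, hTn, hWT, hTK, hT2, ⟨f⟩⟩
  · haveI := hUn
    obtain ⟨hUsq, hUab⟩ := h.sq_trivial hW f hWU hUK h.exp fun b hb a ha => (h.cm_central hb (hUK ha)).2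
    obtain ⟨d, hd, hdU⟩ : ∃ d ∈ K, d ∉ U := by
      by_contra hcon
      push Not at hcon
      rw [subgroupOf_eq_top.2 hcon, index_top] at hU2
      omega
    have hcos : ∀ k ∈ K, k ∈ U ∨ d⁻¹ * k ∈ U := by
      intro k hk
      by_cases hku : k ∈ U
      · exact Or.inl hku
      · exact Or.inr ((mul_mem_iff_of_index_two hU2 (a := (⟨d, hd⟩ : K)⁻¹) (b := ⟨k, hk⟩)).2
          (iff_of_false (fun hm => hdU (by simpa using inv_mem (mem_subgroupOf.1 hm))) hku))
    have hud : ∀ u ∈ U, cm u d = 1 := by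
      refine h.hom_trivial hW f hWU (g := fun u => cm u d) (fun u hu => h.comm_mem (hUK hu) hd)
        (fun a ha b hb => h.cm_mul_left (hUK ha) (hUK hb) hd) (fun b hb => (h.cm_central hb hd).1) ?_
      intro x a ha
      have hdx : d⁻¹ * (x * d * x⁻¹) ∈ U := (hcos _ (hKn.conj_mem d hd x)).resolve_left fun hm =>
        hdU (by have := hUn.conj_mem _ hm x⁻¹; rwa [show x⁻¹ * (x * d * x⁻¹) * x⁻¹⁻¹ = d by group] at this)
      have hax : x * a * x⁻¹ ∈ U := hUn.conj_mem a ha x
      show cm (x * a * x⁻¹) d = cm a d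
      rw [← h.fix_two hW x (h.comm_mem (hUK ha) hd), conj_cm, ← mul_inv_cancel_left d (x * d * x⁻¹),
        h.cm_mul_right (hUK hax) hd (hUK hdx), cm_eq_one_iff.2 (hUab _ hax _ hdx), mul_one]
    have hmemcl : ∀ k ∈ K, k ∈ closure ({d} ∪ (U : Set X)) := fun k hk => by
      rcases hcos k hk with hu | hu
      · exact subset_closure (Or.inr hu)
      · rw [← mul_inv_cancel_left d k]
        exact mul_mem (subset_closure (Or.inl rfl)) (subset_closure (Or.inr hu))
    have hab : ∀ a ∈ K, ∀ b ∈ K, a * b = b * a := by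
      intro a ha b hb
      refine cm_eq_one_iff.1 (mem_bot.1 (h.cm_gen ?_ ?_ ?_ (hmemcl a ha) (hmemcl b hb)))
      · exact Set.union_subset (by rintro z rfl; exact hd) hUK
      · exact Set.union_subset (by rintro z rfl; exact hd) hUK
      · rintro s (hs | hs) t (ht | ht) <;> rw [mem_bot]
        · rw [Set.mem_singleton_iff.1 hs, Set.mem_singleton_iff.1 ht, cm_self]
        · rw [Set.mem_singleton_iff.1 hs, h.cm_symm (hUK ht) hd, hud t ht]
        · rw [Set.mem_singleton_iff.1 ht, hud s hs]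
        · exact cm_eq_one_iff.2 (hUab s hs t ht)
    refine ⟨hab, U, hUn, hWU, hUK, ⟨f⟩, hUsq, d, hd, hdU, fun hd1 => hbad fun k hk => ?_, hcos⟩
    rcases hcos k hk with hu | hu
    · exact hUsq k hu
    · have e := h.sq_mul hd (hUK hu)
      rw [mul_inv_cancel_left, hd1, hUsq _ hu, one_mul, one_mul, cm_eq_one_iff.2 (hab d hd _ (hUK hu))] at e
      exact e
  · haveI := hTn
    obtain ⟨t, ht, htW⟩ : ∃ t ∈ T, t ∉ W := by
      by_contra hcon
      push Not at hcon
      rw [subgroupOf_eq_top.2 hcon, index_top] at hT2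
      omega
    have htK : t ∈ K := hTK ht
    have hcos : ∀ k ∈ T, k ∈ W ∨ t⁻¹ * k ∈ W := by
      intro k hk
      by_cases hkw : k ∈ W
      · exact Or.inl hkw
      · exact Or.inr ((mul_mem_iff_of_index_two hT2 (a := (⟨t, ht⟩ : T)⁻¹) (b := ⟨k, hk⟩)).2
          (iff_of_false (fun hm => htW (by simpa using inv_mem (mem_subgroupOf.1 hm))) hkw))
    have hTgen : ∀ b ∈ T, ∀ a ∈ K, cm t a = 1 → cm a b = 1 := by
      intro b hb a ha e
      rcases hcos b hb with hw | hw
      · exact (h.cm_central hw ha).2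
      · rw [← mul_inv_cancel_left t b, h.cm_mul_right ha htK (h.le hw), (h.cm_central hw ha).2, mul_one,
          h.cm_symm htK ha, e]
    have ht0 : ∀ a ∈ K, cm t a = 1 := by
      refine h.hom_trivial hW f hTK (g := fun a => cm t a) (fun a ha => h.comm_mem htK ha)
        (fun a ha b hb => h.cm_mul_right htK ha hb) (fun b hb => ?_) ?_
      · show cm t b = 1
        rcases hcos b hb with hw | hw
        · exact (h.cm_central hw htK).2
        · rw [← mul_inv_cancel_left t b, h.cm_mul_right htK htK (h.le hw), cm_self,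
            (h.cm_central hw htK).2, one_mul]
      · intro x a ha
        have htx : t⁻¹ * (x * t * x⁻¹) ∈ W := (hcos _ (hTn.conj_mem t ht x)).resolve_left fun hm =>
          htW (by have := h.normal.conj_mem _ hm x⁻¹; rwa [show x⁻¹ * (x * t * x⁻¹) * x⁻¹⁻¹ = t by group] at this)
        have hax : x * a * x⁻¹ ∈ K := hKn.conj_mem a ha x
        show cm t (x * a * x⁻¹) = cm t a
        rw [← h.fix_two hW x (h.comm_mem htK ha), conj_cm, ← mul_inv_cancel_left t (x * t * x⁻¹),
          h.cm_mul_left htK (h.le htx) hax, (h.cm_central htx hax).1, mul_one]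
    have hTc : ∀ b ∈ T, ∀ a ∈ K, cm a b = 1 := fun b hb a ha => hTgen b hb a ha (ht0 a ha)
    have ht1 : t * t ≠ 1 := fun e => hbad (h.sq_trivial hW f hTK le_rfl (fun b hb => by
      rcases hcos b hb with hw | hw
      · exact h.exp b hw
      · have e2 := h.sq_mul htK (h.le hw)
        rw [mul_inv_cancel_left, e, h.exp _ hw, (h.cm_central hw htK).2, one_mul, one_mul] at e2
        exact e2) hTc).1
    -- commutative
    have hcl : ∀ a ∈ K, ∀ b ∈ K, ∀ a' ∈ K, ∀ b' ∈ K, f.co a = f.co a' → f.co b = f.co b' →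
        cm a b = cm a' b' := by
      intro a ha b hb a' ha' b' hb' e1 e2
      have h1 := (f.co_eq ha ha').1 e1
      have h2 := (f.co_eq hb hb').1 e2
      calc cm a b = cm a b * cm (a⁻¹ * a') b * (cm a (b⁻¹ * b') * cm (a⁻¹ * a') (b⁻¹ * b')) := by
            rw [hTc _ h2 a ha, hTc _ h2 _ (hTK h1), h.cm_symm hb (hTK h1), hTc _ h1 b hb]
            simp
        _ = _ := by
            rw [← h.cm_mul_left ha (hTK h1) hb, ← h.cm_mul_left ha (hTK h1) (hTK h2), mul_inv_cancel_left,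
              ← h.cm_mul_right ha' hb (hTK h2), mul_inv_cancel_left]
    set c := cm (f.lift ![1, 0, 0]) (f.lift ![0, 1, 0]) with hcd
    have hcW : c ∈ W := h.comm_mem (f.lift_mem _) (f.lift_mem _)
    have hconst : ∀ a ∈ K, ∀ b ∈ K, f.co a ≠ 0 → f.co b ≠ 0 → f.co a ≠ f.co b → cm a b = c := by
      intro a ha b hb e1 e2 e3
      obtain ⟨x, hx1, hx2⟩ := f.pair_conj e1 e2 e3
      rw [hcd, ← h.fix_two hW x (h.comm_mem (f.lift_mem _) (f.lift_mem _)), conj_cm]
      refine hcl a ha b hb _ (hKn.conj_mem _ (f.lift_mem _) x) _ (hKn.conj_mem _ (f.lift_mem _) x) ?_ ?_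
      · rw [f.co_conj x _ (f.lift_mem _), f.co_lift, hx1]
      · rw [f.co_conj x _ (f.lift_mem _), f.co_lift, hx2]
    have hc1 : c = 1 := by
      have hp := f.lift_mem ![1, 0, 0]
      have hq := f.lift_mem ![0, 1, 0]
      have hr := f.lift_mem ![0, 0, 1]
      have e := h.cm_mul_right hp hq hr
      rw [hconst _ hp _ hq (by rw [f.co_lift]; decide) (by rw [f.co_lift]; decide)
          (by rw [f.co_lift, f.co_lift]; decide),
        hconst _ hp _ hr (by rw [f.co_lift]; decide) (by rw [f.co_lift]; decide)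
          (by rw [f.co_lift, f.co_lift]; decide),
        hconst _ hp _ (mul_mem hq hr) (by rw [f.co_lift]; decide)
          (by rw [f.co_mul _ hq _ hr, f.co_lift, f.co_lift]; decide)
          (by rw [f.co_mul _ hq _ hr, f.co_lift, f.co_lift, f.co_lift]; decide), h.exp c hcW] at e
      exact e
    have hab : ∀ a ∈ K, ∀ b ∈ K, a * b = b * a := by
      intro a ha b hb
      rw [← cm_eq_one_iff]
      by_cases e1 : f.co a = 0
      · rw [h.cm_symm hb ha]
        exact hTc a ((f.co_ker a ha).1 e1) b hb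
      by_cases e2 : f.co b = 0
      · exact hTc b ((f.co_ker b hb).1 e2) a ha
      by_cases e3 : f.co a = f.co b
      · rw [hcl a ha b hb a ha a ha rfl e3.symm, cm_self]
      rw [hconst a ha b hb e1 e2 e3, hc1]
    -- the kernel of squaring
    let U : Subgroup X :=
      { carrier := {k | k ∈ K ∧ k * k = 1}
        one_mem' := ⟨one_mem _, one_mul 1⟩
        mul_mem' := fun {a b} ha hb => ⟨mul_mem ha.1 hb.1, by
          rw [h.sq_mul ha.1 hb.1, ha.2, hb.2, cm_eq_one_iff.2 (hab a ha.1 b hb.1), one_mul, one_mul]⟩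
        inv_mem' := fun {a} ha => ⟨inv_mem ha.1, by rw [← mul_inv_rev, ha.2, inv_one]⟩ }
    have hUn : U.Normal := ⟨fun a ha x => ⟨hKn.conj_mem a ha.1 x, by
      rw [show x * a * x⁻¹ * (x * a * x⁻¹) = x * (a * a) * x⁻¹ by group, ha.2, mul_one, mul_inv_cancel]⟩⟩
    haveI := hUn
    have hWU : W ≤ U := fun w hw => ⟨h.le hw, h.exp w hw⟩
    have hcosU : ∀ k ∈ K, k ∈ U ∨ t⁻¹ * k ∈ U := by
      intro k hk
      by_cases e : k * k = 1
      · exact Or.inl ⟨hk, e⟩
      · refine Or.inr ⟨mul_mem (inv_mem htK) hk, ?_⟩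
        obtain ⟨v, -, huniq⟩ := (Nat.card_eq_two_iff' (1 : W)).1 hW
        have h1 := huniq ⟨k * k, h.sq k hk⟩ fun e' => e (congrArg Subtype.val e')
        have h2 := huniq ⟨t * t, h.sq t htK⟩ fun e' => ht1 (congrArg Subtype.val e')
        have h3 : k * k = t * t := congrArg Subtype.val (h1.trans h2.symm)
        rw [h.sq_mul (inv_mem htK) hk, cm_eq_one_iff.2 (hab _ (inv_mem htK) _ hk), mul_one,
          ← mul_inv_rev, h3, inv_mul_cancel]
    refine ⟨hab, U, hUn, hWU, fun k hk => hk.1, ?_, fun u hu => hu.2, t, htK, fun e => ht1 e.2, ht1, hcosU⟩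
    refine ⟨⟨f.ρ, f.co, f.det, f.surj, f.ker, fun a ha b hb => f.co_mul a ha.1 b hb.1, fun v => ?_,
      fun a ha => ⟨fun e => ?_, fun hw => (f.co_ker a ha.1).2 (hWT hw)⟩, fun x a ha => f.co_conj x a ha.1⟩⟩
    · rcases hcosU _ (f.lift_mem v) with hu | hu
      · exact ⟨_, hu, f.co_lift v⟩
      · refine ⟨_, hu, ?_⟩
        rw [f.co_mul _ (inv_mem htK) _ (f.lift_mem v), (f.co_ker _ (inv_mem htK)).2 (inv_mem ht), zero_add,
          f.co_lift]
    · rcases hcos a ((f.co_ker a ha.1).1 e) with hw | hw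
      · exact hw
      · refine absurd ?_ ht1
        have e2 := h.sq_mul htK (h.le hw)
        rw [mul_inv_cancel_left, ha.2, h.exp _ hw, (h.cm_central hw htK).2, mul_one, mul_one] at e2
        exact e2.symm

end Layer

end CfsgLib.RankFourQuotient.LThree
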