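import Cfsg.Agent.Lib.TwoGroups.RankFourQuotient.LinearThreeTwoFrame

/-!
Owner: helper12. A layer of order sixteen for `L₃(2)` has an invariant hyperplane or point.
-/

set_option autoImplicit false
set_option maxHeartbeats 800000
set_option linter.style.haveILetI false

namespace CfsgLib.RankFourQuotient.LThree

open Subgroup

variable {X : Type*} [Group X] [Finite X]

/-- A layer of order sixteen has an invariant hyperplane or an invariant point. -/
theorem layer_types {K A B : Subgroup X} [K.Normal] [A.Normal] [B.Normal] (hT : Top K) (hBA : B ≤ A)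
    (hcard : (B.subgroupOf A).index = 16) (hsq : ∀ a ∈ A, a * a ∈ B)
    (htriv : ∀ k ∈ K, ∀ a ∈ A, a⁻¹ * (k * a * k⁻¹) ∈ B)
    (hmove : ∃ x, ∃ a ∈ A, a⁻¹ * (x * a * x⁻¹) ∉ B) :
    (∃ U : Subgroup X, U.Normal ∧ B ≤ U ∧ U ≤ A ∧ (U.subgroupOf A).index = 2 ∧
        Nonempty (Frame K U B)) ∨
      (∃ T : Subgroup X, T.Normal ∧ B ≤ T ∧ T ≤ A ∧ (B.subgroupOf T).index = 2 ∧
        Nonempty (Frame K A T)) := by
  classical
  haveI : Fact (Nat.Prime 7) := ⟨by norm_num⟩
  haveI hn : (B.subgroupOf A).Normal := inferInstance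
  let Q := A ⧸ B.subgroupOf A
  haveI : Finite Q := inferInstance
  have hQ : Nat.card Q = 16 := hcard
  have hsq' : ∀ q : Q, q * q = 1 := by
    intro q
    obtain ⟨a, rfl⟩ := QuotientGroup.mk_surjective q
    rw [← QuotientGroup.mk_mul, QuotientGroup.eq_one_iff]
    exact hsq a a.2
  have hqc : ∀ p q : Q, p * q = q * p := by
    have h1 : ∀ r : Q, r⁻¹ = r := fun r => inv_eq_of_mul_eq_one_right (hsq' r)
    intro p q
    calc p * q = (p * q)⁻¹ := (h1 _).symm
      _ = q * p := by rw [mul_inv_rev, h1, h1]
  letI : CommGroup Q := { (inferInstance : Group Q) with mul_comm := hqc }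
  have hAn : A.Normal := inferInstance
  have key : ∀ y : X, (B.subgroupOf A).map ((MulAut.conjNormal y : MulAut A) : A →* A) =
      B.subgroupOf A := by
    intro y
    refine le_antisymm ?_ fun v hv => ⟨MulAut.conjNormal y⁻¹ v, ?_, ?_⟩
    · rintro _ ⟨v, hv, rfl⟩
      rw [mem_subgroupOf]
      show ((MulAut.conjNormal y v : A) : X) ∈ _
      rw [MulAut.conjNormal_apply]
      exact (inferInstance : B.Normal).conj_mem _ hv y
    · rw [SetLike.mem_coe, mem_subgroupOf, MulAut.conjNormal_apply]
      exact (inferInstance : B.Normal).conj_mem _ hv y⁻¹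
    · show MulAut.conjNormal y (MulAut.conjNormal y⁻¹ v) = v
      rw [← MulAut.mul_apply, ← map_mul, mul_inv_cancel, map_one, MulAut.one_apply]
  let act : X →* MulAut Q :=
    { toFun := fun y => QuotientGroup.congr _ _ (MulAut.conjNormal y) (key y)
      map_one' := MulEquiv.ext fun q => by
        induction q using QuotientGroup.induction_on with
        | _ v => show QuotientGroup.mk (MulAut.conjNormal (1 : X) v) = _; rw [map_one]; rfl
      map_mul' := fun a b => MulEquiv.ext fun q => by
        induction q using QuotientGroup.induction_on with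
        | _ v => show QuotientGroup.mk (MulAut.conjNormal (a * b) v) = _; rw [map_mul]; rfl }
  have hact : ∀ (x : X) (a : A),
      act x (a : Q) = ((⟨x * a * x⁻¹, hAn.conj_mem _ a.2 x⟩ : A) : Q) := fun x a =>
    congrArg QuotientGroup.mk (Subtype.ext (MulAut.conjNormal_apply x a))
  have heq : ∀ (a b : A), ((a : Q) = b ↔ (a : X)⁻¹ * b ∈ B) := fun a b => by
    rw [QuotientGroup.eq, mem_subgroupOf]; rfl
  have hKker : K ≤ act.ker := fun k hk => MonoidHom.mem_ker.2 (MulEquiv.ext fun q => by
    obtain ⟨a, rfl⟩ := QuotientGroup.mk_surjective q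
    rw [hact, MulAut.one_apply, eq_comm, heq]
    exact htriv k hk a a.2)
  have hker : act.ker = K := (hT.normal_cases act.ker hKker).resolve_right fun h => by
    obtain ⟨x, a, ha, hx⟩ := hmove
    have h1 : act x = 1 := MonoidHom.mem_ker.1 (h ▸ mem_top x)
    refine hx ((heq ⟨a, ha⟩ ⟨x * a * x⁻¹, hAn.conj_mem _ ha x⟩).1 ?_)
    rw [← hact x ⟨a, ha⟩, h1, MulAut.one_apply]
  obtain ⟨s0, hs0⟩ := exists_prime_orderOf_dvd_card' (G := X ⧸ K) 7 (by rw [hT.card]; norm_num)
  obtain ⟨s, rfl⟩ := QuotientGroup.mk_surjective s0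
  set α := act s with hα
  have hα7 : α ^ 7 = 1 := by
    rw [hα, ← map_pow]
    refine MonoidHom.mem_ker.1 (hKker ((QuotientGroup.eq_one_iff _).1 ?_))
    rw [QuotientGroup.mk_pow, ← hs0, pow_orderOf_eq_one]
  have hα1 : α ≠ 1 := by
    intro h
    have h1 : s ∈ K := hker ▸ MonoidHom.mem_ker.2 h
    rw [(QuotientGroup.eq_one_iff s).2 h1, orderOf_one] at hs0
    norm_num at hs0
  -- fixed points of `α`
  let Fx : Subgroup Q := MonoidHom.eqLocus α.toMonoidHom (MonoidHom.id Q)
  have hFx : ∀ q, q ∈ Fx ↔ α q = q := fun q => Iff.rfl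
  have hmod : Nat.card Q ≡ Nat.card Fx [MOD 7] := by
    have hp : IsPGroup 7 (zpowers α) := by
      refine IsPGroup.of_card (n := 1) ?_
      rw [pow_one, Nat.card_zpowers, orderOf_eq_prime hα7 hα1]
    have h := hp.card_modEq_card_fixedPoints Q
    have he : MulAction.fixedPoints (zpowers α) Q = (Fx : Set Q) := by
      ext q
      refine ⟨fun h => h ⟨α, mem_zpowers α⟩, fun h g => ?_⟩
      obtain ⟨i, hi⟩ := mem_zpowers_iff.1 g.2
      show (g : MulAut Q) q = q
      rw [← hi]
      have hmem : α ∈ MulAction.stabilizer (MulAut Q) q := (hFx q).1 h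
      exact (zpow_mem hmem i :)
    rw [he] at h
    exact h
  have hF2 : Nat.card Fx = 2 := by
    have h16 : Nat.card Fx ∣ 16 := hQ ▸ card_subgroup_dvd_card Fx
    have hne : Nat.card Fx ≠ 16 := fun h => hα1 (MulEquiv.ext fun q => by
      rw [MulAut.one_apply, ← hFx, (card_eq_iff_eq_top Fx).1 (h.trans hQ.symm)]
      exact mem_top q)
    have hle := Nat.le_of_dvd (by norm_num) h16
    rw [hQ, Nat.ModEq] at hmod
    generalize Nat.card Fx = n at h16 hne hle hmod ⊢
    interval_cases n <;> omega
  obtain ⟨t', ht'1, htu⟩ := (Nat.card_eq_two_iff' (1 : Fx)).1 hF2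
  set t : Q := (t' : Q) with htd
  have ht1 : t ≠ 1 := fun h => ht'1 (Subtype.ext h)
  have hfix : ∀ q, α q = q → q = 1 ∨ q = t := fun q hq => by
    by_cases h : q = 1
    · exact Or.inl h
    · exact Or.inr (congrArg Subtype.val (htu ⟨q, hq⟩ fun hh => h (congrArg Subtype.val hh)))
  have hαt : α t = t := t'.2
  -- the moved part
  let ψ : Q →* Q :=
    { toFun := fun q => α q * q
      map_one' := by simp
      map_mul' := fun p q => by rw [map_mul, mul_mul_mul_comm] }
  have hψker : ψ.ker = Fx := by
    ext q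
    rw [MonoidHom.mem_ker, hFx]
    show α q * q = 1 ↔ _
    rw [mul_eq_one_iff_eq_inv, inv_eq_of_mul_eq_one_right (hsq' q)]
  have hU8 : Nat.card ψ.range = 8 := by
    have h := ψ.ker.index_mul_card
    rw [index_ker, hψker, hF2, hQ] at h
    omega
  have htU : t ∉ ψ.range := by
    rintro ⟨v, hv⟩
    have h1 : α v = t * v := by
      rw [← hv]; show α v = α v * v * v; rw [mul_assoc, hsq', mul_one]
    have h2 : ∀ n : ℕ, (α ^ n) v = t ^ n * v := by
      intro n
      induction n with
      | zero => simp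
      | succ n ih => rw [pow_succ', MulAut.mul_apply, ih, map_mul, map_pow, hαt, h1, pow_succ, mul_assoc]
    have h3 := h2 7
    rw [hα7, MulAut.one_apply] at h3
    refine ht1 ?_
    have h4 : t ^ 7 = 1 := mul_right_cancel (b := v) (by rw [one_mul, ← h3])
    rwa [pow_eq_pow_mod 7 (show t ^ 2 = 1 by rw [pow_two]; exact hsq' t), pow_one] at h4
  have hrange : ∀ q ∈ ψ.range, α q ∈ ψ.range := by
    rintro _ ⟨v, rfl⟩
    exact ⟨α v, (map_mul α (α v) v).symm⟩
  have hunion : ∀ q : Q, q ∈ ψ.range ∨ t * q ∈ ψ.range := by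
    intro q
    have hidx : ψ.range.index = 2 := by
      have h := ψ.range.index_mul_card
      rw [hU8, hQ] at h
      omega
    by_contra hcon
    push Not at hcon
    exact hcon.2 ((mul_mem_iff_of_index_two hidx).2 ⟨fun h => absurd h htU, fun h => absurd h hcon.1⟩)
  have htrans : ∀ u ∈ ψ.range, u ≠ 1 → ∀ v ∈ ψ.range, v ≠ 1 → ∃ i : ℕ, (α ^ i) u = v := by
    intro u hu hu1 v hv hv1
    have hnf : α u ≠ u := fun h => by
      rcases hfix u h with h | h
      · exact hu1 h
      · exact htU (h ▸ hu)
    have hpow : ∀ i : ℕ, (α ^ i) u ∈ ψ.range := by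
      intro i
      induction i with
      | zero => simpa
      | succ i ih => rw [pow_succ', MulAut.mul_apply]; exact hrange _ ih
    let G : Fin 7 → {q : ψ.range // q ≠ 1} := fun i => ⟨⟨(α ^ (i : ℕ)) u, hpow i⟩, fun h => hu1 ((map_eq_one_iff _ (α ^ (i : ℕ)).injective).1 (congrArg Subtype.val h))⟩
    have hG : Function.Injective G := by
      intro i j hij
      have h : (α ^ (i : ℕ)) u = (α ^ (j : ℕ)) u := congrArg (fun g => ((g.1 : ψ.range) : Q)) hij
      by_contra hne
      refine hnf ?_
      wlog hlt : (i : ℕ) < j generalizing i j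
      · exact this hij.symm h.symm (Ne.symm hne)
          (lt_of_le_of_ne (not_lt.1 hlt) fun e => hne (Fin.ext e.symm))
      have h2 : (α ^ ((j : ℕ) - i)) u = u := by
        refine (α ^ (i : ℕ)).injective ?_
        rw [← MulAut.mul_apply, ← pow_add, Nat.add_sub_cancel' hlt.le, h]
      have hd : (j : ℕ) - i ≠ 0 ∧ (j : ℕ) - i < 7 := by omega
      generalize (j : ℕ) - i = d at h2 hd
      have h3 : ∀ n : ℕ, (α ^ (d * n)) u = u := by
        intro n
        induction n with
        | zero => simp
        | succ n ih => rw [Nat.mul_succ, pow_add, MulAut.mul_apply, h2, ih]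
      obtain ⟨n, hn⟩ : ∃ n : Fin 7, (d * n) % 7 = 1 := by
        obtain ⟨h0, h7⟩ := hd
        have : ∀ d : Fin 7, (d : ℕ) ≠ 0 → ∃ n : Fin 7, ((d : ℕ) * n) % 7 = 1 := by decide
        exact this ⟨d, h7⟩ h0
      have h4 := h3 n
      rwa [pow_eq_pow_mod _ hα7, hn, pow_one] at h4
    have hcard7 : Nat.card {q : ψ.range // q ≠ 1} = 7 := by
      haveI := Fintype.ofFinite ψ.range
      rw [Nat.card_eq_fintype_card, Fintype.card_subtype_compl, Fintype.card_subtype_eq,
        ← Nat.card_eq_fintype_card, hU8]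
    obtain ⟨i, hi⟩ := (hG.bijective_of_nat_card_le (by
      rw [hcard7, Nat.card_eq_fintype_card, Fintype.card_fin])).2 ⟨⟨v, hv⟩, fun h => hv1 (congrArg Subtype.val h)⟩
    exact ⟨i, congrArg (fun g => ((g.1 : ψ.range) : Q)) hi⟩
  -- the orbit of the fixed point
  letI : MulAction X Q := MulAction.compHom Q act
  have hsmul : ∀ (x : X) (q : Q), x • q = act x q := fun _ _ => rfl
  set O := MulAction.orbit X t with hOd
  have hOinv : ∀ (x : X) q, (act x q ∈ O ↔ q ∈ O) := fun x q => by
    rw [← hsmul]
    constructor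
    · rintro ⟨g, hg⟩
      exact ⟨x⁻¹ * g, by
        show (x⁻¹ * g) • t = q
        rw [mul_smul]; simp only at hg; rw [hg, inv_smul_smul]⟩
    · rintro ⟨g, hg⟩
      exact ⟨x * g, by
        show (x * g) • t = x • q
        rw [mul_smul]; simp only at hg; rw [hg]⟩
  have hOpow : ∀ (i : ℕ) q, (α ^ i) q ∈ O ↔ q ∈ O := fun i q => by
    rw [hα, ← map_pow]; exact hOinv _ _
  by_cases hall : ∀ x, act x t = t
  · -- invariant point
    obtain ⟨t0, ht0⟩ := QuotientGroup.mk_surjective t
    let T : Subgroup X := ((zpowers t).comap (QuotientGroup.mk' (B.subgroupOf A))).map A.subtype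
    have hmem : ∀ a, a ∈ T ↔ ∃ h : a ∈ A, ((⟨a, h⟩ : A) : Q) ∈ zpowers t := by
      intro a
      refine ⟨?_, fun ⟨h, h'⟩ => ⟨⟨a, h⟩, h', rfl⟩⟩
      rintro ⟨b, hb, rfl⟩
      exact ⟨b.2, hb⟩
    have hTn : T.Normal := ⟨fun a ha x => by
      obtain ⟨h, h'⟩ := (hmem a).1 ha
      refine (hmem _).2 ⟨hAn.conj_mem a h x, ?_⟩
      obtain ⟨i, hi⟩ := mem_zpowers_iff.1 h'
      rw [← hact x ⟨a, h⟩, ← hi, map_zpow, hall]
      exact zpow_mem (mem_zpowers t) i⟩
    have hTA : T ≤ A := map_subtype_le _
    have hBT : B ≤ T := fun b hb => (hmem b).2 ⟨hBA hb, by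
      rw [(QuotientGroup.eq_one_iff (N := B.subgroupOf A) (⟨b, hBA hb⟩ : A)).2 hb]
      exact one_mem _⟩
    haveI := hTn
    have hord : Nat.card (zpowers t) = 2 := by
      haveI : Fact (Nat.Prime 2) := ⟨Nat.prime_two⟩
      rw [Nat.card_zpowers, orderOf_eq_prime (by rw [pow_two]; exact hsq' t) ht1]
    have hcardT : Nat.card T = 2 * Nat.card B := by
      rw [show T = ((zpowers t).comap (QuotientGroup.mk' (B.subgroupOf A))).map A.subtype from rfl,
        card_map_of_injective A.subtype_injective]
      set C := (zpowers t).comap (QuotientGroup.mk' (B.subgroupOf A))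
      have h1 := C.index_mul_card
      have h2 : C.index = (zpowers t).index := index_comap_of_surjective _ (QuotientGroup.mk'_surjective _)
      have h3 := (zpowers t).index_mul_card
      have h4 := (B.subgroupOf A).index_mul_card
      rw [hcard, Nat.card_congr (subgroupOfEquivOfLe hBA).toEquiv] at h4
      rw [hord, hQ] at h3
      rw [h2, show (zpowers t).index = 8 by omega] at h1
      omega
    have hidxT : (B.subgroupOf T).index = 2 := by
      have h := (B.subgroupOf T).index_mul_card
      rw [Nat.card_congr (subgroupOfEquivOfLe hBT).toEquiv, hcardT] at h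
      exact Nat.eq_of_mul_eq_mul_right Nat.card_pos h
    refine Or.inr ⟨T, hTn, hBT, hTA, hidxT, nonempty_frame hT hTA ?_ (fun a ha => hBT (hsq a ha))
      (fun k hk a ha => hBT (htriv k hk a ha)) ?_⟩
    · have h := (T.subgroupOf A).index_mul_card
      have h4 := (B.subgroupOf A).index_mul_card
      rw [Nat.card_congr (subgroupOfEquivOfLe hBA).toEquiv, hcard] at h4
      rw [Nat.card_congr (subgroupOfEquivOfLe hTA).toEquiv, hcardT, ← h4,
        show (T.subgroupOf A).index * (2 * Nat.card B) = (2 * (T.subgroupOf A).index) * Nat.card B by ring]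
        at h
      have := Nat.eq_of_mul_eq_mul_right Nat.card_pos h
      omega
    · by_contra hcon
      push Not at hcon
      have hψt : ∀ q, ψ q ∈ zpowers t := by
        intro q
        obtain ⟨a, rfl⟩ := QuotientGroup.mk_surjective q
        obtain ⟨h, h'⟩ := (hmem _).1 (hcon s a a.2)
        show act s (a : Q) * (a : Q) ∈ _
        rw [hact, mul_comm]
        have h3 := inv_eq_of_mul_eq_one_right (hsq' (a : Q))
        rw [← h3, ← QuotientGroup.mk_inv, ← QuotientGroup.mk_mul]
        exact h'
      have := card_le_of_le (show ψ.range ≤ zpowers t by rintro _ ⟨q, rfl⟩; exact hψt q)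
      omega
  · -- invariant hyperplane
    have hO1 : (1 : Q) ∉ O := fun ⟨g, hg⟩ => ht1 ((map_eq_one_iff _ (act g).injective).1 hg)
    have hinvU : ∀ x, ∀ q ∈ ψ.range, act x q ∈ ψ.range := by
      obtain ⟨u, hu, hu1⟩ : ∃ u ∈ ψ.range, u ≠ 1 := by
        by_contra hcon
        push Not at hcon
        rw [(eq_bot_iff_forall _).2 hcon, card_bot] at hU8
        norm_num at hU8
      have hPU : ∀ v ∈ ψ.range, v ≠ 1 → (v ∈ O ↔ u ∈ O) := fun v hv hv1 => by
        obtain ⟨i, rfl⟩ := htrans u hu hu1 v hv hv1
        exact hOpow i u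
      have hpt' : ∀ i : ℕ, (α ^ i) t = t := by
        intro i
        induction i with
        | zero => simp
        | succ i ih => rw [pow_succ', MulAut.mul_apply, ih, hαt]
      have hPT : ∀ v ∈ ψ.range, v ≠ 1 → (t * v ∈ O ↔ t * u ∈ O) := fun v hv hv1 => by
        obtain ⟨i, rfl⟩ := htrans u hu hu1 v hv hv1
        have hpt := hpt' i
        have h := hOpow i (t * u)
        rw [map_mul, hpt] at h
        exact h
      have htt : ∀ q, t * (t * q) = q := fun q => by rw [← mul_assoc, hsq', one_mul]
      -- images of products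
      by_cases hU : u ∈ O <;> by_cases hTu : t * u ∈ O
      · exfalso
        have hOall : O = {1}ᶜ := by
          ext q
          refine ⟨fun h h1 => hO1 ((Set.mem_singleton_iff.1 h1) ▸ h), fun h => ?_⟩
          rcases hunion q with h' | h'
          · exact (hPU q h' h).2 hU
          · by_cases h1 : t * q = 1
            · rw [← htt q, h1, mul_one]; exact MulAction.mem_orbit_self t
            · rw [← htt q]; exact (hPT _ h' h1).2 hTu
        have h15 : (MulAction.stabilizer X t).index = 15 := by
          rw [MulAction.index_stabilizer, ← hOd, hOall, Set.ncard_compl, hQ, Set.ncard_singleton]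
        have hKs : K ≤ MulAction.stabilizer X t := fun k hk => by
          show act k t = t
          rw [MonoidHom.mem_ker.1 (hKker hk)]; rfl
        have := index_dvd_of_le hKs
        rw [h15, show K.index = 168 from hT.card] at this
        omega
      · -- `O = {t} ∪ U*`
        have hnot : ∀ v ∈ ψ.range, v ≠ 1 → t * v ∉ O := fun v hv h1 => fun h => hTu ((hPT v hv h1).1 h)
        have hclass : ∀ q, q ≠ 1 → q ∉ O → t * q ∈ ψ.range := fun q h1 hq => by
          rcases hunion q with h | h
          · exact absurd ((hPU q h h1).2 hU) hq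
          · exact h
        intro x q hq
        by_cases hq1 : q = 1
        · rw [hq1, map_one]; exact one_mem _
        obtain ⟨v, hv, hv1, hvq⟩ : ∃ v ∈ ψ.range, v ≠ 1 ∧ v ≠ q := by
          by_contra hcon
          push Not at hcon
          have hsub : ψ.range ≤ zpowers q := fun v hv => by
            by_cases h : v = 1
            · rw [h]; exact one_mem _
            · rw [hcon v hv h]; exact mem_zpowers q
          haveI : Fact (Nat.Prime 2) := ⟨Nat.prime_two⟩
          have := card_le_of_le hsub
          rw [hU8, Nat.card_zpowers, orderOf_eq_prime (by rw [pow_two]; exact hsq' q) hq1] at this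
          omega
        have hvq' : v * q ≠ 1 := fun h => hvq (by
          rw [eq_inv_of_mul_eq_one_left h, inv_eq_of_mul_eq_one_right (hsq' q)])
        have h1 : ∀ w ∈ ψ.range, w ≠ 1 → t * act x (t * w) ∈ ψ.range := fun w hw hw1 =>
          hclass _ (fun h => by
            rw [map_eq_one_iff _ (act x).injective] at h
            exact htU (by rw [eq_inv_of_mul_eq_one_left h]; exact inv_mem hw))
            (fun h => hnot w hw hw1 ((hOinv x _).1 h))
        have h2 := mul_mem (h1 v hv hv1) (h1 (v * q) (mul_mem hv hq) hvq')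
        rw [mul_mul_mul_comm, hsq', one_mul, ← map_mul, mul_mul_mul_comm, hsq', one_mul, ← mul_assoc,
          hsq', one_mul] at h2
        exact h2
      · -- `O = t U`
        intro x q hq
        by_cases hq1 : q = 1
        · rw [hq1, map_one]; exact one_mem _
        have hqO : q ∉ O := fun h => hU ((hPU q hq hq1).1 h)
        by_contra hcon
        rcases hunion (act x q) with h | h
        · exact hcon h
        · refine hqO ((hOinv x q).1 ?_)
          by_cases h1 : t * act x q = 1
          · rw [← htt (act x q), h1, mul_one]; exact MulAction.mem_orbit_self t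
          · rw [← htt (act x q)]; exact (hPT _ h h1).2 hTu
      · exfalso
        refine hall fun x => ?_
        have hxO : act x t ∈ O := ⟨x, rfl⟩
        rcases hunion (act x t) with h | h
        · by_cases h1 : act x t = 1
          · exact absurd (h1 ▸ hxO) hO1
          · exact absurd ((hPU _ h h1).1 hxO) hU
        · by_cases h1 : t * act x t = 1
          · rw [← htt (act x t), h1, mul_one]
          · rw [← htt (act x t)] at hxO
            exact absurd ((hPT _ h h1).1 hxO) hTu
    let U : Subgroup X := (ψ.range.comap (QuotientGroup.mk' (B.subgroupOf A))).map A.subtype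
    have hmem : ∀ a, a ∈ U ↔ ∃ h : a ∈ A, ((⟨a, h⟩ : A) : Q) ∈ ψ.range := by
      intro a
      refine ⟨?_, fun ⟨h, h'⟩ => ⟨⟨a, h⟩, h', rfl⟩⟩
      rintro ⟨b, hb, rfl⟩
      exact ⟨b.2, hb⟩
    have hUn : U.Normal := ⟨fun a ha x => by
      obtain ⟨h, h'⟩ := (hmem a).1 ha
      refine (hmem _).2 ⟨hAn.conj_mem a h x, ?_⟩
      rw [← hact x ⟨a, h⟩]
      exact hinvU x _ h'⟩
    have hUA : U ≤ A := map_subtype_le _
    have hBU : B ≤ U := fun b hb => (hmem b).2 ⟨hBA hb, by
      rw [(QuotientGroup.eq_one_iff (N := B.subgroupOf A) (⟨b, hBA hb⟩ : A)).2 hb]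
      exact one_mem _⟩
    haveI := hUn
    have hidxU : (U.subgroupOf A).index = 2 := by
      rw [show U.subgroupOf A = ψ.range.comap (QuotientGroup.mk' (B.subgroupOf A)) from
        comap_map_eq_self_of_injective A.subtype_injective _,
        index_comap_of_surjective _ (QuotientGroup.mk'_surjective _)]
      have h := ψ.range.index_mul_card
      rw [hU8, hQ] at h
      omega
    refine Or.inl ⟨U, hUn, hBU, hUA, hidxU, nonempty_frame hT hBU ?_
      (fun a ha => hsq a (hUA ha)) (fun k hk a ha => htriv k hk a (hUA ha)) ?_⟩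
    · have h := (B.subgroupOf U).index_mul_card
      have h2 := (U.subgroupOf A).index_mul_card
      have h3 := (B.subgroupOf A).index_mul_card
      rw [Nat.card_congr (subgroupOfEquivOfLe hBA).toEquiv, hcard] at h3
      rw [Nat.card_congr (subgroupOfEquivOfLe hUA).toEquiv, hidxU, ← h3] at h2
      rw [Nat.card_congr (subgroupOfEquivOfLe hBU).toEquiv] at h
      refine Nat.eq_of_mul_eq_mul_right (Nat.card_pos (α := B)) ?_
      omega
    · obtain ⟨u, hu, hu1⟩ : ∃ u ∈ ψ.range, u ≠ 1 := by
        by_contra hcon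
        push Not at hcon
        rw [(eq_bot_iff_forall _).2 hcon, card_bot] at hU8
        norm_num at hU8
      obtain ⟨a, rfl⟩ := QuotientGroup.mk_surjective u
      refine ⟨s, a, (hmem _).2 ⟨a.2, hu⟩, fun h => ?_⟩
      have h1 : act s (a : Q) = (a : Q) := by rw [hact, eq_comm, heq]; exact h
      rcases hfix _ h1 with h2 | h2
      · exact hu1 h2
      · exact htU (h2 ▸ hu)

end CfsgLib.RankFourQuotient.LThree
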