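import Mathlib

/-!
Owner: helper12. Three commuting members of either class of transpositions in `S₆`.
-/

set_option autoImplicit false

namespace CfsgLib.RankFourQuotient

/-- Conjugates of `s` by three elements, with the combinatorial properties of three commuting
transvections in `Sp₄(2)`. -/
structure Frame (s d : Equiv.Perm (Fin 6)) (k : Fin 3 → Equiv.Perm (Fin 6)) : Prop where
  sq : s * s = 1
  ne : s ≠ 1
  cube : d * (d * d) = 1
  comm : d * s = s * d
  cent : (Finset.univ.filter fun g : Equiv.Perm (Fin 6) => g * s = s * g).card = 48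
  count : 192 < (Finset.univ.filter fun g : Equiv.Perm (Fin 6) =>
    s * (g * s * g⁻¹) = (g * s * g⁻¹) * s).card
  unique : ∀ g : Equiv.Perm (Fin 6), s * (g * s * g⁻¹) = (g * s * g⁻¹) * s →
    d * (g * s * g⁻¹) = (g * s * g⁻¹) * d → g * s * g⁻¹ = s
  commute : ∀ i j, (k i * s * (k i)⁻¹) * (k j * s * (k j)⁻¹) =
    (k j * s * (k j)⁻¹) * (k i * s * (k i)⁻¹)
  pair : ∀ i j, i ≠ j → ∀ g : Equiv.Perm (Fin 6),
    (k i * s * (k i)⁻¹) * (g * s * g⁻¹) = (g * s * g⁻¹) * (k i * s * (k i)⁻¹) →
    (k j * s * (k j)⁻¹) * (g * s * g⁻¹) = (g * s * g⁻¹) * (k j * s * (k j)⁻¹) →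
    ∃ l, g * s * g⁻¹ = k l * s * (k l)⁻¹
  card : (Finset.univ.image fun b : Bool × Bool × Bool =>
    (if b.1 then k 0 * s * (k 0)⁻¹ else 1) * (if b.2.1 then k 1 * s * (k 1)⁻¹ else 1) *
      (if b.2.2 then k 2 * s * (k 2)⁻¹ else 1)).card = 8

/-- The transposition. -/
def shortInv : Equiv.Perm (Fin 6) := c[0, 1]

/-- The product of three disjoint transpositions. -/
def longInv : Equiv.Perm (Fin 6) := c[0, 1] * c[2, 3] * c[4, 5]

theorem frame_short : Frame shortInv c[2, 3, 4] ![1, c[0, 2] * c[1, 3], c[0, 4] * c[1, 5]] :=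
  ⟨by decide +kernel, by decide +kernel, by decide +kernel, by decide +kernel, by decide +kernel,
    by decide +kernel, by decide +kernel, by decide +kernel, by decide +kernel, by decide +kernel⟩

theorem frame_long : Frame longInv (c[0, 2, 4] * c[1, 3, 5]) ![1, c[3, 4], c[3, 5]] :=
  ⟨by decide +kernel, by decide +kernel, by decide +kernel, by decide +kernel, by decide +kernel,
    by decide +kernel, by decide +kernel, by decide +kernel, by decide +kernel, by decide +kernel⟩

/-- A Sylow two-subgroup, as a set: the centraliser of two of its central involutions. -/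
def InSylowSix (g : Equiv.Perm (Fin 6)) : Prop :=
  g * shortInv = shortInv * g ∧ g * longInv = longInv * g

instance : DecidablePred InSylowSix := fun g => by unfold InSylowSix; infer_instance

theorem card_inSylowSix :
    (Finset.univ.filter fun g : Equiv.Perm (Fin 6) => InSylowSix g).card = 16 := by decide +kernel

theorem order_three_cases : ∀ y : Equiv.Perm (Fin 6), y * (y * y) = 1 →
    8 ≤ (Finset.univ.filter fun g : Equiv.Perm (Fin 6) =>
      InSylowSix g ∧ InSylowSix (y * g * y⁻¹) ∧ InSylowSix (y⁻¹ * g * y)).card →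
    y * shortInv = shortInv * y ∨ y * longInv = longInv * y := by decide +kernel

end CfsgLib.RankFourQuotient
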